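import Cfsg.Agent.N2.Sp.GCo1
import Cfsg.Agent.N2.Sp.GCo2
import Cfsg.Agent.TAB.Use.Main
import Cfsg.Agent.OddOrderCharacters.VChar

/-!
# N2 (S3519), `Co1` and `Co2`: the traces on the Leech lattice are functions of the type (helper16)
-/

set_option autoImplicit false
set_option linter.unusedSectionVars false
set_option maxRecDepth 100000

namespace Cfsg.Agent.N2.Co2L.Dict

open Cfsg Cfsg.Agent.Characters.Core Cfsg.Agent.OddOrderCharacters.VChar Cfsg.Agent.TAB.Eng Cfsg.Agent.TAB.Use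
open Cfsg.Agent.H419.Spor.Co1 (chi psi chi_one psi_one psi_perm y6 y6_fix y6_fix2)
open Cfsg.Agent.H419.LeechIrr (lchi isCharacter_lchi repC trace_repC toC repC_toC toC_injective)
open Cfsg.Agent.CoOneType.CoOneE (pr)
open Cfsg.Agent.Co2Type.Mono (tr8 toCo0)
open Cfsg.Agent.TAB.Co1 (s276 s576)

variable {K : Type} [Group K] [Finite K]

theorem deg_le [Fintype K] {f χ : K → ℂ} (hf : IsCharacter K f) (hχ : IsIrrCharacter K χ) {a e : ℕ} (ha : χ 1 = a)
    (he : f 1 = e) (h : classInner f χ ≠ 0) : a ≤ e := by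
  have := finite_irr (G := K)
  have := Fintype.ofFinite (IrrCharacter K)
  obtain ⟨m, rfl⟩ := exists_nat_comb hf
  choose d _ hd using fun ψ : IrrCharacter K => isIrr_apply_one ψ.2
  rw [classInner_sum_nsmul_irr m ⟨χ, hχ⟩, Nat.cast_ne_zero] at h
  have h1 : ∑ ψ, m ψ * d ψ = e := by
    simp only [Finset.sum_apply, nsmul_eq_mul, Pi.mul_apply, Pi.natCast_apply, hd] at he
    exact_mod_cast he
  have h2 : d ⟨χ, hχ⟩ = a := by exact_mod_cast (hd ⟨χ, hχ⟩).symm.trans ha
  have h3 := Finset.single_le_sum (f := fun ψ => m ψ * d ψ) (fun _ _ => Nat.zero_le _) (Finset.mem_univ ⟨χ, hχ⟩)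
  simp only [h1, h2] at h3
  exact (Nat.le_mul_of_pos_left a (Nat.pos_of_ne_zero h)).trans h3

/-- a character of small degree (as in `BZ.C6.small`) -/
theorem small {n : ℕ} {d : ℕ → ℕ} {χ : ℕ → K → ℂ} (E : Enum K n d χ) {f : K → ℂ} (hf : IsCharacter K f) {e k : ℕ}
    (he : f 1 = e) (hk : k ≤ n) (h : ∀ j < n, k ≤ j → e < d j) :
    ∃ m : ℕ → ℕ, ∀ g, f g = ∑ j ∈ Finset.range k, (m j : ℂ) * χ j g := by
  have := Fintype.ofFinite K
  have h1 : ∀ j, ∃ m : ℕ, j < n → classInner f (χ j) = m := fun j => by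
    by_cases hj : j < n
    · exact (classInner_isNat hf (isIrr_isCharacter (E.irr j hj))).imp fun _ h _ => h
    · exact ⟨0, fun h => absurd h hj⟩
  choose m hm using h1
  have h2 : IsCharacter K (∑ j ∈ Finset.range k, m j • χ j) := isCharacter_sum _ fun j hj =>
    isCharacter_nsmul _ (isIrr_isCharacter (E.irr j ((Finset.mem_range.1 hj).trans_le hk)))
  have h3 := classFunction_eq_zero (gen_isClassFunction (gen_sub (gen_of_char hf) (gen_of_char h2))) fun φ hφ => by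
    obtain ⟨i, hi, rfl⟩ := E.all φ hφ
    have h4 : ∀ j ∈ Finset.range k, j ≠ i → classInner (m j • χ j) (χ i) = 0 := fun j hj hne => by
      have hj' := (Finset.mem_range.1 hj).trans_le hk
      rw [← Nat.cast_smul_eq_nsmul ℂ, classInner_smul_left,
        classInner_irr_ne (E.irr j hj') hφ fun e => hne (E.inj _ hj' _ hi e), mul_zero]
    rw [classInner_sub_left, classInner_sum_left]
    by_cases hik : i < k
    · rw [Finset.sum_eq_single i h4 fun h5 => absurd (Finset.mem_range.2 hik) h5, ← Nat.cast_smul_eq_nsmul ℂ,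
        classInner_smul_left, classInner_irr_self hφ, mul_one, hm i hi, sub_self]
    · rw [Finset.sum_eq_zero fun j hj => h4 j hj fun e => hik (e ▸ Finset.mem_range.1 hj), sub_zero]
      by_contra h5
      exact absurd (deg_le hf hφ (E.deg i hi) he h5) (not_le.2 (h i hi (not_lt.1 hik)))
  refine ⟨m, fun g => ?_⟩
  have h4 := congrFun (sub_eq_zero.1 h3) g
  simpa only [Finset.sum_apply, nsmul_eq_mul, Pi.mul_apply, Pi.natCast_apply] using h4

/-- the row number `j` -/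
noncomputable def rw (R : Rows) (j : ℕ) : List ℤ := (R.rel.getD j ([], [])).2

theorem row {D : Dat} {T : TD K D} {R : Rows} {χ : ℕ → K → ℂ} (h : Rel T R χ) {j : ℕ}
    (h1 : (R.rel.getD j ([], [])).1 = [(j, 1)]) (g : K) : χ j g = (nth (rw R j) (T.ty g) : ℂ) := by
  rw [nth_eq]
  refine h.row ?_ h1 g
  rcases Nat.lt_or_ge j R.rel.length with h2 | h2
  · rw [List.getD_eq_getElem _ _ h2]
    exact List.getElem_mem h2
  · rw [List.getD_eq_default _ _ h2] at h1
    cases h1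

theorem chi_eq (g : Co0) : chi g = (tr8 g : ℂ) / 8 := rfl

/-- the representation is faithful -/
theorem repC_inj {g : Co0} (h : repC g = 1) : g = 1 := by
  refine Subtype.ext (Equiv.ext fun v => toC_injective ?_)
  have h1 := repC_toC g v
  rw [h] at h1
  exact h1.symm

theorem eq_one_of_tr8 {g : Co0} (h : tr8 g = 192) : g = 1 := by
  have := H419.Spor.Co1.finite_co0
  refine repC_inj ?_
  have h1 := (Cfsg.Agent.S0139.result (repC : Representation ℂ Co0 (GolayPt → ℂ)) g).1 (by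
    rw [Representation.character, trace_repC, h, Module.finrank_fintype_fun_eq_card]
    have : Fintype.card GolayPt = 24 := by decide
    rw [this]
    norm_num)
  rw [h1]
  rfl

/-! ### `Co1` -/

theorem a0 : (Sp.Co1.R.rel.getD 0 ([], [])).1 = [(0, 1)] ∧ (Sp.Co1.R.rel.getD 1 ([], [])).1 = [(1, 1)] ∧
    (Sp.Co1.R.rel.getD 2 ([], [])).1 = [(2, 1)] := by decide +kernel

theorem a1 : ∀ t < 99, nth (rw Sp.Co1.R 0) t = 1 ∧ nth (rw Sp.Co1.R 1) t = nth s276 t ∧
    1 + nth s276 t + nth (rw Sp.Co1.R 2) t = nth s576 t ∧ nth (rw Sp.Co1.R 2) t ≠ -277 := by decide +kernel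

theorem a2 : 3 ≤ Sp.Co1.R.n ∧ (∀ j < Sp.Co1.R.n, 2 ≤ j → 276 < Sp.Co1.R.d j) ∧
    ∀ j < Sp.Co1.R.n, 3 ≤ j → 576 < Sp.Co1.R.d j := by decide +kernel

/-- **the squares of the traces, the traces of the squares** -/
theorem co1 (e : Spor.Co1 ≃* K) {T : TD K Sp.Co1.D} (h : Tab T Sp.Co1.R) (h0 : T.ty 1 = 0) (g : Co0) :
    tr8 g ^ 2 = 64 * nth s576 (T.ty (e (pr g))) ∧
      tr8 (g * g) = 8 * (nth s576 (T.ty (e (pr g))) - 2 * nth s276 (T.ty (e (pr g)))) := by
  obtain ⟨χ, hE, hR⟩ := h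
  obtain ⟨θ, hθ, h1⟩ := H419.Spor.Co1.exists_character
  obtain ⟨ω, hω, h2⟩ := TAB.Co1.exists_sq
  have e1 : ∀ x, (θ ∘ e.symm.toMonoidHom) (e (pr x)) = psi x := fun x => by simp [h1]
  have e2 : ∀ x, (ω ∘ e.symm.toMonoidHom) (e (pr x)) = chi x * chi x := fun x => by simp [h2]
  have e3 : (1 : K) = e (pr 1) := by rw [map_one, map_one]
  obtain ⟨m, hm⟩ := small hE (isCharacter_comp e.symm.toMonoidHom hθ) (e := 276) (k := 2)
    (by rw [e3, e1, psi_one]; norm_num) (by have := a2.1; omega) a2.2.1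
  obtain ⟨n, hn⟩ := small hE (isCharacter_comp e.symm.toMonoidHom hω) (e := 576) (k := 3)
    (by rw [e3, e2, chi_one]; norm_num) a2.1 a2.2.2
  have r0 : ∀ x, χ 0 x = 1 := fun x => by rw [row hR a0.1, (a1 _ (T.lt x)).1, Int.cast_one]
  have r1 : ∀ x, χ 1 x = nth s276 (T.ty x) := fun x => by rw [row hR a0.2.1, (a1 _ (T.lt x)).2.1]
  have r2 := row hR a0.2.2
  simp only [Finset.sum_range_succ, Finset.sum_range_zero, zero_add, r0, r1, r2, mul_one] at hm hn
  have y1 := psi_perm y6_fix y6_fix2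
  have y2 : chi (SporadicA.Co0Mono.permCo0 y6) = 0 := by
    rw [chi, H419.LeechFix.lchi_perm (MonoidHom.id Co0) (g := SporadicA.Co0Mono.permCo0 y6) (σ := y6) rfl]
    have : IsEmpty (MulAction.fixedBy GolayPt y6) := ⟨fun q => y6_fix q.1 q.2⟩
    simp
  generalize SporadicA.Co0Mono.permCo0 y6 = y at y1 y2
  have m1 := hm (e (pr 1))
  have m2 := hm (e (pr y))
  have n1 := hn (e (pr 1))
  have n2 := hn (e (pr y))
  rw [e1] at m1 m2
  rw [e2] at n1 n2
  rw [← e3, h0] at m1 n1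
  rw [psi_one, show nth s276 0 = 276 from rfl] at m1
  rw [chi_one, show nth s276 0 = 276 from rfl, show nth (rw Sp.Co1.R 2) 0 = 299 by decide +kernel] at n1
  rw [y1] at m2
  rw [y2] at n2
  have n3 := (a1 _ (T.lt (e (pr y)))).2.2.2
  generalize nth s276 (T.ty (e (pr y))) = a at m2 n2
  generalize nth (rw Sp.Co1.R 2) (T.ty (e (pr y))) = b at n2 n3
  have m3 : 276 = m 0 + m 1 * 276 := by exact_mod_cast m1
  have m4 : 0 = (m 0 : ℤ) + m 1 * a := by exact_mod_cast m2
  have n4 : 24 * 24 = n 0 + n 1 * 276 + n 2 * 299 := by exact_mod_cast n1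
  have n5 : 0 * 0 = (n 0 : ℤ) + n 1 * a + n 2 * b := by exact_mod_cast n2
  have m5 : m 1 = 1 := by
    by_contra k
    have k1 : m 1 = 0 := by omega
    rw [k1] at m3 m4
    omega
  have m6 : m 0 = 0 := by omega
  have m7 : a = 0 := by
    rw [m5, m6] at m4
    omega
  have n6 : n 2 = 1 := by
    by_contra k
    have k1 : n 2 = 0 := by omega
    rw [k1, m7] at n5
    omega
  have n7 : n 1 = 1 := by
    by_contra k
    rw [n6, m7] at n5
    omega
  have n8 : n 0 = 1 := by omega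
  have k1 := hm (e (pr g))
  have k2 := hn (e (pr g))
  have k3 := congrArg (Int.cast : ℤ → ℂ) (a1 _ (T.lt (e (pr g)))).2.2.1
  rw [e1, m5, m6, psi, chi_eq, chi_eq] at k1
  rw [e2, n6, n7, n8, chi_eq] at k2
  push_cast at k1 k2 k3
  constructor
  · have : (tr8 g : ℂ) ^ 2 = 64 * nth s576 (T.ty (e (pr g))) := by linear_combination 64 * k2 + 64 * k3
    exact_mod_cast this
  · have : (tr8 (g * g) : ℂ) = 8 * (nth s576 (T.ty (e (pr g))) - 2 * nth s276 (T.ty (e (pr g)))) := by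
      linear_combination 8 * k2 + 8 * k3 - 16 * k1
    exact_mod_cast this

/-! ### `Co2` -/

/-- the character of degree `23` -/
def s23 : List ℤ := TAB.Co2.seeds.getD 0 []

theorem b0 : (Sp.Co2.R.rel.getD 0 ([], [])).1 = [(0, 1)] ∧ (Sp.Co2.R.rel.getD 1 ([], [])).1 = [(1, 1)] := by
  decide +kernel

theorem b1 : ∀ t < 56, nth (rw Sp.Co2.R 0) t = 1 ∧ nth (rw Sp.Co2.R 1) t = nth s23 t := by decide +kernel

theorem b2 : 2 ≤ Sp.Co2.R.n ∧ ∀ j < Sp.Co2.R.n, 2 ≤ j → 24 < Sp.Co2.R.d j := by decide +kernel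

/-- **the traces** -/
theorem co2 [Nontrivial K] (e : Spor.Co2 ≃* K) {T : TD K Sp.Co2.D} (h : Tab T Sp.Co2.R) (h0 : T.ty 1 = 0) (g : Spor.Co2) :
    tr8 (toCo0 g) = 8 * (1 + nth s23 (T.ty (e g))) := by
  obtain ⟨χ, hE, hR⟩ := h
  have e1 : ∀ x, lchi (toCo0.comp e.symm.toMonoidHom) (e x) = (tr8 (toCo0 x) : ℂ) / 8 := fun x => by simp [lchi]
  have e3 : (1 : K) = e 1 := (map_one e).symm
  obtain ⟨m, hm⟩ := small hE (isCharacter_lchi (toCo0.comp e.symm.toMonoidHom)) (e := 24) (k := 2)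
    (by rw [e3, e1, map_one, SigZeroCo2.Lin.tr8_one]; norm_num) b2.1 b2.2
  have r0 : ∀ x, χ 0 x = 1 := fun x => by rw [row hR b0.1, (b1 _ (T.lt x)).1, Int.cast_one]
  have r1 : ∀ x, χ 1 x = nth s23 (T.ty x) := fun x => by rw [row hR b0.2, (b1 _ (T.lt x)).2]
  simp only [Finset.sum_range_succ, Finset.sum_range_zero, zero_add, r0, r1, mul_one] at hm
  have m1 := hm (e 1)
  rw [e1, ← e3, h0, map_one, SigZeroCo2.Lin.tr8_one, show nth s23 0 = 23 from rfl] at m1
  have m3 : 24 = m 0 + m 1 * 23 := by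
    have : (24 : ℂ) = m 0 + m 1 * 23 := by
      push_cast at m1
      linear_combination m1
    exact_mod_cast this
  have m5 : m 1 = 1 := by
    by_contra k
    have k1 : m 1 = 0 := by omega
    obtain ⟨x, hx⟩ := exists_ne (1 : K)
    obtain ⟨x, rfl⟩ := e.surjective x
    have k2 := hm (e x)
    rw [e1, k1, show m 0 = 24 by omega] at k2
    have k3 : (tr8 (toCo0 x) : ℂ) = 192 := by
      push_cast at k2
      linear_combination 8 * k2
    have k4 : toCo0 x = toCo0 1 := (eq_one_of_tr8 (by exact_mod_cast k3)).trans (map_one _).symm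
    exact hx (by rw [Subgroup.inclusion_injective _ k4, map_one])
  have k1 := hm (e g)
  rw [e1, m5, show m 0 = 1 by omega] at k1
  have : (tr8 (toCo0 g) : ℂ) = 8 * (1 + nth s23 (T.ty (e g))) := by
    push_cast at k1
    linear_combination 8 * k1
  exact_mod_cast this

end Cfsg.Agent.N2.Co2L.Dict
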