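import Cfsg.Agent.N2.Co2L.Inst
import Cfsg.Agent.N2.Co2L.Dict
import Cfsg.Agent.H831.FF.Trace
import Cfsg.Agent.LThreeMB.QuoMap

/-!
# N2 (S3519), the 2-local case of Co1 and Co2: no pure `3a` subgroup of order nine (helper52)
-/

set_option autoImplicit false
set_option maxRecDepth 100000

namespace Cfsg.Agent.N2.Co2L

open Cfsg Subgroup Cfsg.Agent.SporadicA Cfsg.Agent.SporadicA.Co0Mono Cfsg.Agent.SporadicA.Co1Simple
open Cfsg.Agent.CoOneType.CoOneE (pr pr_surjective)
open Cfsg.Agent.Co2Type.Mono (tr8)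

namespace N33

theorem card_comap (X : Subgroup Spor.Co1) : Nat.card (X.comap pr) = 2 * Nat.card X := by
  have := H419.Spor.Co1.finite_co0
  rw [LThreeMB.QuoMap.card_comap pr pr_surjective, pr, QuotientGroup.ker_mk', Co0Basic.card_center]

end N33

open N33

theorem boxN33 : BoxN33 := by
  rintro K _ _ _ ⟨e⟩ T H - - - - - Y hY
  have := H419.Spor.Co1.finite_co0
  have := Fact.mk Nat.prime_three
  by_contra h
  push Not at h
  obtain ⟨P, hP⟩ := Sylow.exists_subgroup_card_pow_prime (G := (Y.map e.toMonoidHom).comap pr) 3 (n := 2) (by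
    rw [card_comap, card_map_of_injective e.injective, hY]
    decide)
  have := Fintype.ofFinite P
  obtain ⟨f, hf⟩ := H831.FF.exists_sum (((Y.map e.toMonoidHom).comap pr).subtype.comp P.subtype)
  have h1 : ∀ a : P, a ^ 9 = 1 := fun a => by rw [show 9 = Nat.card P from hP.symm, pow_card_eq_one']
  have h2 : ∀ a : P, a ≠ 1 → tr8 (a * a : P) = -96 := fun a ha => by
    obtain ⟨y, hy, k⟩ := mem_comap.1 a.1.2
    have h3 : e.symm (pr a) = y := e.symm_apply_eq.2 k.symm
    have h4 := (Dict.co1 e.symm H.tab ((H.zero 1).2 rfl) a).2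
    rw [h3, h y hy fun k1 => ha ?_] at h4
    · exact h4
    have h5 : a * a = 1 := Subtype.ext (Subtype.ext (by
      rw [k1, map_one, ← map_one pr, CoOneType.CoOneE.pr_eq_iff, one_mul] at k
      rcases k with k | k <;> rw [coe_mul, coe_mul, k]
      exacts [mul_one 1, signCo0_mul_self _]))
    rw [← h1 a, show 9 = 2 * 4 + 1 from rfl, pow_succ, pow_mul, pow_two, h5, one_pow, one_mul]
  have h3 : ∀ a : P, a ≠ 1 → tr8 a = -96 := fun a ha => by
    have h4 : a ^ 5 * a ^ 5 = a := by rw [← pow_add, show 5 + 5 = 9 + 1 from rfl, pow_succ, h1, one_mul]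
    rw [← h4]
    exact h2 _ fun k => ha (by rw [← h4, k, mul_one])
  classical
  have h4 : ∑ x ∈ Finset.univ.erase 1, tr8 ((((Y.map e.toMonoidHom).comap pr).subtype.comp P.subtype) x) =
      ∑ x ∈ (Finset.univ : Finset P).erase 1, (-96 : ℤ) := Finset.sum_congr rfl fun a ha => h3 a (Finset.ne_of_mem_erase ha)
  rw [← Finset.add_sum_erase _ _ (Finset.mem_univ 1), map_one, SigZeroCo2.Lin.tr8_one, h4, Finset.sum_const,
    Finset.card_erase_of_mem (Finset.mem_univ _), Finset.card_univ, ← Nat.card_eq_fintype_card, hP] at hf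
  norm_num at hf
  omega

end Cfsg.Agent.N2.Co2L
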