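import Cfsg.Agent.N2.Co2L.Defs

/-!
# N2 (S3519), the 2-local case of Co1 and Co2: the main theorem from the boxes (helper26)
-/

set_option autoImplicit false

namespace Cfsg.Agent.N2.Co2L

open Cfsg Subgroup

variable {G : Type} [Group G] {L : Lx G} {H A Q : Subgroup G} {D0 D : Set G}

namespace Mn

theorem pow_two' {x : G} (h : x * x = 1) (i : ℕ) : x ^ i = 1 ∨ x ^ i = x := by
  induction i with
  | zero => exact Or.inl (pow_zero x)
  | succ i ih => exact ih.elim (fun k => Or.inr (by rw [pow_succ, k, one_mul])) fun k => Or.inl (by rw [pow_succ, k, h])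

/-- a group generated by `m` and two more elements -/
theorem form (h : St L H A Q D0 D) {s t : G} (hs : s ∈ L.U D) (ht : t ∈ L.U D)
    (hD : ∀ x ∈ D, ∃ i j k : ℕ, x = L.m ^ i * (s ^ j * t ^ k)) {u : G} (hu : u ∈ L.U D) :
    ∃ y, (y = 1 ∨ y = s ∨ y = t ∨ y = s * t) ∧ (u = y ∨ u = L.m * y) := by
  have e : ∃ i j k : ℕ, u = L.m ^ i * (s ^ j * t ^ k) := by
    induction hu using closure_induction with
    | mem x hx => exact hx.elim (fun k => ⟨1, 0, 0, by simp [k]⟩) (hD x)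
    | one => exact ⟨0, 0, 0, by simp⟩
    | mul x y _ _ ix iy =>
      obtain ⟨i, j, k, rfl⟩ := ix
      obtain ⟨i', j', k', rfl⟩ := iy
      refine ⟨i + i', j + j', k + k', ?_⟩
      have c1 : Commute (s ^ j * t ^ k) (L.m ^ i') := (show Commute _ L.m from h.ok.m_comm _).pow_right _
      have c2 : Commute (t ^ k) (s ^ j') := (show Commute t s from h.U_comm ht hs).pow_pow _ _
      rw [c1.mul_mul_mul_comm, c2.mul_mul_mul_comm, pow_add, pow_add, pow_add]
    | inv x hx ix => rwa [inv_eq_of_mul_eq_one_right (h.U_sq hx)]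
  obtain ⟨i, j, k, rfl⟩ := e
  refine ⟨s ^ j * t ^ k, ?_, (pow_two' h.ok.m_sq i).imp (fun e => by rw [e, one_mul]) fun e => by rw [e]⟩
  rcases pow_two' (h.U_sq hs) j with a | a <;> rcases pow_two' (h.U_sq ht) k with b | b <;> simp [a, b]

theorem al_of (h : St L H A Q D0 D) (hp : L.Pure (L.U D)) {z y : G} (hz : z ∈ L.U D) (hy : y ∈ L.U D) (iz : L.I8 z)
    (iy : L.I8 y) (hne : y ≠ z) (hn : ¬ L.Pp z y) : L.Al z y := by
  refine ⟨iz, iy, h.U_comm hz hy, ?_⟩
  rcases h.U_tr (mul_mem hz hy) with e | e | e | e | e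
  · exact absurd (mul_left_cancel (e.trans iz.1.symm)) hne
  · have k : y = L.m * z := by rw [← e, h.U_comm hz hy, mul_assoc, iz.1, mul_one]
    have := iy.2
    rw [k, h.ok.tr_m_mul, iz.2] at this
    omega
  · exact e
  · exact absurd e (hp _ (mul_mem hz hy))
  · exact absurd ⟨iz, iy, h.U_comm hz hy, e⟩ hn

variable [Finite G]

/-- the pure case -/
theorem pure (hR : BoxR) (hRad : BoxRad) (hSix : BoxSix) (hCnt : BoxCnt) (h : St L H A Q D0 D) (hp : L.Pure (L.U D)) :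
    False := by
  have rad := hRad G L H A Q D0 D h
  have key : ∀ s ∈ L.U D, ∀ t ∈ L.U D, s ∈ D0 → L.Al s t → L.U D = L.W s t ∧ 30 ≤ Nat.card (L.Prs (L.U D)) :=
    fun s hs t ht h0 k => hSix G L h.ok _ (m_mem_U D) (fun _ => h.U_sq) hp rad s hs t ht k (hR G L H A Q D0 D h s hs h0)
  have cnt := hCnt G L H A Q D0 D h fun s hs t ht h0 k => (key s hs t ht h0 k).1
  obtain ⟨s, hs⟩ := h.us.ne
  have i8 : ∀ x ∈ D, L.I8 x := fun x hx => h.cx.d8 x (h.us.sub hx)
  rcases h.cx.mode with ⟨m1, m2⟩ | ⟨-, m1, m2⟩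
  · obtain ⟨t, ht, it, hne, hn⟩ := rad s (mem_U hs) (i8 s hs)
    have k := (key s (mem_U hs) t ht (h.us.sub hs) (al_of h hp (mem_U hs) ht (i8 s hs) it hne hn)).2
    have e : L.Prs (D0 ∩ L.U D) = L.Prs (L.U D) :=
      Set.ext fun p => ⟨fun k => ⟨k.1.2, k.2.1.2, k.2.2⟩, fun k => ⟨⟨m1 _ k.2.2.1, k.1⟩, ⟨m1 _ k.2.2.2.1, k.2.1⟩, k.2.2⟩⟩
    rw [e] at cnt
    exact absurd ((Nat.mul_le_mul_right _ k).trans cnt) (not_le.2 m2)
  · have al : ∀ x ∈ D, ∀ y ∈ D, y ≠ x → L.Al x y := fun x hx y hy hne =>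
      al_of h hp (mem_U hx) (mem_U hy) (i8 x hx) (i8 y hy) hne (m1 x (h.us.sub hx) y (h.us.sub hy))
    obtain ⟨t, ht, hts⟩ : ∃ t ∈ D, t ≠ s := by
      by_contra k
      push Not at k
      exact h.cx.not_cent h.ok (h.cx.mem_H (h.us.sub hs)) (i8 s hs) fun a ha =>
        mul_inv_eq_iff_eq_mul.1 (k _ (h.us.cj a ha s hs))
    obtain ⟨r, hr, hrs, hrt⟩ : ∃ r ∈ D, r ≠ s ∧ r ≠ t := by
      by_contra k
      push Not at k
      obtain ⟨r, hr, pp⟩ := hR G L H A Q D0 D h s (mem_U hs) (h.us.sub hs)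
      obtain ⟨y, h1, h2⟩ := form h (mem_U hs) (mem_U ht) (fun x hx => by
        by_cases e : x = s
        · exact ⟨0, 1, 0, by simp [e]⟩
        · exact ⟨0, 0, 1, by simp [k x hx e]⟩) hr
      have a1 := (al s hs t ht hts).2.2.2
      have a2 := pp.2.1.2
      have a3 := pp.2.2.2
      have a4 := (i8 s hs).2
      have a5 := (i8 t ht).2
      have a6 := h.ok.tr_one
      rcases h2 with rfl | rfl
      · rcases h1 with rfl | rfl | rfl | rfl
        · omega
        · rw [(i8 _ hs).1] at a3; omega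
        · omega
        · rw [← mul_assoc, (i8 _ hs).1, one_mul] at a3; omega
      · rw [h.ok.tr_m_mul] at a2
        rcases h1 with rfl | rfl | rfl | rfl <;> omega
    have mem : ∀ x ∈ D, ∀ y ∈ D, y ≠ x → (x, y) ∈ L.Prs (D0 ∩ L.U D) := fun x hx y hy hne =>
      ⟨⟨h.us.sub hx, mem_U hx⟩, ⟨h.us.sub hy, mem_U hy⟩, al x hx y hy hne⟩
    let f : Fin 3 → G := ![s, t, r]
    have hf : Function.Injective f := by
      intro i j e
      fin_cases i <;> fin_cases j <;> first | rfl | simp_all [f]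
    have fD : ∀ i, f i ∈ D := fun i => by fin_cases i <;> simpa [f]
    have k : Nat.card {p : Fin 3 × Fin 3 // p.2 ≠ p.1} ≤ Nat.card (L.Prs (D0 ∩ L.U D)) :=
      Nat.card_le_card_of_injective (fun p => ⟨(f p.1.1, f p.1.2), mem _ (fD _) _ (fD _) fun e => p.2 (hf e)⟩) fun p q e => by
        have := Prod.mk.inj (congrArg Subtype.val e)
        exact Subtype.ext (Prod.ext (hf this.1) (hf this.2))
    rw [Nat.card_eq_fintype_card, show Fintype.card {p : Fin 3 × Fin 3 // p.2 ≠ p.1} = 6 by decide] at k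
    exact absurd ((Nat.mul_le_mul_right _ k).trans cnt) (not_le.2 m2)

theorem exists_ord {p : ℕ} (hp : p.Prime) {K : Subgroup G} (h : p ∣ Nat.card K) : ∃ x ∈ K, orderOf x = p := by
  have := Fact.mk hp
  obtain ⟨x, hx⟩ := exists_prime_orderOf_dvd_card' (G := K) p h
  exact ⟨x, x.2, by rw [orderOf_coe, hx]⟩

theorem exists_nine (h9 : ∀ x ∈ A, orderOf x ≠ 9) (h : 9 ∣ Nat.card A) :
    ∃ x ∈ A, ∃ y ∈ A, orderOf x = 3 ∧ orderOf y = 3 ∧ x * y = y * x ∧ y ∉ zpowers x := by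
  have : Fact (Nat.Prime 3) := ⟨Nat.prime_three⟩
  obtain ⟨W, hW⟩ := Sylow.exists_subgroup_card_pow_prime (G := A) 3 (n := 2) h
  have hc : IsMulCommutative W := IsPGroup.isMulCommutative_of_card_eq_prime_sq (p := 3) hW
  have ho : ∀ x : W, x ≠ 1 → orderOf ((x : A) : G) = 3 := fun x hx => by
    have h1 : orderOf x ∣ 3 ^ 2 := hW ▸ orderOf_dvd_natCard x
    have h2 := h9 _ (x : A).2
    rw [orderOf_coe, orderOf_coe] at h2 ⊢
    obtain ⟨i, hi, e⟩ := (Nat.dvd_prime_pow Nat.prime_three).1 h1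
    interval_cases i
    · exact absurd (orderOf_eq_one_iff.1 e) hx
    · exact e
    · exact absurd e h2
  have : Nontrivial W := Finite.one_lt_card_iff_nontrivial.1 (by rw [hW]; norm_num)
  obtain ⟨x, hx⟩ := exists_ne (1 : W)
  obtain ⟨y, hy⟩ : ∃ y : W, y ∉ zpowers x := by
    by_contra k
    push Not at k
    have h1 := Nat.card_zpowers x
    rw [(eq_top_iff' _).2 k, card_top, hW, ← orderOf_coe, ← orderOf_coe, ho x hx] at h1
    omega
  refine ⟨_, (x : A).2, _, (y : A).2, ho x hx, ho y (fun e => hy (e ▸ one_mem _)), ?_, ?_⟩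
  · exact congrArg (fun w : W => ((w : A) : G)) (hc.is_comm.comm x y)
  · rintro ⟨n, hn⟩
    exact hy ⟨n, Subtype.ext (Subtype.ext (by simpa using hn))⟩

theorem prod3 {C : Type*} [CommGroup C] {a b c x y z : C} (hx : x = a ∨ x = b ∨ x = c) (hy : y = a ∨ y = b ∨ y = c)
    (hz : z = a ∨ z = b ∨ z = c) (h1 : x ≠ y) (h2 : x ≠ z) (h3 : y ≠ z) : x * y * z = a * b * c := by
  rcases hx with rfl | rfl | rfl <;> rcases hy with rfl | rfl | rfl <;> rcases hz with rfl | rfl | rfl <;>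
    first | exact absurd rfl h1 | exact absurd rfl h2 | exact absurd rfl h3 | ac_rfl

/-- three conjugates -/
theorem three (h : St L H A Q D0 D) (h3 : 3 ∣ Nat.card A) (hD : D.ncard = 3) : L.Pure (L.U D) := by
  obtain ⟨a, b, c, h1, h2, h4, e⟩ := Set.ncard_eq_three.1 hD
  have ha : a ∈ D := by simp [e]
  have hb : b ∈ D := by simp [e]
  have hc : c ∈ D := by simp [e]
  have i8 : ∀ x ∈ D, L.I8 x := fun x hx => h.cx.d8 x (h.us.sub hx)
  have hj : a * b * c ∈ L.U D := mul_mem (mul_mem (mem_U ha) (mem_U hb)) (mem_U hc)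
  have cen : ∀ g ∈ A, g * (a * b * c) = a * b * c * g := fun g hg => by
    let : CommGroup (L.U D) := { (inferInstance : Group (L.U D)) with mul_comm := fun x y => Subtype.ext (h.U_comm x.2 y.2) }
    have k : ∀ x (hx : x ∈ D), (⟨g * x * g⁻¹, mem_U (h.us.cj g hg x hx)⟩ : L.U D) = ⟨a, mem_U ha⟩ ∨
        (⟨g * x * g⁻¹, mem_U (h.us.cj g hg x hx)⟩ : L.U D) = ⟨b, mem_U hb⟩ ∨
        (⟨g * x * g⁻¹, mem_U (h.us.cj g hg x hx)⟩ : L.U D) = ⟨c, mem_U hc⟩ := fun x hx => by
      have := h.us.cj g hg x hx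
      rw [e] at this
      simpa using this
    have := congrArg Subtype.val (prod3 (k a ha) (k b hb) (k c hc) (by simpa using h1) (by simpa using h2) (by simpa using h4))
    rw [← mul_inv_eq_iff_eq_mul, ← conj_mul, ← conj_mul]
    exact this
  have e2 : ∀ j, a * b * c = j → c = j * (a * b) := fun j k => by
    rw [← k, h.U_comm (mul_mem (mem_U ha) (mem_U hb)) (mem_U hc), mul_assoc, h.U_sq (mul_mem (mem_U ha) (mem_U hb)), mul_one]
  have fin : (c = a * b ∨ c = L.m * (a * b)) → L.Pure (L.U D) := fun k u hu => by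
    obtain ⟨y, k1, k2⟩ := form h (mem_U ha) (mem_U hb) (fun x hx => by
      rw [e] at hx
      rcases hx with rfl | rfl | rfl
      · exact ⟨0, 1, 0, by simp⟩
      · exact ⟨0, 0, 1, by simp⟩
      · exact k.elim (fun k => ⟨0, 1, 1, by simpa using k⟩) fun k => ⟨1, 1, 1, by simpa using k⟩) hu
    have a1 := (i8 a ha).2
    have a2 := (i8 b hb).2
    have a3 := (i8 c hc).2
    have a4 := h.ok.tr_one
    have a5 : L.tr (a * b) ≠ 0 := by
      rcases k with k | k <;> rw [k] at a3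
      · omega
      · rw [h.ok.tr_m_mul] at a3; omega
    have a6 : L.tr y ≠ 0 := by rcases k1 with rfl | rfl | rfl | rfl <;> omega
    rcases k2 with rfl | rfl
    · exact a6
    · rw [h.ok.tr_m_mul]; omega
  rcases h.U_tr hj with k | k | k | k | k
  · exact fin (Or.inl (by simpa using e2 _ k))
  · exact fin (Or.inr (e2 _ k))
  · exact (h.cx.not_cent h.ok (h.U_le_H hj) ⟨h.U_sq hj, k⟩ cen).elim
  · obtain ⟨x, hx, ox⟩ := exists_ord Nat.prime_three h3
    exact absurd k (h.cx.o2 x hx (ox ▸ Nat.prime_three) (by omega) _ (h.U_le_A hj) (h.U_sq hj) (cen x hx))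
  · have hj' := mul_mem (m_mem_U (L := L) D) hj
    refine (h.cx.not_cent h.ok (h.U_le_H hj') ⟨h.U_sq hj', by rw [h.ok.tr_m_mul, k]; rfl⟩ fun g hg => ?_).elim
    rw [← mul_assoc, h.ok.m_comm, mul_assoc, cen g hg, ← mul_assoc]

end Mn

open Mn in
theorem boxMain (hR : BoxR) (hRad : BoxRad) (hSix : BoxSix) (hCnt : BoxCnt) (hNp : BoxNp) (hC5 : BoxC5) (hFf : BoxFf)
    (hE6 : BoxE6) (hQ : BoxQ) (hHb : BoxHb) : BoxMain := by
  intro G _ _ L H A Q D0 o c k h0 hc
  have : Fact (Nat.Prime 2) := ⟨Nat.prime_two⟩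
  obtain ⟨P⟩ : Nonempty (Sylow 2 A) := inferInstance
  have hn : (Q.subgroupOf A).Normal := ⟨fun x hx g => k.nrm g g.2 x hx⟩
  have hQ2 : IsPGroup 2 (Q.subgroupOf A) := k.two.comap_of_injective _ A.subtype_injective
  have hQP : Q.subgroupOf A ≤ P := hQ2.le_sylow_of_normal P
  obtain ⟨s, h1, h2⟩ := c.syl ((P : Subgroup A).map A.subtype) ((map_subtype_le _).trans c.le) (P.2.map _)
  have h3 : ∀ q ∈ Q, q * s = s * q := fun q hq => h2 q ⟨⟨q, k.le hq⟩, hQP hq, rfl⟩
  have h4 : s ∈ A := c.mx Q (k.le.trans c.le) k.two h0 k.nrm s (c.mem_H h1) fun u hu => by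
    rwa [← h3 u hu, mul_inv_cancel_right]
  have h5 : s ∈ Q := by
    refine k.max' (X := A ⊓ centralizer Q) inf_le_left ?_ ?_ ⟨h4, fun q hq => h3 q hq⟩
    · refine IsPGroup.of_card (Nat.eq_prime_pow_of_unique_prime_dvd Nat.card_pos.ne' fun {p} hp hd => ?_)
      obtain ⟨x, hx, ox⟩ := exists_ord hp hd
      by_contra hne
      have := hc x hx.1 (ox ▸ hp.odd_of_ne_two hne) fun q hq => (hx.2 q hq).symm
      rw [this, orderOf_one] at ox
      exact hp.one_lt.ne ox
    · refine fun a ha x hx => ⟨A.mul_mem (A.mul_mem ha hx.1) (A.inv_mem ha), fun q hq => ?_⟩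
      have := hx.2 _ (k.nrm a⁻¹ (A.inv_mem ha) q hq)
      rw [inv_inv] at this
      calc q * (a * x * a⁻¹) = a * (a⁻¹ * q * a * x) * a⁻¹ := by group
        _ = a * x * a⁻¹ * q := by rw [this]; group
  let D : Set G := {x | ∃ a ∈ A, a * s * a⁻¹ = x}
  have us : Us A Q D0 D :=
    { sub := by rintro _ ⟨a, ha, rfl⟩; exact c.dc s h1 a (c.le ha)
      ne := ⟨s, 1, A.one_mem, by simp⟩
      cj := by rintro g hg _ ⟨a, ha, rfl⟩; exact ⟨g * a, A.mul_mem hg ha, by group⟩
      mem := by rintro _ ⟨a, ha, rfl⟩; exact k.nrm a ha s h5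
      cen := by
        rintro _ ⟨a, ha, rfl⟩ q hq
        have := h3 _ (k.nrm a⁻¹ (A.inv_mem ha) q hq)
        rw [inv_inv] at this
        calc q * (a * s * a⁻¹) = a * (a⁻¹ * q * a * s) * a⁻¹ := by group
          _ = a * s * a⁻¹ * q := by rw [this]; group }
  have h : St L H A Q D0 D := ⟨o, c, k, us⟩
  refine pure hR hRad hSix hCnt h fun u hu e => ?_
  have np := hNp G L H A Q D0 D h ⟨u, hu, e⟩
  by_cases d5 : 5 ∣ Nat.card A
  · obtain ⟨f, hf, of⟩ := exists_ord Nat.prime_five d5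
    obtain ⟨D', us', hp⟩ := hC5 G L H A Q D0 D h np f hf of
    exact pure hR hRad hSix hCnt ⟨o, c, k, us'⟩ hp
  have pr : ∀ p : ℕ, p.Prime → p ∣ Nat.card A → p = 2 ∨ p = 3 := fun p hp hd => by
    rcases np.pr p hp hd with e | e | e
    · exact Or.inl e
    · exact Or.inr e
    · exact absurd (e ▸ hd) d5
  by_cases d9 : 9 ∣ Nat.card A
  · have b := hHb G A Q (L.U D) L.m k h.m_Q o.m_ne o.m_comm h.U_le (fun _ ha _ hu => h.U_conj ha hu) np.cen pr c.o9
      fun x hx y hy ox oy cm hz => by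
        obtain ⟨v, w, a, b, c', d, ff, hv, hw⟩ := hFf G L H A Q D0 D h np x hx y hy ox oy cm hz
        refine (card_le_of_le (inf_le_inf_left Q ?_)).trans (hQ G L H A Q D0 D h np v w a b c' d ff).2
        rw [← centralizer_closure]
        exact centralizer_le (Set.insert_subset hv (Set.singleton_subset_iff.2 hw))
    obtain ⟨x, hx, y, hy, ox, oy, cm, hz⟩ := exists_nine c.o9 d9
    obtain ⟨v, w, a, b', c', d, ff, -, -⟩ := hFf G L H A Q D0 D h np x hx y hy ox oy cm hz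
    have b1 := hE6 G L H A Q D0 D h np v w a b' c' d ff
    have b2 := (hQ G L H A Q D0 D h np v w a b' c' d ff).1
    omega
  have hi : (P : Subgroup A).index ∣ 3 := by
    have e1 : (P : Subgroup A).index = 3 ^ (P : Subgroup A).index.primeFactorsList.length :=
      Nat.eq_prime_pow_of_unique_prime_dvd index_ne_zero_of_finite fun {p} hp hd =>
        (pr p hp (hd.trans (index_dvd_card _))).resolve_left fun e => P.not_dvd_index (e ▸ hd)
    generalize (P : Subgroup A).index.primeFactorsList.length = n at e1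
    have e2 : ¬ 3 ^ 2 ∣ 3 ^ n := fun e => d9 ((e1 ▸ e : 3 ^ 2 ∣ (P : Subgroup A).index).trans (index_dvd_card _))
    rw [Nat.pow_dvd_pow_iff_le_right (by norm_num)] at e2
    rw [e1]
    exact (pow_dvd_pow 3 (show n ≤ 1 by omega)).trans (by norm_num)
  have e2 : D.ncard = ((centralizer {s}).subgroupOf A).index := by
    let : MulAction A G := MulAction.compHom G ((MulAut.conj : G →* MulAut G).comp A.subtype)
    have e3 : D = MulAction.orbit A s := Set.ext fun x => ⟨fun ⟨a, ha, e⟩ => ⟨⟨a, ha⟩, e⟩, fun ⟨a, e⟩ => ⟨a, a.2, e⟩⟩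
    have e4 : (centralizer {s}).subgroupOf A = MulAction.stabilizer A s := by
      ext a
      exact mem_centralizer_singleton_iff.trans mul_inv_eq_iff_eq_mul.symm
    rw [e3, e4, MulAction.index_stabilizer]
  have e3 : ((centralizer {s}).subgroupOf A).index ∣ 3 :=
    (index_dvd_of_le (show (P : Subgroup A) ≤ (centralizer {s}).subgroupOf A from fun x hx =>
      mem_centralizer_singleton_iff.2 (h2 x (mem_map_of_mem _ hx)))).trans hi
  rcases (Nat.dvd_prime Nat.prime_three).1 e3 with e4 | e4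
  · rw [index_eq_one] at e4
    exact c.not_cent o (c.mem_H h1) (c.d8 s h1) fun a ha =>
      mem_centralizer_singleton_iff.1 (show (⟨a, ha⟩ : A) ∈ (centralizer {s}).subgroupOf A from e4 ▸ mem_top _)
  · exact three h (e4 ▸ index_dvd_card _) (e2.trans e4) u hu e

end Cfsg.Agent.N2.Co2L
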