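import Cfsg.Agent.N2.Co2L.Inst
import Cfsg.Agent.N2.Co2L.Main
import Cfsg.Agent.CoOneType.FrameFix

/-!
# N2 (S3519), the 2-local case of Co1 and Co2: from the cover to the simple group (helper26)
-/

set_option autoImplicit false

namespace Cfsg.Agent.N2.Co2L

open Cfsg Subgroup Cfsg.Agent.FP3 Cfsg.Agent.N2.Sp Cfsg.Agent.TAB.Eng Cfsg.Agent.TAB.Use Cfsg.Agent.TH.Spor

variable {L : Lx Co0} {H : Subgroup Co0} {D0 : Set Co0} {K : Type} [Group K] [Finite K] {π : H →* K} {P : K → Prop}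
  {A : Subgroup K}

namespace As

/-- the preimage -/
abbrev up (π : H →* K) (B : Subgroup K) : Subgroup Co0 := (B.comap π).map H.subtype

/-- the image -/
abbrev dn (π : H →* K) (X : Subgroup Co0) : Subgroup K := (X.subgroupOf H).map π

omit [Finite K] in
theorem mem_up {B : Subgroup K} {h : H} : h.1 ∈ up π B ↔ π h ∈ B :=
  ⟨fun ⟨_, h1, h2⟩ => (Subtype.ext h2 : _ = h) ▸ h1, fun k => ⟨h, k, rfl⟩⟩

omit [Finite K] in
theorem two_up (o : Ok L) (c : Cov L H D0 π P A) {B : Subgroup K} (hB : IsPGroup 2 B) : IsPGroup 2 (up π B) := by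
  refine (hB.comap_of_ker_isPGroup π fun x => ⟨1, Subtype.ext (Subtype.ext ?_)⟩).map _
  show x.1.1 ^ 2 ^ 1 = 1
  rcases (c.ker x.1).1 x.2 with e | e <;> rw [e]
  · exact one_pow _
  · rw [pow_one, pow_two, o.m_sq]

theorem core (o : Ok L) (c : Cov L H D0 π P A) : Core (up π A) (up π (SB.Mon.core 2 A)) where
  le := map_mono (comap_mono (map_subtype_le _))
  two := two_up o c (SB.Mon.core_pgroup 2)
  nrm := by
    rintro _ ⟨a, ha, rfl⟩ _ ⟨q, hq, rfl⟩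
    exact ⟨a * q * a⁻¹, by simpa using SB.Mon.core_conj (S := A) 2 (π a) ha (π q) hq, rfl⟩
  max := fun Y h1 h2 X h3 h4 h5 x hx => by
    have e1 : dn π Y ≤ A := by
      rintro _ ⟨y, hy, rfl⟩
      exact mem_up.1 (h1 hy)
    have e2 : A ≤ normalizer (dn π Y : Set K) := SB.SporB.norm_of (by
      rintro a ha _ ⟨y, hy, rfl⟩
      obtain ⟨b, rfl⟩ := c.surj a
      exact ⟨b * y * b⁻¹, h2 _ (mem_up.2 ha) _ hy, by simp⟩)
    have e3 : dn π Y ≤ normalizer (dn π X : Set K) := SB.SporB.norm_of (by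
      rintro _ ⟨b, hb, rfl⟩ _ ⟨y, hy, rfl⟩
      exact ⟨b * y * b⁻¹, h5 _ hb _ hy, by simp⟩)
    have e4 := (H230.le_pCoreOf (p := 2) (map_mono (comap_mono h3)) e3
      ((h4.comap_of_injective _ H.subtype_injective).map π)).trans (H230.pCoreOf_le_pCoreOf e1 e2)
    obtain ⟨y, -, rfl⟩ := h1 (h3 hx)
    exact mem_up.2 (e4 ⟨y, hx, rfl⟩)

theorem two_of (hM : BoxMain) (hG : BoxG0) (o : Ok L) (c : Cov L H D0 π P A)
    (mix : pCore 2 A ≠ ⊥ → (∃ x ∈ A, (orderOf x).Prime ∧ orderOf x ≠ 2 ∧ ∀ q ∈ SB.Mon.core 2 A, x * q = q * x) →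
      (∀ e ∈ SB.Mon.core 2 A, (∀ q ∈ SB.Mon.core 2 A, e * q = q * e) → ¬ P e) → False) : pCore 2 A = ⊥ := by
  have := CoOneType.FrameFix.finite_co0
  by_contra h0
  have k := core o c
  by_cases hc : ∀ x ∈ up π A, Odd (orderOf x) → (∀ q ∈ up π (SB.Mon.core 2 A), x * q = q * x) → x = 1
  · refine hM _ L H _ _ D0 o c.cx k ?_ hc
    obtain ⟨⟨u, hu⟩, h1⟩ := ne_bot_iff_exists_ne_one.1 h0
    obtain ⟨v, hv⟩ := c.surj u
    refine ⟨v, mem_up.2 (hv ▸ ⟨u, hu, rfl⟩), not_or.1 fun e => h1 (Subtype.ext (Subtype.ext ?_))⟩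
    exact hv.symm.trans ((c.ker v).2 e)
  push Not at hc
  obtain ⟨_, ⟨x, hx, rfl⟩, h1, h2, h3⟩ := hc
  refine mix h0 ?_ fun e he hz hP => h3 ?_
  · rw [coe_subtype, orderOf_coe] at h1
    have h4 : orderOf x ≠ 1 := fun e => h3 (congrArg Subtype.val (orderOf_eq_one_iff.1 e))
    have hp := Nat.minFac_prime h4
    have h5 := orderOf_pow_orderOf_div (orderOf_pos x).ne' (Nat.minFac_dvd (orderOf x))
    have h6 : (orderOf x).minFac ≠ 2 := fun e => Nat.not_even_iff_odd.2 h1 (even_iff_two_dvd.2 (e ▸ Nat.minFac_dvd _))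
    have h7 : ∀ q ∈ up π (SB.Mon.core 2 A), Commute (x ^ (orderOf x / (orderOf x).minFac)).1 q := fun q hq =>
      (show Commute x.1 q from h2 q hq).pow_left _
    have h8 : π (x ^ (orderOf x / (orderOf x).minFac)) ∈ A := (A.comap π).pow_mem hx _
    generalize x ^ (orderOf x / (orderOf x).minFac) = y at h5 h7 h8
    generalize (orderOf x).minFac = p at hp h5 h6
    have := Fact.mk hp
    have h9 : orderOf (π y) = p := orderOf_eq_prime (by rw [← map_pow, ← h5, pow_orderOf_eq_one, map_one]) fun e => by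
      have e2 : y ^ 2 = 1 := Subtype.ext (by
        show y.1 ^ 2 = 1
        rcases (c.ker y).1 e with e | e <;> rw [e]
        · exact one_pow _
        · rw [pow_two, o.m_sq])
      exact h6 ((Nat.prime_dvd_prime_iff_eq hp Nat.prime_two).1 (h5 ▸ orderOf_dvd_of_pow_eq_one e2))
    refine ⟨π y, h8, h9 ▸ hp, h9 ▸ h6, fun q hq => ?_⟩
    obtain ⟨r, rfl⟩ := c.surj q
    rw [← map_mul, ← map_mul]
    exact congrArg π (Subtype.ext (h7 r (mem_up.2 hq)).eq)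
  · obtain ⟨s, hs, rfl⟩ := c.lift e hP
    refine hG _ L H _ _ D0 o c.cx k s hs (mem_up.2 he) ?_ _ ⟨x, hx, rfl⟩ h1 h2
    rintro _ ⟨q, hq, rfl⟩
    have e1 : π (q * s * q⁻¹ * s⁻¹) = 1 := by
      rw [map_mul, map_mul, map_mul, ← hz _ hq, map_inv, map_inv, mul_inv_cancel_right, mul_inv_cancel]
    rcases (c.ker _).1 e1 with e | e
    · exact mul_inv_eq_iff_eq_mul.1 (mul_inv_eq_one.1 e)
    · have e2 : q.1 * s.1 * q.1⁻¹ = L.m * s.1 := mul_inv_eq_iff_eq_mul.1 e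
      have e3 := o.tr_conj q.1 s.1
      rw [e2, o.tr_m_mul, (c.cx.d8 _ hs).2] at e3
      omega

end As

theorem two_Co1_of (hM : BoxMain) (hG : BoxG0) (hO : BoxOk) (hC : BoxCov1) (hN : BoxN33) (hX : BoxMix1) :
    Bad (fun K _ => Spor.IsoCo1 K) Sp.Co1.D Sp.Co1.R Sp.Co1.nu fun _ _ _ A => pCore 2 A = ⊥ := by
  intro K _ _ _ hK T h hu A Γ hm hb
  obtain ⟨L, h1, o⟩ := hO
  obtain ⟨H, D0, π, c⟩ := hC K hK T h hu A Γ hm hb L h1 o
  exact As.two_of hM hG o c (hX K hK T h hu A Γ hm hb (hN K hK T h hu A Γ hm hb))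

theorem two_Co2_of (hM : BoxMain) (hG : BoxG0) (hO : BoxOk) (hC : BoxCov2) (hX : BoxMix2) :
    Bad (fun K _ => Spor.IsoCo2 K) Sp.Co2.D Sp.Co2.R Sp.Co2.nu fun _ _ _ A => pCore 2 A = ⊥ := by
  intro K _ _ _ hK T h hu A Γ hm hb
  obtain ⟨L, h1, o⟩ := hO
  obtain ⟨H, D0, π, c⟩ := hC K hK T h hu A Γ hm hb L h1 o
  exact As.two_of hM hG o c (hX K hK T h hu A Γ hm hb)

end Cfsg.Agent.N2.Co2L
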