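import Cfsg.Agent.N2.Co2L.Defs

/-!
# N2 (S3519), the 2-local case of Co1 and Co2: the prime 5 (helper71)
-/

set_option autoImplicit false

namespace Cfsg.Agent.N2.Co2L

open Cfsg Subgroup
open scoped symmDiff

namespace C5

theorem card_sd (s t : Finset (Fin 24)) : (s ∆ t).card + 2 * (s ∩ t).card = s.card + t.card := by
  have h1 := Finset.card_sdiff_add_card_inter s t
  have h2 := Finset.card_sdiff_add_card_inter t s
  rw [Finset.inter_comm] at h2
  rw [symmDiff_def, Finset.sup_eq_union, Finset.card_union_of_disjoint disjoint_sdiff_sdiff]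
  omega

variable {G : Type} [Group G]

/-- `U` as a binary code -/
structure Cd (L : Lx G) (U : Subgroup G) (S : G → Finset (Fin 24)) : Prop where
  ok : Ok L
  m : L.m ∈ U
  sq : ∀ a ∈ U, a * a = 1
  mul : ∀ a ∈ U, ∀ b ∈ U, S (a * b) = S a ∆ S b
  tr : ∀ a ∈ U, L.tr a = 24 - 2 * ((S a).card : ℤ)

/-- a complement of `⟨m⟩` -/
structure Cp (L : Lx G) (U V : Subgroup G) : Prop where
  le : V ≤ U
  nm : L.m ∉ V
  or : ∀ u ∈ U, u ∉ V → L.m * u ∈ V

open Classical in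
/-- the points which lie in no word -/
noncomputable def B (V : Subgroup G) (S : G → Finset (Fin 24)) : Finset (Fin 24) := Finset.univ.filter fun i => ∀ u ∈ V, i ∉ S u

open Classical in
/-- the number of points with the same character -/
noncomputable def mu (V : Subgroup G) (S : G → Finset (Fin 24)) (i : Fin 24) : ℕ :=
  (Finset.univ.filter fun j => ∀ u ∈ V, (i ∈ S u ↔ j ∈ S u)).card

/-- the octads outside `V` -/
def X (L : Lx G) (U V : Subgroup G) : Set G := {x | x ∈ U ∧ x ∉ V ∧ L.tr x = 8}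

/-- the number of elements with a given trace -/
def nt (L : Lx G) (V : Subgroup G) [Fintype V] (τ : ℤ) : ℕ := (Finset.univ.filter fun u : V => L.tr u = τ).card

variable {L : Lx G} {U V W : Subgroup G} {S : G → Finset (Fin 24)}

theorem mem_B {i : Fin 24} : i ∈ B V S ↔ ∀ u ∈ V, i ∉ S u := by simp [B]

theorem five [Fintype V] (o : Ok L) {f : G} (hf : orderOf f = 5) (h1 : ∀ u ∈ V, f * u * f⁻¹ ∈ V)
    (h2 : ∀ u ∈ V, f * u = u * f → u = 1) {τ : ℤ} (hτ : τ ≠ 24) : 5 ∣ nt L V τ := by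
  classical
  have : Fact (Nat.Prime 5) := ⟨by norm_num⟩
  let F : Function.End {u : V // L.tr u = τ} := fun u => ⟨⟨f * u.1 * f⁻¹, h1 _ u.1.2⟩, (o.tr_conj _ _).trans u.2⟩
  have h3 : ∀ (k : ℕ) u, (((F ^ k) u).1 : G) = f ^ k * u.1 * (f ^ k)⁻¹ := fun k u => by
    induction k with
    | zero => exact (by group : (u.1 : G) = f ^ 0 * u.1 * (f ^ 0)⁻¹)
    | succ k ih =>
      rw [pow_succ', pow_succ']
      exact (congrArg (fun x => f * x * f⁻¹) ih).trans (by group)
  have h4 := Equiv.Perm.card_fixedPoints_modEq (f := F) (p := 5) (n := 1) (funext fun u => Subtype.ext (Subtype.ext ((h3 _ u).trans (by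
    rw [pow_one, show f ^ 5 = 1 from hf ▸ pow_orderOf_eq_one f, one_mul, inv_one, mul_one]
    rfl))))
  have : IsEmpty F.fixedPoints := ⟨fun u => hτ (by
    rw [← u.1.2, h2 _ u.1.1.2 (mul_inv_eq_iff_eq_mul.1 (congrArg (fun x => (x.1 : G)) u.2)), o.tr_one])⟩
  rw [Fintype.card_eq_zero (α := F.fixedPoints), Fintype.card_subtype] at h4
  exact (Nat.modEq_zero_iff_dvd).1 h4

namespace Cd

variable (h : Cd L U S)
include h

theorem S_m : S L.m = Finset.univ := Finset.eq_univ_of_card _ (by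
  have := h.tr _ h.m
  rw [h.ok.tr_m] at this
  rw [Fintype.card_fin]
  omega)

theorem mem_m {u : G} (hu : u ∈ U) (i : Fin 24) : i ∈ S (L.m * u) ↔ i ∉ S u := by
  simp [h.mul _ h.m _ hu, h.S_m, Finset.mem_symmDiff]

/-- the character of a point -/
def ep (hV : V ≤ U) (i : Fin 24) : V →* ℤ where
  toFun u := if i ∈ S u then -1 else 1
  map_one' := if_neg (by
    have := h.mul 1 (one_mem _) 1 (one_mem _)
    rw [mul_one, symmDiff_self] at this
    rw [OneMemClass.coe_one, this]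
    exact Finset.notMem_empty i)
  map_mul' a b := by
    rw [coe_mul, h.mul _ (hV a.2) _ (hV b.2)]
    by_cases h1 : i ∈ S a <;> by_cases h2 : i ∈ S b <;> simp [h1, h2, Finset.mem_symmDiff]

theorem ep_apply (hV : V ≤ U) (i : Fin 24) (u : V) : h.ep hV i u = if i ∈ S u then -1 else 1 := rfl

theorem tr_eq (hV : V ≤ U) (u : V) : L.tr u = ∑ i, h.ep hV i u := by
  have : ∀ i, h.ep hV i u = 1 - 2 * if i ∈ S u then 1 else 0 := fun i => by
    rw [ep_apply]
    split_ifs <;> rfl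
  simp [h.tr _ (hV u.2), this, mul_comm]

theorem sum1 [Fintype V] (hV : V ≤ U) : ∑ u : V, L.tr u = Fintype.card V * (B V S).card := by
  classical
  simp only [h.tr_eq hV]
  rw [Finset.sum_comm, B, Finset.card_filter, Nat.cast_sum, Finset.mul_sum]
  refine Finset.sum_congr rfl fun i _ => ?_
  rw [sum_hom_units, if_congr (Q := ∀ u ∈ V, i ∉ S u) ?_ rfl rfl]
  · split_ifs <;> simp
  · simp [MonoidHom.ext_iff, ep_apply]

theorem sum2 [Fintype V] (hV : V ≤ U) : ∑ u : V, L.tr u * L.tr u = Fintype.card V * (∑ i, mu V S i : ℕ) := by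
  classical
  simp only [h.tr_eq hV, Finset.sum_mul_sum]
  rw [Finset.sum_comm, Nat.cast_sum, Finset.mul_sum]
  refine Finset.sum_congr rfl fun i _ => ?_
  rw [Finset.sum_comm, mu, Finset.card_filter, Nat.cast_sum, Finset.mul_sum]
  refine Finset.sum_congr rfl fun j _ => ?_
  refine (sum_hom_units (h.ep hV i * h.ep hV j)).trans ?_
  rw [if_congr (Q := ∀ u ∈ V, (i ∈ S u ↔ j ∈ S u)) ?_ rfl rfl]
  · split_ifs <;> simp
  · rw [MonoidHom.ext_iff, Subtype.forall]
    refine forall₂_congr fun u _ => ?_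
    rw [MonoidHom.mul_apply, ep_apply, ep_apply]
    by_cases h1 : i ∈ S u <;> by_cases h2 : j ∈ S u <;> simp [h1, h2]

theorem cnt [Fintype V] (c : Cp L U V) (φ : ℤ → ℤ) :
    ∑ u : V, φ (L.tr u) = φ 24 + nt L V 8 * φ 8 + nt L V 0 * φ 0 + nt L V (-8) * φ (-8) := by
  classical
  have h1 : ∀ u : V, φ (L.tr u) = (if u = 1 then φ 24 else 0) + (if L.tr u = 8 then 1 else 0) * φ 8 +
      (if L.tr u = 0 then 1 else 0) * φ 0 + (if L.tr u = -8 then 1 else 0) * φ (-8) := fun u => by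
    by_cases e : u = 1
    · simp [e, h.ok.tr_one]
    · rcases h.ok.inv u (h.sq _ (c.le u.2)) with k | k | k | k | k
      exacts [absurd (Subtype.ext k) e, absurd (k ▸ u.2) c.nm, by simp [e, k], by simp [e, k], by simp [e, k]]
  simp only [h1, Finset.sum_add_distrib, ← Finset.sum_mul, Finset.sum_boole, nt, Finset.sum_ite_eq', Finset.mem_univ, if_true]

theorem B_sub (c : Cp L U V) {x : G} (hx : x ∈ U) (hV : x ∉ V) : B V S ⊆ S x := fun i hi =>
  not_not.1 fun k => mem_B.1 hi _ (c.or x hx hV) ((h.mem_m hx i).2 k)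

theorem card8 {x : G} (hx : x ∈ X L U V) : (S x).card = 8 := by
  have := h.tr x hx.1
  rw [hx.2.2] at this
  omega

theorem m_m (u : G) : L.m * (L.m * u) = u := by rw [← mul_assoc, h.ok.m_sq, one_mul]

theorem inter (c : Cp L U V) (h4 : (B V S).card = 4) {x y : G} (hx : x ∈ X L U V) (hy : y ∈ X L U V) (hne : x ≠ y) :
    S x ∩ S y = B V S := by
  refine (Finset.eq_of_subset_of_card_le (Finset.subset_inter (h.B_sub c hx.1 hx.2.1) (h.B_sub c hy.1 hy.2.1)) ?_).symm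
  have h1 := card_sd (S x) (S y)
  have h2 := h.tr _ (mul_mem hx.1 hy.1)
  rw [← h.mul _ hx.1 _ hy.1, h.card8 hx, h.card8 hy] at h1
  rcases h.ok.inv _ (h.sq _ (mul_mem hx.1 hy.1)) with k | k | k | k | k
  · exact absurd (mul_right_cancel (k.trans (h.sq _ hy.1).symm)) hne
  · rw [k, h.S_m, Finset.card_univ, Fintype.card_fin] at h1
    omega
  all_goals omega

theorem mem_X (c : Cp L U V) {u : G} (hu : u ∈ V) (k : L.tr u = -8) : L.m * u ∈ X L U V :=
  ⟨mul_mem h.m (c.le hu), fun e => c.nm ((mul_mem_cancel_right hu).1 e), by rw [h.ok.tr_m_mul, k, neg_neg]⟩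

theorem nt_le [Fintype V] (c : Cp L U V) (h4 : (B V S).card = 4) : nt L V (-8) ≤ 5 := by
  classical
  have h1 := Finset.card_le_card (s := (Finset.univ.filter fun u : V => L.tr u = -8).biUnion fun u => S (L.m * u) \ B V S)
    (t := (B V S)ᶜ) (Finset.biUnion_subset.2 fun u _ i hi => Finset.mem_compl.2 (Finset.mem_sdiff.1 hi).2)
  rw [Finset.card_biUnion, Finset.sum_congr rfl (g := fun _ => 4), Finset.sum_const, Finset.card_compl, h4, Fintype.card_fin,
    smul_eq_mul] at h1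
  · unfold nt
    omega
  · intro u hu
    have k := h.mem_X c u.2 (Finset.mem_filter.1 hu).2
    rw [Finset.card_sdiff_of_subset (h.B_sub c k.1 k.2.1), h.card8 k, h4]
  · intro u hu v hv hne
    have k := h.inter c h4 (h.mem_X c u.2 (Finset.mem_filter.1 hu).2) (h.mem_X c v.2 (Finset.mem_filter.1 hv).2)
      fun e => hne (Subtype.ext (mul_left_cancel e))
    exact Finset.disjoint_left.2 fun i h2 h3 => (Finset.mem_sdiff.1 h2).2
      (k ▸ Finset.mem_inter.2 ⟨(Finset.mem_sdiff.1 h2).1, (Finset.mem_sdiff.1 h3).1⟩)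

theorem pure (c : Cp L U V) (h4 : (B V S).card = 4) {D : Set G} (hD : D ⊆ X L U V) : L.Pure (L.U D) := by
  have key : ∀ g ∈ insert L.m D, ∀ u, (u ∈ U ∧ 8 ∣ (S u).card ∧ ∀ y ∈ X L U V, 4 ∣ (S u ∩ S y).card) →
      g * u ∈ U ∧ 8 ∣ (S (g * u)).card ∧ ∀ y ∈ X L U V, 4 ∣ (S (g * u) ∩ S y).card := by
    rintro g hg u ⟨h1, h2, h3⟩
    have h5 := card_sd (S g) (S u)
    have h6 := fun y => card_sd (S g ∩ S y) (S u ∩ S y)
    have h7 : g ∈ U := hg.elim (· ▸ h.m) fun k => (hD k).1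
    simp only [← Finset.inf_eq_inter, ← inf_symmDiff_distrib_right, ← h.mul _ h7 _ h1] at h6
    simp only [Finset.inf_eq_inter] at h6
    rw [← h.mul _ h7 _ h1] at h5
    refine ⟨mul_mem h7 h1, ?_, fun y hy => ?_⟩
    · rcases hg with rfl | hg
      · rw [h.S_m, Finset.univ_inter, Finset.card_univ, Fintype.card_fin] at h5
        omega
      · have := h3 g (hD hg)
        rw [Finset.inter_comm, h.card8 (hD hg)] at h5
        omega
    have h8 := h6 y
    have h9 := h3 y hy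
    have h10 : S y ∩ (S u ∩ S y) = S u ∩ S y := Finset.inter_eq_right.2 Finset.inter_subset_right
    rcases hg with rfl | hg
    · rw [h.S_m, Finset.univ_inter, h10, h.card8 hy] at h8
      omega
    by_cases e : g = y
    · rw [e, Finset.inter_self, h10, h.card8 hy] at h8
      rw [e]
      omega
    rw [h.inter c h4 (hD hg) hy e, h4] at h8
    by_cases k : u ∈ V
    · rw [Finset.eq_empty_of_forall_notMem (s := B V S ∩ _) fun i hi => mem_B.1 (Finset.mem_inter.1 hi).1 u k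
        (Finset.mem_inter.1 (Finset.mem_inter.1 hi).2).1, Finset.card_empty] at h8
      omega
    · rw [Finset.inter_eq_left.2 (Finset.subset_inter (h.B_sub c h1 k) (h.B_sub c hy.1 hy.2.1)), h4] at h8
      omega
  intro u hu k
  have h1 : u ∈ U ∧ 8 ∣ (S u).card ∧ ∀ y ∈ X L U V, 4 ∣ (S u ∩ S y).card := by
    clear k
    induction hu using closure_induction_left with
    | one =>
      have := h.mul 1 (one_mem _) 1 (one_mem _)
      rw [mul_one, symmDiff_self] at this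
      simp [this]
    | mul_left x hx y _ ih => exact key x hx y ih
    | inv_mul_cancel x hx y _ ih =>
      rw [inv_eq_of_mul_eq_one_right (h.sq x (hx.elim (· ▸ h.m) fun k => (hD k).1))]
      exact key x hx y ih
  have := h.tr u h1.1
  omega

theorem le_mu (hV : V ≤ U) (c : Cp L U W) {i : Fin 24} (hi : i ∈ B W S) : (B W S).card ≤ mu V S i := by
  classical
  refine Finset.card_le_card fun j hj => ?_
  simp only [Finset.mem_filter, Finset.mem_univ, true_and]
  intro u hu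
  by_cases k : u ∈ W
  · exact iff_of_false (mem_B.1 hi u k) (mem_B.1 hj u k)
  · exact iff_of_true (h.B_sub c (hV hu) k hi) (h.B_sub c (hV hu) k hj)

theorem uniq (c : Cp L U V) (c' : Cp L U W) (h4 : (B V S).card = 4) (h4' : (B W S).card = 4) (h36 : ∑ i, mu V S i = 36) :
    W ≤ V := by
  classical
  intro x hx
  by_contra k
  have h1 : Disjoint (B V S) (B W S) := Finset.disjoint_left.2 fun i a b => mem_B.1 b x hx (h.B_sub c (c'.le hx) k a)
  have h2 : ∑ i, (1 + 3 * if i ∈ B V S ∪ B W S then 1 else 0) ≤ ∑ i, mu V S i := Finset.sum_le_sum fun i _ => by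
    split_ifs with e
    · exact (Finset.mem_union.1 e).elim (fun a => h4.ge.trans (h.le_mu c.le c a)) fun a => h4'.ge.trans (h.le_mu c.le c' a)
    · exact Finset.card_pos.2 ⟨i, by simp⟩
  rw [Finset.sum_add_distrib, ← Finset.mul_sum, Finset.sum_boole, Finset.filter_univ_mem, Finset.card_union_of_disjoint h1, h4, h4',
    h36] at h2
  simp at h2

end Cd

theorem arith {N a b c k M n : ℕ} {t : ℤ} (h1 : (N : ℤ) = 1 + a + b + c) (h2 : (24 : ℤ) + a * 8 - c * 8 = N * k)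
    (h3 : (576 : ℤ) + a * 64 + c * 64 = N * M) (h4 : 5 ∣ b) (h5 : 5 ∣ c) (h6 : 0 < b) (h7 : 0 < c) (h8 : t = 4 ∨ t = -1)
    (h9 : (k : ℤ) + 4 * t = 5 * n) (h10 : k = 4 → c ≤ 5) : k = 4 ∧ M = 36 := by
  have h11 : k = 4 := by
    by_contra e
    have : (N : ℤ) * 9 ≤ N * k := mul_le_mul_of_nonneg_left (by omega) (by omega)
    omega
  have h12 := h10 h11
  subst h11
  have h13 : N ∣ 2 ^ 10 := Int.natCast_dvd_natCast.1 ⟨M - 32, by rw [mul_sub, ← h3]; push_cast at h2 ⊢; omega⟩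
  obtain ⟨j, h14, rfl⟩ := (Nat.dvd_prime_pow Nat.prime_two).1 h13
  refine ⟨rfl, ?_⟩
  interval_cases j <;> omega

variable {H A Q : Subgroup G} {D0 D : Set G}

theorem fix (h : St L H A Q D0 D) (np : Np L A Q D) {f : G} (hA : f ∈ A) (hf : orderOf f = 5) {u : G} (hu : u ∈ L.U D)
    (k : f * u = u * f) : u = 1 ∨ u = L.m := by
  have h1 : (orderOf f).Prime := by rw [hf]; norm_num
  have h2 : orderOf f ≠ 2 := by omega
  have h3 := h.cx.o4 f hA h1 h2 (Or.inr (np.t5 f hA hf))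
  have h4 := mul_mem (m_mem_U D) hu
  rcases h.U_tr hu with e | e | e | e | e
  exacts [Or.inl e, Or.inr e, absurd k (h3 u (h.U_le_A hu) ⟨h.U_sq hu, e⟩), absurd e (h.cx.o2 f hA h1 h2 u (h.U_le_A hu) (h.U_sq hu) k),
    absurd (by rw [← mul_assoc, h.ok.m_comm, mul_assoc, k, mul_assoc])
      (h3 _ (h.U_le_A h4) ⟨h.U_sq h4, by rw [h.ok.tr_m_mul, e, neg_neg]⟩)]

theorem exists_cp (h : St L H A Q D0 D) (np : Np L A Q D) {f : G} (hA : f ∈ A) (hf : orderOf f = 5) :
    ∃ V, Cp L (L.U D) V ∧ ∀ u ∈ V, f * u * f⁻¹ ∈ V := by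
  have h5 : ∀ u, f * (f * (f * (f * (f * u * f⁻¹) * f⁻¹) * f⁻¹) * f⁻¹) * f⁻¹ = u := fun u =>
    calc _ = f ^ 5 * u * (f ^ 5)⁻¹ := by simp only [pow_succ, pow_zero, one_mul, mul_inv_rev, mul_assoc]
      _ = u := by rw [← hf, pow_orderOf_eq_one, one_mul, inv_one, mul_one]
  let V : Subgroup G :=
    { carrier := {x | ∃ u ∈ L.U D, u * (f * u * f⁻¹) = x}
      one_mem' := ⟨1, one_mem _, by group⟩
      mul_mem' := by
        rintro _ _ ⟨u, hu, rfl⟩ ⟨v, hv, rfl⟩
        exact ⟨u * v, mul_mem hu hv, by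
          rw [← conj_mul, mul_assoc u, mul_assoc u, ← mul_assoc v, ← mul_assoc _ v, h.U_comm hv (h.U_conj hA hu)]⟩
      inv_mem' := by
        rintro _ ⟨u, hu, rfl⟩
        exact ⟨u, hu, (inv_eq_of_mul_eq_one_right (h.U_sq (mul_mem hu (h.U_conj hA hu)))).symm⟩ }
  refine ⟨V, ⟨?_, ?_, fun u hu k => ?_⟩, ?_⟩
  · rintro _ ⟨u, hu, rfl⟩
    exact mul_mem hu (h.U_conj hA hu)
  · rintro ⟨u, hu, k⟩
    have h1 : f * u * f⁻¹ = u * L.m := by rw [← k, ← mul_assoc, h.U_sq hu, one_mul]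
    have h2 : f * (u * L.m) * f⁻¹ = u := by rw [← conj_mul, h1, h.ok.conj_m, mul_assoc, h.ok.m_sq, mul_one]
    have h3 := h5 u
    rw [h1, h2, h1, h2, h1] at h3
    exact h.ok.m_ne (mul_eq_left.1 h3)
  · have h1 := h.U_conj hA hu
    have h3 := h.U_conj hA (h.U_conj hA h1)
    have h2 : f * u * f⁻¹ * (f * (f * u * f⁻¹) * f⁻¹) * (f * (f * (f * u * f⁻¹) * f⁻¹) * f⁻¹ *
      (f * (f * (f * (f * u * f⁻¹) * f⁻¹) * f⁻¹) * f⁻¹)) ∈ V := mul_mem ⟨_, h1, rfl⟩ ⟨_, h3, rfl⟩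
    have h4 : _ ∈ L.U D := mul_mem (mul_mem h1 (h.U_conj hA h1)) (mul_mem h3 (h.U_conj hA h3))
    rcases fix h np hA hf (mul_mem hu h4) (by
      rw [← mul_inv_eq_iff_eq_mul]
      refine Eq.trans ?_ ((congrArg (_ * ·) (h5 u)).trans (h.U_comm h4 hu))
      simp only [mul_assoc, inv_mul_cancel_left]) with e | e
    · exact absurd (by rw [eq_inv_of_mul_eq_one_left e]; exact inv_mem h2) k
    · rwa [← e, h.U_comm hu h4, mul_assoc, h.U_sq hu, mul_one]
  · rintro _ ⟨u, hu, rfl⟩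
    exact ⟨_, h.U_conj hA hu, conj_mul⟩

theorem main [Finite G] (hF : BoxFpf) (hR : BoxR) (h : St L H A Q D0 D) (np : Np L A Q D) {f : G} (hA : f ∈ A) (hf : orderOf f = 5)
    (d : Cd L (L.U D) S) (c : Cp L (L.U D) V) (hV : ∀ u ∈ V, f * u * f⁻¹ ∈ V) :
    (B V S).card = 4 ∧ ∑ i, mu V S i = 36 ∧ (X L (L.U D) V).Nonempty := by
  classical
  have := Fintype.ofFinite G
  have h1 : ∀ u ∈ V, f * u = u * f → u = 1 := fun u hu k => (fix h np hA hf (c.le hu) k).resolve_right fun e => c.nm (e ▸ hu)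
  obtain ⟨n, k, h2, h3, -⟩ := hF G L h.ok V f (by rw [hf]; norm_num) (fun a ha b hb => h.U_comm (c.le ha) (c.le hb)) hV h1
  rw [Finset.sum_subtype (p := (· ∈ V)) _ (by simp), d.sum1 c.le, Nat.card_eq_fintype_card] at h2
  obtain rfl : (B V S).card = k := by exact_mod_cast mul_left_cancel₀ (Nat.cast_ne_zero.2 Fintype.card_ne_zero) h2
  have h4 : (X L (L.U D) V).Nonempty := by
    obtain ⟨s, hs⟩ := h.us.ne
    obtain ⟨t, ht, e⟩ := hR G L H A Q D0 D h s (mem_U hs) (h.us.sub hs)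
    by_cases a : s ∈ V
    · by_cases b : t ∈ V
      exacts [⟨_, d.mem_X c (mul_mem a b) e.2.2.2⟩, ⟨t, ht, b, e.2.1.2⟩]
    · exact ⟨s, mem_U hs, a, e.1.2⟩
  have h5 := d.cnt c fun _ => 1
  have h6 := (d.cnt c id).symm.trans (d.sum1 c.le)
  have h7 := (d.cnt c fun x => x * x).symm.trans (d.sum2 c.le)
  rw [Finset.sum_const, Finset.card_univ] at h5
  rw [hf] at h3
  obtain ⟨h8, h9⟩ := arith (N := Fintype.card V) (a := nt L V 8) (b := nt L V 0) (c := nt L V (-8)) (n := n) (by simpa using h5)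
    (by rw [← h6]; simp [sub_eq_add_neg]) (by rw [← h7]; simp) (five h.ok hf hV h1 (by norm_num)) (five h.ok hf hV h1 (by norm_num)) (by
      obtain ⟨u, hu, e⟩ := np.ex
      by_cases a : u ∈ V
      exacts [Finset.card_pos.2 ⟨⟨u, a⟩, by simpa using e⟩, Finset.card_pos.2 ⟨⟨_, c.or u hu a⟩, by simpa [h.ok.tr_m_mul] using e⟩])
    (by
      obtain ⟨x, a, b, e⟩ := h4
      exact Finset.card_pos.2 ⟨⟨_, c.or x a b⟩, by simpa [h.ok.tr_m_mul] using e⟩)
    (np.t5 f hA hf) (by exact_mod_cast h3) (d.nt_le c)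
  exact ⟨h8, h9, h4⟩

end C5

open C5 in
/-- **the prime 5** -/
theorem boxC5 (hD : BoxDiag) (hF : BoxFpf) (hR : BoxR) : BoxC5 := by
  intro G _ _ L H A Q D0 D h np f hA hf
  classical
  have := Fintype.ofFinite G
  obtain ⟨S, h1, h2⟩ := hD G L h.ok (L.U D) fun a ha => h.U_sq ha
  have d : Cd L (L.U D) S := ⟨h.ok, m_mem_U D, fun a ha => h.U_sq ha, h1, h2⟩
  rcases h.cx.mode with ⟨h3, -⟩ | ⟨⟨T, h3, h4, h5⟩, -⟩
  · obtain ⟨V, c, hV⟩ := exists_cp h np hA hf
    obtain ⟨h4, h5, h6⟩ := main hF hR h np hA hf d c hV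
    refine ⟨_, ⟨fun x hx => h3 x ⟨h.U_sq hx.1, hx.2.2⟩, h6, fun a ha x hx => ⟨h.U_conj ha hx.1, fun k => hx.2.1 ?_,
      (h.ok.tr_conj _ _).trans hx.2.2⟩, fun x hx => h.U_le hx.1, fun x hx q hq => h.U_cen hx.1 hq⟩, d.pure c h4 subset_rfl⟩
    have c' : Cp L (L.U D) (V.comap (MulAut.conj a).toMonoidHom) := ⟨fun u hu => by
        simpa [mul_assoc] using h.U_conj (inv_mem ha) (c.le hu), fun e => c.nm (h.ok.conj_m a ▸ e), fun u hu e => by
        have := c.or _ (h.U_conj ha hu) e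
        rwa [← h.ok.conj_m a, conj_mul] at this⟩
    refine d.uniq c c' h4 ?_ h5 k
    let e : V.comap (MulAut.conj a).toMonoidHom ≃ V := (MulAut.conj a).toEquiv.subtypeEquiv fun _ => Iff.rfl
    have h7 := (d.sum1 c'.le).symm.trans ((Fintype.sum_equiv e _ _ fun u => (h.ok.tr_conj a u).symm).trans (d.sum1 c.le))
    rw [Fintype.card_congr e, h4] at h7
    exact_mod_cast mul_left_cancel₀ (Nat.cast_ne_zero.2 Fintype.card_ne_zero) h7
  · have c : Cp L (L.U D) (L.U D ⊓ T) := ⟨inf_le_left, fun e => h3 e.2, fun u hu e =>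
      ⟨mul_mem d.m hu, (h4 u (h.U_le_H hu)).resolve_left fun k => e ⟨hu, k⟩⟩⟩
    refine ⟨D, h.us, d.pure c (main hF hR h np hA hf d c fun u hu => ⟨h.U_conj hA hu.1, ?_⟩).1 fun s hs =>
      ⟨mem_U hs, fun e => h3 ((T.mul_mem_cancel_right e.2).1 (h5 s (h.us.sub hs))), (h.cx.d8 s (h.us.sub hs)).2⟩⟩
    rcases h4 f (h.cx.le hA) with k | k
    · exact T.mul_mem (T.mul_mem k hu.2) (T.inv_mem k)
    · have := T.mul_mem (T.mul_mem k hu.2) (T.inv_mem k)
      rwa [mul_inv_rev, ← mul_assoc, mul_assoc L.m, mul_assoc L.m, ← h.ok.m_comm, mul_inv_cancel_right] at this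

end Cfsg.Agent.N2.Co2L
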