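import Cfsg.Agent.N2.Co2L.Defs
import Cfsg.Agent.N2.Sp.GCo1
import Cfsg.Agent.N2.Sp.GCo2
import Cfsg.Agent.N2.Sp4.Odd
import Cfsg.Agent.H419.LeechIrr

/-!
# N2 (S3519), the 2-local case of Co1 and Co2: the boxes of the instances (helper26)
-/

set_option autoImplicit false

namespace Cfsg.Agent.N2.Co2L

open Cfsg Subgroup Cfsg.Agent.FP3 Cfsg.Agent.N2.Sp Cfsg.Agent.TAB.Eng Cfsg.Agent.TAB.Use Cfsg.Agent.TH.Spor

/-- the representation of `Co0` -/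
noncomputable def rC : Co0 →* Module.End ℂ Vs := H419.LeechIrr.repC

/-- `H ≤ Co0` covers `K`; `P` = the 2-central involutions of `K` -/
structure Cov (L : Lx Co0) (H : Subgroup Co0) (D0 : Set Co0) {K : Type} [Group K] (π : H →* K) (P : K → Prop)
    (A : Subgroup K) : Prop where
  surj : Function.Surjective π
  ker : ∀ h : H, π h = 1 ↔ h.1 = 1 ∨ h.1 = L.m
  cx : Cx L H ((A.comap π).map H.subtype) D0
  lift : ∀ e, P e → ∃ s : H, s.1 ∈ D0 ∧ π s = e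

/-- the facts on `Co0` -/
def BoxOk : Prop := ∃ L : Lx Co0, L.ρ = rC ∧ Ok L

/-- the dictionary of `Co1` -/
def BoxDict1 : Prop := ∀ L : Lx Co0, L.ρ = rC → (∀ g, LinearMap.trace ℂ Vs (L.ρ g) = L.tr g) →
  ∀ (K : Type) [Group K] [Finite K] (e : K ≃* Spor.Co1) (T : TD K Sp.Co1.D), Hy T Sp.Co1.R Sp.Co1.nu → ∀ g : Co0,
    L.tr g ^ 2 = 1 + Sp4.rw Sp.Co1.R 1 (T.ty (e.symm g)) + Sp4.rw Sp.Co1.R 2 (T.ty (e.symm g)) ∧
    L.tr (g * g) = 1 + Sp4.rw Sp.Co1.R 2 (T.ty (e.symm g)) - Sp4.rw Sp.Co1.R 1 (T.ty (e.symm g))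

/-- the dictionary of `Co2` -/
def BoxDict2 : Prop := ∀ L : Lx Co0, L.ρ = rC → (∀ g, LinearMap.trace ℂ Vs (L.ρ g) = L.tr g) →
  ∀ (K : Type) [Group K] [Finite K] (e : K ≃* Spor.Co2) (T : TD K Sp.Co2.D), Hy T Sp.Co2.R Sp.Co2.nu → ∀ g : K,
    L.tr (inclusion (inf_le_left : Spor.Co2 ≤ Co0) (e g)) = 1 + Sp4.rw Sp.Co2.R 1 (T.ty g)

/-- a statement on the bad subgroups of a family -/
def Bad (F : ∀ (K : Type) [Group K], Prop) (D : Dat) (R : Rows) (ν : List ℕ)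
    (P : ∀ (K : Type) [Group K], TD K D → Subgroup K → Prop) : Prop :=
  ∀ (K : Type) [Group K] [Finite K] [IsSimpleGroup K], F K → ∀ T : TD K D, Hy T R ν → Unif T →
    ∀ (A : Subgroup K) (Γ : Subgroup (MulAut K)), MI A Γ → ¬ Good A → P K T A

/-- the cover -/
def PCov (D : Dat) (K : Type) [Group K] (T : TD K D) (A : Subgroup K) : Prop :=
  ∀ L : Lx Co0, L.ρ = rC → Ok L → ∃ (H : Subgroup Co0) (D0 : Set Co0) (π : H →* K), Cov L H D0 π (fun e => T.ty e = 1) A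

/-- the mixed case -/
def PMix (D : Dat) (K : Type) [Group K] (T : TD K D) (A : Subgroup K) : Prop :=
  pCore 2 A ≠ ⊥ → (∃ x ∈ A, (orderOf x).Prime ∧ orderOf x ≠ 2 ∧ ∀ q ∈ SB.Mon.core 2 A, x * q = q * x) →
    (∀ e ∈ SB.Mon.core 2 A, (∀ q ∈ SB.Mon.core 2 A, e * q = q * e) → T.ty e ≠ 1) → False

def BoxCov1 : Prop := Bad (fun K _ => Spor.IsoCo1 K) Sp.Co1.D Sp.Co1.R Sp.Co1.nu fun K _ T A => PCov _ K T A

def BoxCov2 : Prop := Bad (fun K _ => Spor.IsoCo2 K) Sp.Co2.D Sp.Co2.R Sp.Co2.nu fun K _ T A => PCov _ K T A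

/-- no pure `3a` subgroup of order nine -/
def BoxN33 : Prop := Bad (fun K _ => Spor.IsoCo1 K) Sp.Co1.D Sp.Co1.R Sp.Co1.nu fun K _ T _ =>
  ∀ Y : Subgroup K, Nat.card Y = 9 → ∃ y ∈ Y, y ≠ 1 ∧ T.ty y ≠ 4

def BoxMix1 : Prop := Bad (fun K _ => Spor.IsoCo1 K) Sp.Co1.D Sp.Co1.R Sp.Co1.nu fun K _ T A =>
  (∀ Y : Subgroup K, Nat.card Y = 9 → ∃ y ∈ Y, y ≠ 1 ∧ T.ty y ≠ 4) → PMix _ K T A

def BoxMix2 : Prop := Bad (fun K _ => Spor.IsoCo2 K) Sp.Co2.D Sp.Co2.R Sp.Co2.nu fun K _ T A => PMix _ K T A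

end Cfsg.Agent.N2.Co2L
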