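import Cfsg.Agent.N2.Co2L.SC
import Cfsg.Agent.N2.Co2L.Inst
import Cfsg.Agent.N2.Sp5.Co1
import Cfsg.Agent.LThreeMB.QuoMap
import Cfsg.Agent.S0139
import Cfsg.Agent.S2069

/-!
# N2 (S3519), the 2-local case of Co1: the cover (helper48)
-/

set_option autoImplicit false
set_option linter.unusedSectionVars false
set_option maxRecDepth 100000

namespace Cfsg.Agent.N2.Co2L

open Cfsg Subgroup Cfsg.Agent.FP3 Cfsg.Agent.N2.Sp Cfsg.Agent.TAB.Eng Cfsg.Agent.TAB.Use Cfsg.Agent.TH.Spor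
open Cfsg.Agent.N2.Sp4 Cfsg.Agent.N2.Sp4T

namespace Cov1

open Cfsg.Agent.N2.Sp.Co1

/-- the square of the trace -/
noncomputable def sq (t : ℕ) : ℤ := 1 + Sp4.rw R 1 t + Sp4.rw R 2 t

/-- the trace of the square -/
noncomputable def ds (t : ℕ) : ℤ := 1 + Sp4.rw R 2 t - Sp4.rw R 1 t

theorem k0 : sq 0 = 576 ∧ sq 1 = 64 ∧ ds 1 = 24 := by decide +kernel

theorem k8 : ∀ t < D.n, D.ord t ∣ 2 → sq t = 64 → t = 1 := by decide +kernel

theorem kz : ∀ t < D.n, D.ord t = 2 → ¬ 2 ∣ D.cnt t → t = 1 := by decide +kernel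

theorem k1 : ∀ t ∈ S, (D.ord t).Prime → D.ord t = 2 ∨ (D.ord t = 3 ∧ (ds t = -12 ∨ ds t = 6 ∨ ds t = -3 ∨ ds t = 0)) ∨
    (D.ord t = 5 ∧ (ds t = -6 ∨ ds t = 4 ∨ ds t = -1)) ∨ (D.ord t = 7 ∧ ds t = -4) := by decide +kernel

theorem k2 : ∀ t ∈ S, D.ord (D.pwf t 316) ∈ [3, 5, 7] → ds (D.pwf t 105) = 24 → sq (D.pwf t 105) ≠ 0 := by decide +kernel

theorem k3 : ∀ t ∈ S, D.ord (D.pwf t 316) ∈ [3, 5, 7] → ds (D.pwf t 316) ≠ -12 → ds (D.pwf t 105) = 24 := by
  decide +kernel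

theorem k4 : ∀ t ∈ S, D.ord (D.pwf t 316) ∈ [3, 5, 7] →
    ds (D.pwf t 316) = 0 ∨ ds (D.pwf t 316) = 4 ∨ ds (D.pwf t 316) = -1 → D.pwf t 105 ≠ 1 := by decide +kernel

theorem k5 : ∀ t ∈ S, D.ord t ∣ 4 → sq t ≤ 64 := by decide +kernel

theorem k6 : ∀ t ∈ al O 442368, D.ord (D.pwf t 316) = 3 → ds (D.pwf t 316) = 6 → D.pwf t 105 = 1 → sq t ≠ 4 := by
  decide +kernel

theorem kp : SC.okP D R 1 1 1 12870 = true := by decide +kernel

theorem eq_one {G : Type} [Group G] [Finite G] {L : Lx G} (o : Ok L) {g : G} (h : L.tr g = 24) : g = 1 :=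
  o.inj (((S0139.result (L.ρ : Representation ℂ G Vs) g).1 (by
    rw [Representation.character, o.trace, h, finrank_Vs]
    norm_num)).trans (map_one L.ρ).symm)

variable {G K : Type} [Group G] [Finite G] [Group K] [Finite K]

/-- the dictionary -/
structure Dc (L : Lx G) (T : TD K D) (f : G →* K) : Prop where
  ok : Ok L
  hy : Hy T R nu
  surj : Function.Surjective f
  fm : f L.m = 1
  sq : ∀ g, L.tr g ^ 2 = sq (T.ty (f g))
  ds : ∀ g, L.tr (g * g) = ds (T.ty (f g))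

namespace Dc

variable {L : Lx G} {T : TD K D} {f : G →* K} (d : Dc L T f)
include d

theorem ker (g : G) : f g = 1 ↔ g = 1 ∨ g = L.m := by
  refine ⟨fun h => ?_, by rintro (rfl | rfl); exacts [map_one f, d.fm]⟩
  have h1 := d.sq g
  rw [h, (d.hy.zero 1).2 rfl, k0.1] at h1
  rcases (sq_eq_sq_iff_eq_or_eq_neg (b := (24 : ℤ))).1 h1 with h2 | h2
  · exact Or.inl (eq_one d.ok h2)
  · have h3 := eq_one d.ok (g := L.m * g) (by rw [d.ok.tr_m_mul, h2, neg_neg])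
    exact Or.inr (mul_left_cancel (h3.trans d.ok.m_sq.symm))

theorem eq_or {a b : G} (h : f a = f b) : a = b ∨ a = L.m * b :=
  ((d.ker (a * b⁻¹)).1 (by rw [map_mul, map_inv, h, mul_inv_cancel])).imp mul_inv_eq_one.1 mul_inv_eq_iff_eq_mul.1

theorem inj8 {a b : G} (ha : L.tr a = 8) (hb : L.tr b = 8) (h : f a = f b) : a = b :=
  (d.eq_or h).resolve_right fun e => by
    rw [e, d.ok.tr_m_mul, hb] at ha
    omega

theorem card (B : Subgroup K) : Nat.card (B.comap f) = 2 * Nat.card B := by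
  rw [LThreeMB.QuoMap.card_comap f d.surj]
  congr 1
  refine Nat.card_eq_two_iff.2 ⟨1, ⟨L.m, d.fm⟩, fun e => d.ok.m_ne (congrArg Subtype.val e).symm, Set.eq_univ_of_forall fun x => ?_⟩
  exact ((d.ker x).1 x.2).imp Subtype.ext Subtype.ext

theorem ty8 {s : G} (h : L.I8 s) : T.ty (f s) = 1 :=
  k8 _ (T.lt _) (T.ord _ ▸ orderOf_dvd_of_pow_eq_one (by rw [← map_pow, pow_two, h.1, map_one])) (by rw [← d.sq, h.2]; rfl)

theorem lift {e : K} (h : T.ty e = 1) : ∃ s, L.I8 s ∧ f s = e := by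
  obtain ⟨g, rfl⟩ := d.surj e
  have h1 := d.sq g
  have h2 := d.ds g
  rw [h, k0.2.1] at h1
  rw [h, k0.2.2] at h2
  have h3 := eq_one d.ok h2
  rcases (sq_eq_sq_iff_eq_or_eq_neg (b := (8 : ℤ))).1 h1 with h4 | h4
  · exact ⟨g, ⟨h3, h4⟩, rfl⟩
  · refine ⟨L.m * g, ⟨?_, by rw [d.ok.tr_m_mul, h4, neg_neg]⟩, by rw [map_mul, d.fm, one_mul]⟩
    rw [mul_assoc, ← mul_assoc g, d.ok.m_comm, mul_assoc, h3, mul_one, d.ok.m_sq]

theorem comm8 {s x : G} (h : L.I8 s) (hx : f x * f s = f s * f x) : x * s = s * x :=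
  mul_inv_eq_iff_eq_mul.1 (d.inj8 (d.ok.i8_conj h x).2 h.2 (by rw [map_mul, map_mul, map_inv, hx, mul_inv_cancel_right]))

theorem cent {s : G} (h : L.I8 s) : 256 * (2 * 183659258) < Nat.card ↥((⊤ : Subgroup G) ⊓ centralizer {s}) := by
  have h1 := le_cn d.hy.mass (f s)
  have h2 : (centralizer {f s}).comap f ≤ ⊤ ⊓ centralizer {s} := fun x hx =>
    ⟨trivial, mem_centralizer_singleton_iff.2 (d.comm8 h (mem_centralizer_singleton_iff.1 hx))⟩
  have h3 := card_le_of_le h2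
  rw [d.card] at h3
  rw [d.ty8 h, cn, show D.N = 46621575 * 89181388800 by decide +kernel, show D.cnt 1 = 46621575 by decide +kernel] at h1
  have h4 := Nat.le_of_mul_le_mul_left h1 (by norm_num)
  omega

/-- elements of odd order -/
theorem odd {x : G} (h : Odd (orderOf x)) : orderOf (f x) = orderOf x ∧ L.tr x = Cov1.ds (T.ty (f x)) := by
  refine ⟨Nat.dvd_antisymm (orderOf_map_dvd f x) ?_, by
    rw [← d.ds, ← pow_two, d.ok.pow x 2 (Nat.coprime_two_left.2 h)]⟩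
  refine (Nat.coprime_two_right.2 h).dvd_of_dvd_mul_right (orderOf_dvd_of_pow_eq_one ?_)
  rw [pow_mul]
  rcases (d.ker (x ^ orderOf (f x))).1 (by rw [map_pow, pow_orderOf_eq_one]) with e | e <;> rw [e]
  · exact one_pow 2
  · rw [pow_two, d.ok.m_sq]

theorem prs (hU : Unif T) : Nat.card (L.Prs {s | L.I8 s}) ≤ 46621575 * 12870 := by
  refine le_trans ?_ ((SC.pairs_le d.hy.mass d.hy.tab hU Sp5.okT_Co1 (by decide +kernel) (by decide +kernel)
    (by decide +kernel) kp).trans_eq (by decide +kernel))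
  refine Nat.card_le_card_of_injective (fun p => ⟨(f p.1.1, f p.1.2), d.ty8 p.2.1, d.ty8 p.2.2.1, ?_⟩) fun p q e => ?_
  · obtain ⟨h1, h2, h3, h4⟩ := p.2.2.2
    rw [← map_mul]
    refine d.ty8 ⟨?_, h4⟩
    rw [mul_assoc, ← mul_assoc p.1.2, ← h3, mul_assoc, h2.1, mul_one, h1.1]
  · obtain ⟨e1, e2⟩ := Prod.mk.inj (congrArg Subtype.val e)
    exact Subtype.ext (Prod.ext (d.inj8 p.2.1.2 q.2.1.2 e1) (d.inj8 p.2.2.1.2 q.2.2.1.2 e2))

variable {A : Subgroup K} {S' : List ℕ}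

theorem o1 (hS : Sup T A S) {x : G} (hx : f x ∈ A) (hp : (orderOf x).Prime) : orderOf x = 2 ∨
    (orderOf x = 3 ∧ (L.tr x = -12 ∨ L.tr x = 6 ∨ L.tr x = -3 ∨ L.tr x = 0)) ∨
    (orderOf x = 5 ∧ (L.tr x = -6 ∨ L.tr x = 4 ∨ L.tr x = -1)) ∨ (orderOf x = 7 ∧ L.tr x = -4) := by
  by_cases h2 : orderOf x = 2
  · exact Or.inl h2
  obtain ⟨h3, h4⟩ := d.odd (hp.odd_of_ne_two h2)
  obtain ⟨h5, h6⟩ := mem_of' d.hy hS hx h3 hp.one_lt.ne'
  have h7 := k1 _ h5 (h6 ▸ hp)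
  rwa [h6, ← h4] at h7

/-- the product of an element of order `3`, `5`, `7` and of a commuting element of order dividing four -/
theorem mix (hS : Sup T A S') {x q : G} (hx : f x ∈ A) (hq : f q ∈ A) (ho : orderOf x ∈ [3, 5, 7]) (h4 : q ^ 4 = 1)
    (hc : x * q = q * x) : ∃ t ∈ S', D.ord (D.pwf t 316) = orderOf x ∧ Cov1.ds (D.pwf t 316) = L.tr x ∧
      D.pwf t 105 = T.ty (f q) ∧ t = T.ty (f (x * q)) := by
  have h1 : x ^ 105 = 1 := orderOf_dvd_iff_pow_eq_one.1 ((by decide : ∀ n ∈ [3, 5, 7], n ∣ 105) _ ho)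
  obtain ⟨h2, h3⟩ := d.odd ((by decide : ∀ n ∈ [3, 5, 7], Odd n) _ ho)
  have h5 : (x * q) ^ 316 = x := by
    rw [Commute.mul_pow hc, pow_succ x, pow_mul x 105 3, h1, one_pow, one_mul, pow_mul q 4 79, h4, one_pow, mul_one]
  have h6 : (x * q) ^ 105 = q := by
    rw [Commute.mul_pow hc, h1, one_mul, pow_succ q, pow_mul q 4 26, h4, one_pow, one_mul]
  refine ⟨_, mem_of d.hy hS (a := f (x * q)) (map_mul f x q ▸ mul_mem hx hq) fun e => ?_, ?_, ?_, ?_, rfl⟩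
  · rw [← h5, map_pow, e, one_pow, orderOf_one, h5] at h2
    exact absurd (h2 ▸ ho) (by decide)
  · rw [← T.pow, ← map_pow, h5, ← T.ord, h2]
  · rw [← T.pow, ← map_pow, h5, h3]
  · rw [← T.pow, ← map_pow, h6]

theorem o357 (hS : Sup T A S) {x : G} (hx : f x ∈ A) (hp : (orderOf x).Prime) (h2 : orderOf x ≠ 2) :
    orderOf x ∈ [3, 5, 7] := by
  rcases d.o1 hS hx hp with h | h | h | h
  · exact absurd h h2
  all_goals rw [h.1]; decide

theorem cx [IsSimpleGroup K] (hU : Unif T) (hm : Mx A) (hr : Res T A O 183659258) (hS : Sup T A S) :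
    Cx L ⊤ (A.comap f) {s | L.I8 s} := by
  have hA : Nat.card (A.comap f) ≤ 2 * 183659258 := by
    rw [d.card]
    exact Nat.mul_le_mul_left _ hr.1
  have h4 : ∀ {s : G}, s * s = 1 → s ^ 4 = 1 := fun {s} h => by rw [pow_mul s 2 2, pow_two s, h, one_pow]
  exact
  { le := le_top
    mA := by rw [mem_comap, d.fm]; exact one_mem _
    d8 := fun _ h => h
    dH := fun _ _ => le_top
    dc := fun s hs g _ => d.ok.i8_conj hs g
    mx := fun E _ hE ⟨u, hu, h1, h2⟩ hn g _ hg => by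
      refine hm (E.map f) (fun e => ?_) (ne_top_of_pgroup Nat.prime_two Nat.prime_three (by decide)
        (by rw [d.hy.mass.1]; decide +kernel) (hE.map f)) ?_ (f g) ?_
      · exact ((d.ker u).1 (mem_bot.1 (e ▸ mem_map_of_mem f hu))).elim h1 h2
      · rintro s hs _ ⟨v, hv, rfl⟩
        obtain ⟨a, rfl⟩ := d.surj s
        exact ⟨_, hn a hs v hv, by rw [map_mul, map_mul, map_inv]⟩
      · rintro _ ⟨v, hv, rfl⟩
        exact ⟨_, hg v hv, by rw [map_mul, map_mul, map_inv]⟩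
    syl := fun P _ hP => by
      obtain ⟨z, oz, h1, h2⟩ := exists_central (F := 20) Nat.prime_two (hP.map f) (by rw [d.hy.mass.1]; decide +kernel)
      obtain ⟨s, hs, rfl⟩ := d.lift (kz _ (T.lt z) (T.ord z ▸ oz)
        (not_dvd_cnt d.hy.mass hU Nat.prime_two oz h1 (by decide +kernel)))
      exact ⟨s, hs, fun x hx => d.comm8 hs (h2 _ (mem_map_of_mem f hx)).symm⟩
    big := fun s _ hs => by
      have := d.cent hs
      omega
    big2 := fun s hs => by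
      have := d.cent hs
      omega
    mode := Or.inl ⟨fun _ h => h, by
      have h1 := d.card ⊤
      rw [comap_top, card_top (G := K), d.hy.mass.1] at h1
      rw [h1]
      exact (Nat.mul_le_mul (d.prs hU) hA).trans_lt (by decide +kernel)⟩
    o1 := fun x hx hp => d.o1 hS hx hp
    o9 := fun x hx e => by
      obtain ⟨h1, h2⟩ := mem_of' d.hy hS hx ((d.odd (by rw [e]; decide)).1.trans e) (by decide)
      exact (by decide +kernel : ∀ t ∈ S, D.ord t ≠ 9) _ h1 h2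
    o2 := fun x hx hp h2 j hj hj2 hc e => by
      have ho := d.o357 hS hx hp h2
      obtain ⟨t, h5, h6, -, h8, -⟩ := d.mix hS hx hj ho (h4 hj2) hc
      refine k2 t h5 (h6 ▸ ho) ?_ ?_ <;> rw [h8]
      · rw [← d.ds, hj2, d.ok.tr_one]
      · rw [← d.sq, e]
        rfl
    o3 := fun x hx hp h2 h3 q hq hc e => by
      have ho := d.o357 hS hx hp h2
      obtain ⟨t, h5, h6, h7, h8, -⟩ := d.mix hS hx hq ho (e ▸ pow_orderOf_eq_one q) hc
      have h9 := k3 t h5 (h6 ▸ ho) (h7 ▸ h3)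
      rw [h8, ← d.ds, ← pow_two] at h9
      exact absurd (e ▸ orderOf_dvd_of_pow_eq_one (eq_one d.ok h9)) (by decide)
    o4 := fun x hx hp h2 h3 s hs h8' hc => by
      have ho := d.o357 hS hx hp h2
      obtain ⟨t, h5, h6, h7, h8, -⟩ := d.mix hS hx hs ho (h4 h8'.1) hc
      exact k4 t h5 (h6 ▸ ho) (h7 ▸ h3) (h8.trans (d.ty8 h8'))
    o5 := fun q hq e => by
      have h1 : f q ≠ 1 := fun k => by
        have h2 : q ^ 2 = 1 := by
          rcases (d.ker q).1 k with k | k <;> rw [k]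
          exacts [one_pow 2, (pow_two _).trans d.ok.m_sq]
        exact absurd (e ▸ orderOf_dvd_of_pow_eq_one h2) (by decide)
      have h2 := k5 _ (mem_of d.hy hS hq h1) (T.ord _ ▸ e ▸ orderOf_map_dvd f q)
      rw [← d.sq] at h2
      nlinarith
    o6 := fun w hw a ha g hg ow tw hs hc ts => by
      by_contra h1
      have h2 : Nat.card A ≤ 442368 := by
        rw [d.card] at h1
        omega
      obtain ⟨t, h5, h6, h7, h8, h9⟩ := d.mix (sup_al hr h2) hw (q := a * (g * a * g⁻¹))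
        (mul_mem ha (mul_mem (mul_mem hg ha) (inv_mem hg)) : _ ∈ A.comap f) (by rw [ow]; decide) (h4 hs.1) hc
      refine k6 t h5 (h6.trans ow) (h7.trans tw) (h8.trans (d.ty8 hs)) ?_
      rw [h9, ← d.sq, ts]
      rfl }

end Dc

end Cov1

/-- **[Cov1]** -/
theorem boxCov1 (hd : BoxDict1) : BoxCov1 := by
  rintro K _ _ _ ⟨e⟩ T H hU A Γ h hb L h1 o
  have := H419.Spor.Co1.finite_co0
  have d : Cov1.Dc L T (e.symm.toMonoidHom.comp (QuotientGroup.mk' (center Co0))) :=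
    ⟨o, H, e.symm.surjective.comp (QuotientGroup.mk'_surjective _),
      (congrArg e.symm ((QuotientGroup.eq_one_iff L.m).2 (mem_center_iff.2 o.m_comm))).trans (map_one _),
      fun g => (hd L h1 o.trace K e T H g).1, fun g => (hd L h1 o.trace K e T H g).2⟩
  generalize e.symm.toMonoidHom.comp (QuotientGroup.mk' (center Co0)) = f at d
  have k := d.cx hU (mx_of_mi (out_congr e S2069.result) h) (Sp.Co1.res H hb h.ne_top) (Sp.Co1.sup H hb h.ne_top).2
  refine ⟨⊤, {s | L.I8 s}, f.comp (⊤ : Subgroup Co0).subtype, fun x => ?_, fun g => d.ker g, ?_, fun x hx => ?_⟩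
  · obtain ⟨g, rfl⟩ := d.surj x
    exact ⟨⟨g, trivial⟩, rfl⟩
  · rwa [← comap_comap, map_comap_eq, range_subtype, top_inf_eq]
  · obtain ⟨s, hs, rfl⟩ := d.lift hx
    exact ⟨⟨s, trivial⟩, hs, rfl⟩

end Cfsg.Agent.N2.Co2L
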