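import Cfsg.Agent.N2.Sp1.Fin

/-!
# N2 (S3519), the 2-local case of Co1 and Co2: an upper bound for the pairs with a given product (helper58)
-/

set_option autoImplicit false

namespace Cfsg.Agent.N2.Co2L.Str

open Cfsg Cfsg.Agent.TAB Cfsg.Agent.TAB.Eng Cfsg.Agent.TAB.Use Cfsg.Agent.SB.SporL Cfsg.Agent.TH.Spor
open Cfsg.Agent.N2.Sp Cfsg.Agent.TwoF.SpO

variable {K : Type} [Group K] [Finite K] {D : Dat} {T : TD K D} {R : Rows}

/-- at most `c` pairs of the types `a`, `b` have a product of the type `s` -/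
noncomputable def okPr (D : Dat) (W W' : List (List ℤ)) (a b s c : ℕ) : Bool :=
  frcLZ (SpK.cz D W W' [] (1, [(1, s)])) fun z => frcLZ (accP z (W ++ W') (List.replicate D.n 0)) fun V =>
    allL (fun u => decide (0 ≤ nth V u)) (List.range D.n) && decide (0 < nth V s) &&
      decide (sumP a b z (W ++ W') * (D.cnt a * D.cnt b : ℕ) ≤ nth V s * c)

/-- the check on the table -/
noncomputable def okP (D : Dat) (R : Rows) (a b s c : ℕ) : Bool :=
  SpK.okT D R && decide (a < D.n) && decide (b < D.n) && Nat.beq (D.ord b) 2 &&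
    Glue.frcM (irows R) fun W => Glue.frcM (SpK.prows R) fun W' => okPr D W W' a b s c

/-- **the number of the pairs** -/
theorem pairs_le (hm : T.Mass) (hR : Tab T R) (hU : Unif T) {a b s c : ℕ} (h : okP D R a b s c = true) :
    Nat.card {p : K × K // T.ty p.1 = a ∧ T.ty p.2 = b ∧ T.ty (p.1 * p.2) = s} ≤ c := by
  classical
  have := Fintype.ofFinite K
  simp only [okP, okPr, Glue.frcM_eq, frcLZ_eq, Bool.and_eq_true, decide_eq_true_eq, Nat.beq_eq] at h
  obtain ⟨⟨⟨⟨hT, ha⟩, hb⟩, h2⟩, ⟨h0, h1⟩, h⟩ := h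
  have H := SpK.rw_of hm hR hT
  generalize SpK.cz D (irows R) (SpK.prows R) [] (1, [(1, s)]) = z at h h0 h1
  have h3 : ∀ x y, T.ty x = a → T.ty y = b → ∑ g, nth (accP z (irows R ++ SpK.prows R) (List.replicate D.n 0))
      (T.ty (g * x * g⁻¹ * y)) = Nat.card K * sumP a b z (irows R ++ SpK.prows R) := fun x y hx hy => by
    have h5 : ∑ g, nth (List.replicate D.n 0) (T.ty (g * x * g⁻¹ * y)) = 0 :=
      Finset.sum_eq_zero fun g _ => by
        rw [nth_eq, List.getD_eq_getElem _ _ (by rw [List.length_replicate]; exact T.lt _), List.getElem_replicate]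
    rw [SpK.sum_accP' x y z _ (List.replicate D.n 0) (List.forall_mem_append.2 ⟨H.a y, H.b y
      (Sp1.one_inv hm hU (by rw [T.ord, hy, h2]))⟩) List.length_replicate, h5, zero_add, hx, hy]
  generalize accP z (irows R ++ SpK.prows R) (List.replicate D.n 0) = V at h h0 h1 h3
  generalize sumP a b z (irows R ++ SpK.prows R) = σ at h h3
  have k0 : ∀ g, 0 ≤ nth V (T.ty g) := fun g => of_decide_eq_true (allL_spec h0 _ (List.mem_range.2 (T.lt g)))
  have k1 : ∀ t < D.n, (Finset.univ.filter fun x => T.ty x = t).card = D.cnt t := fun t ht => by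
    rw [← hm.2 t ht, Nat.card_eq_fintype_card, Fintype.card_subtype]
  have k2 : ∀ y, T.ty y = b → ∑ x with T.ty x = a, nth V (T.ty (x * y)) = D.cnt a * σ := fun y hy => by
    have k3 : ∀ g : K, ∑ x with T.ty x = a, nth V (T.ty (g * x * g⁻¹ * y)) = ∑ x with T.ty x = a, nth V (T.ty (x * y)) :=
      fun g => Finset.sum_equiv (MulAut.conj g).toEquiv (fun x => by simp [T.conj]) fun x _ => rfl
    have k4 : ∑ x with T.ty x = a, ∑ g, nth V (T.ty (g * x * g⁻¹ * y)) = D.cnt a * (Nat.card K * σ) := by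
      rw [Finset.sum_congr rfl fun x hx => h3 x y (Finset.mem_filter.1 hx).2 hy, Finset.sum_const, k1 a ha, nsmul_eq_mul]
    rw [Finset.sum_comm, Finset.sum_congr rfl fun g _ => k3 g, Finset.sum_const, Finset.card_univ,
      ← Nat.card_eq_fintype_card, nsmul_eq_mul, mul_left_comm] at k4
    exact mul_left_cancel₀ (Int.natCast_ne_zero.2 Nat.card_pos.ne') k4
  have k5 : ∑ p ∈ (Finset.univ.filter fun x => T.ty x = a) ×ˢ (Finset.univ.filter fun x => T.ty x = b),
      nth V (T.ty (p.1 * p.2)) = D.cnt b * (D.cnt a * σ) := by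
    rw [Finset.sum_product_right, Finset.sum_congr rfl fun y hy => k2 y (Finset.mem_filter.1 hy).2, Finset.sum_const,
      k1 b hb, nsmul_eq_mul]
  have k6 := Finset.sum_le_sum_of_subset_of_nonneg
    (s := Finset.univ.filter fun p : K × K => T.ty p.1 = a ∧ T.ty p.2 = b ∧ T.ty (p.1 * p.2) = s)
    (t := (Finset.univ.filter fun x => T.ty x = a) ×ˢ (Finset.univ.filter fun x => T.ty x = b))
    (f := fun p => nth V (T.ty (p.1 * p.2))) (fun p hp => by
      simp only [Finset.mem_filter, Finset.mem_univ, true_and, Finset.mem_product] at hp ⊢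
      exact ⟨hp.1, hp.2.1⟩) fun p _ _ => k0 _
  rw [k5, Finset.sum_congr rfl (g := fun _ => nth V s) fun p hp => by rw [(Finset.mem_filter.1 hp).2.2.2],
    Finset.sum_const, nsmul_eq_mul, ← Fintype.card_subtype, ← Nat.card_eq_fintype_card] at k6
  push_cast at h
  exact Int.ofNat_le.1 (le_of_mul_le_mul_left (by linarith) h1)

end Cfsg.Agent.N2.Co2L.Str
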