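import Cfsg.Agent.N2.Co2L.Inst
import Cfsg.Agent.N2.Co2L.Str
import Cfsg.Agent.N2.Sp4T.Mx
import Cfsg.Agent.S2070

/-!
# N2 (S3519), the 2-local case of Co2: the cover `Co2 × ⟨-1⟩` (helper58)
-/

set_option autoImplicit false
set_option maxRecDepth 100000

namespace Cfsg.Agent.N2.Co2L

open Cfsg Subgroup Cfsg.Agent.FP3 Cfsg.Agent.N2.Sp Cfsg.Agent.TAB.Eng Cfsg.Agent.TAB.Use Cfsg.Agent.TH.Spor

namespace Cov2

section emb

variable {G K : Type} [Group G] [Group K]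

/-- `K` is the stabiliser of the vector `v` -/
structure Emb (L : Lx G) (ι : K →* G) (v : Vs) : Prop where
  ok : Ok L
  inj : Function.Injective ι
  ne : v ≠ 0
  fix : ∀ g, L.ρ g v = v ↔ ∃ k, g = ι k

/-- `g = ± k` -/
def Rl (L : Lx G) (ι : K →* G) (g : G) (k : K) : Prop := g = ι k ∨ g = L.m * ι k

variable {L : Lx G} {ι : K →* G} {v : Vs}

namespace Emb

variable (h : Emb L ι v) {g g' : G} {a b : K}
include h

theorem mm (x : G) : L.m * (L.m * x) = x := by rw [← mul_assoc, h.ok.m_sq, one_mul]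

theorem neg (k : K) : L.ρ (L.m * ι k) v = -v := by
  rw [map_mul, h.ok.neg, neg_mul, one_mul, LinearMap.neg_apply, (h.fix _).2 ⟨k, rfl⟩]

theorem ne' (a b : K) : ι a ≠ L.m * ι b := fun e => by
  have h1 := h.neg b
  rw [← e, (h.fix _).2 ⟨a, rfl⟩] at h1
  exact h.ne (by linear_combination (norm := module) (1 / 2 : ℂ) • h1)

theorem mul (h1 : Rl L ι g a) (h2 : Rl L ι g' b) : Rl L ι (g * g') (a * b) := by
  rcases h1 with rfl | rfl <;> rcases h2 with rfl | rfl <;> rw [Rl, map_mul]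
  · exact Or.inl rfl
  · exact Or.inr (by rw [← mul_assoc, h.ok.m_comm, mul_assoc])
  · exact Or.inr (mul_assoc _ _ _)
  · exact Or.inl (by rw [mul_assoc, ← mul_assoc (ι a), h.ok.m_comm, mul_assoc, h.mm])

theorem inv (h1 : Rl L ι g a) : Rl L ι g⁻¹ a⁻¹ := by
  rcases h1 with rfl | rfl <;> rw [Rl, map_inv]
  · exact Or.inl rfl
  · exact Or.inr (by rw [mul_inv_rev, inv_eq_of_mul_eq_one_left h.ok.m_sq, h.ok.m_comm])

theorem uq (h1 : Rl L ι g a) (h2 : Rl L ι g b) : a = b := by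
  rcases h1 with rfl | rfl <;> rcases h2 with e | e
  exacts [h.inj e, absurd e (h.ne' _ _), absurd e.symm (h.ne' _ _), h.inj (mul_left_cancel e)]

theorem conj (h1 : Rl L ι g a) (x : G) : g * x * g⁻¹ = ι a * x * (ι a)⁻¹ := by
  rcases h1 with rfl | rfl
  · rfl
  · rw [mul_inv_rev, mul_assoc L.m, mul_assoc L.m, ← h.ok.m_comm, ← mul_assoc, mul_assoc _ L.m⁻¹, inv_mul_cancel, mul_one]

theorem conj' (h1 : Rl L ι g a) (h2 : Rl L ι g' b) : Rl L ι (g * g' * g⁻¹) (a * b * a⁻¹) :=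
  h.mul (h.mul h1 h2) (h.inv h1)

theorem comm (h1 : Rl L ι g a) (h2 : Rl L ι g' b) : g * g' = g' * g ↔ a * b = b * a := by
  refine ⟨fun e => h.uq (h.mul h1 h2) (e ▸ h.mul h2 h1), fun e => ?_⟩
  rw [← mul_inv_eq_iff_eq_mul, h.conj h1, mul_inv_eq_iff_eq_mul]
  rcases h2 with rfl | rfl
  · rw [← map_mul, e, map_mul]
  · rw [← mul_assoc, h.ok.m_comm, mul_assoc, ← map_mul, e, map_mul, mul_assoc]

theorem sq (h1 : Rl L ι g a) : g * g = ι (a * a) := by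
  rcases h1 with rfl | rfl <;> rw [map_mul]
  rw [mul_assoc, ← mul_assoc (ι a), h.ok.m_comm, mul_assoc, h.mm]

theorem pow (h1 : Rl L ι g a) (n : ℕ) : Rl L ι (g ^ n) (a ^ n) := by
  induction n with
  | zero => exact Or.inl (by rw [pow_zero, pow_zero, map_one])
  | succ n ih => rw [pow_succ, pow_succ]; exact h.mul ih h1

theorem odd (h1 : Rl L ι g a) (h2 : Odd (orderOf g)) : g = ι a := by
  refine h1.resolve_right fun e => ?_
  obtain ⟨n, hn⟩ := h2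
  have h3 := pow_orderOf_eq_one g
  rw [hn, pow_succ, pow_mul, pow_two, h.sq h1, ← map_pow] at h3
  exact h.ne' ((a * a) ^ n)⁻¹ a (by rw [map_inv, ← e]; exact inv_eq_of_mul_eq_one_right h3)

theorem four (h1 : Rl L ι g a) (h2 : orderOf g = 4) : orderOf a = 4 := by
  have h3 : orderOf (g ^ 2) = 2 := by rw [orderOf_pow' _ two_ne_zero, h2]; rfl
  rw [pow_two, h.sq h1, orderOf_injective ι h.inj, ← pow_two] at h3
  refine orderOf_eq_prime_pow (p := 2) (n := 1) (fun e => ?_) ?_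
  · rw [pow_one] at e
    rw [e, orderOf_one] at h3
    omega
  · rw [show 2 ^ (1 + 1) = 2 * 2 from rfl, pow_mul]
    exact orderOf_dvd_iff_pow_eq_one.1 h3.dvd

theorem tr (h1 : Rl L ι g a) : L.tr g = L.tr (ι a) ∨ L.tr g = -L.tr (ι a) :=
  h1.imp (congrArg _) fun e => by rw [e, h.ok.tr_m_mul]

/-- the preimage -/
def up (B : Subgroup K) : Subgroup G where
  carrier := {g | ∃ b ∈ B, Rl L ι g b}
  one_mem' := ⟨1, one_mem B, Or.inl (map_one ι).symm⟩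
  mul_mem' := fun ⟨_, h1, h2⟩ ⟨_, h3, h4⟩ => ⟨_, mul_mem h1 h3, h.mul h2 h4⟩
  inv_mem' := fun ⟨_, h1, h2⟩ => ⟨_, inv_mem h1, h.inv h2⟩

/-- the image -/
def dn (E : Subgroup G) : Subgroup K where
  carrier := {k | ∃ u ∈ E, Rl L ι u k}
  one_mem' := ⟨1, one_mem E, Or.inl (map_one ι).symm⟩
  mul_mem' := fun ⟨_, h1, h2⟩ ⟨_, h3, h4⟩ => ⟨_, mul_mem h1 h3, h.mul h2 h4⟩
  inv_mem' := fun ⟨_, h1, h2⟩ => ⟨_, inv_mem h1, h.inv h2⟩

theorem card_up (B : Subgroup K) : Nat.card (h.up B) = 2 * Nat.card B := by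
  by_cases hB : Finite B
  swap
  · have : Infinite B := not_finite_iff_infinite.1 hB
    have : Infinite (h.up B) := Infinite.of_injective (fun b : B => (⟨ι b, b, b.2, Or.inl rfl⟩ : h.up B))
      fun _ _ e => Subtype.ext (h.inj (congrArg Subtype.val e))
    rw [Nat.card_eq_zero_of_infinite, Nat.card_eq_zero_of_infinite]
  rw [two_mul, ← Nat.card_sum]
  refine (Nat.card_eq_of_bijective (Sum.elim (fun b : B => (⟨ι b, b, b.2, Or.inl rfl⟩ : h.up B))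
    fun b : B => ⟨L.m * ι b, b, b.2, Or.inr rfl⟩) ⟨?_, ?_⟩).symm
  · rintro (a | a) (b | b) e <;> have e' := congrArg Subtype.val e
    exacts [congrArg _ (Subtype.ext (h.inj e')), absurd e' (h.ne' _ _), absurd e'.symm (h.ne' _ _),
      congrArg _ (Subtype.ext (h.inj (mul_left_cancel e')))]
  · rintro ⟨_, b, hb, rfl | rfl⟩
    exacts [⟨Sum.inl ⟨b, hb⟩, rfl⟩, ⟨Sum.inr ⟨b, hb⟩, rfl⟩]

theorem cent (h1 : Rl L ι g a) : h.up ⊤ ⊓ centralizer {g} = h.up (centralizer {a}) := by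
  ext x
  refine ⟨fun ⟨⟨b, _, h2⟩, h3⟩ => ⟨b, mem_centralizer_singleton_iff.2
    ((h.comm h2 h1).1 (mem_centralizer_singleton_iff.1 h3)), h2⟩, fun ⟨b, h2, h3⟩ => ⟨⟨b, mem_top b, h3⟩,
    mem_centralizer_singleton_iff.2 ((h.comm h3 h1).2 (mem_centralizer_singleton_iff.1 h2))⟩⟩

theorem two_dn {E : Subgroup G} (hE : IsPGroup 2 E) : IsPGroup 2 (h.dn E) := by
  rintro ⟨k, u, hu, h1⟩
  obtain ⟨n, hn⟩ := hE ⟨u, hu⟩
  refine ⟨n, Subtype.ext (h.uq (h.pow h1 _) (Or.inl ?_))⟩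
  exact (congrArg Subtype.val hn :).trans (map_one ι).symm

/-- the projection -/
noncomputable def pr : h.up ⊤ →* K :=
  MonoidHom.mk' (fun x => x.2.choose) fun x y =>
    h.uq (x * y).2.choose_spec.2 (h.mul x.2.choose_spec.2 y.2.choose_spec.2)

theorem pr_eq (x : h.up ⊤) (k : K) : h.pr x = k ↔ Rl L ι x k :=
  ⟨fun e => e ▸ x.2.choose_spec.2, h.uq x.2.choose_spec.2⟩

theorem up_eq (B : Subgroup K) : (B.comap h.pr).map (h.up ⊤).subtype = h.up B := by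
  ext g
  refine ⟨?_, fun ⟨b, h1, h2⟩ => ⟨⟨g, b, mem_top b, h2⟩, ?_, rfl⟩⟩
  · rintro ⟨x, hx, rfl⟩
    exact ⟨_, hx, (h.pr_eq x _).1 rfl⟩
  · show h.pr _ ∈ B
    rwa [(h.pr_eq _ b).2 h2]

theorem mem_top' (h1 : L.ρ g v = v ∨ L.ρ g v = -v) : g ∈ h.up ⊤ := by
  rcases h1 with e | e
  · obtain ⟨k, hk⟩ := (h.fix g).1 e
    exact ⟨k, mem_top k, Or.inl hk⟩
  · obtain ⟨k, hk⟩ := (h.fix (L.m * g)).1 (by rw [map_mul, h.ok.neg, neg_mul, one_mul, LinearMap.neg_apply, e, neg_neg])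
    exact ⟨k, mem_top k, Or.inr (by rw [← hk, h.mm])⟩

theorem O_le (k : K) : L.O (L.m * ι k) ≤ h.up ⊤ := fun g hg => h.mem_top' (hg.2.imp (fun e => ?_) fun e => ?_) where finally
  all_goals
    have e' := LinearMap.congr_fun e v
    simp only [Module.End.mul_apply, LinearMap.sub_apply, LinearMap.neg_apply, Module.End.one_apply, h.neg, sub_neg_eq_add,
      map_add] at e'
    linear_combination (norm := module) (1 / 2 : ℂ) • e'

theorem not_pp (a b : K) : ¬ L.Pp (L.m * ι a) (L.m * ι b) := fun e => by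
  have e' := LinearMap.congr_fun (h.ok.pp_mul e) v
  simp only [Module.End.mul_apply, LinearMap.sub_apply, Module.End.one_apply, h.neg, sub_neg_eq_add, map_add] at e'
  exact h.ne (by linear_combination (norm := module) (-1 / 4 : ℂ) • e')

end Emb

end emb

/-- the trace as a function of the type -/
noncomputable def tt (t : ℕ) : ℤ := 1 + Sp4.rw Sp.Co2.R 1 t

theorem t0 : tt 0 = 24 ∧ tt 1 = -8 ∧ Sp.Co2.D.ord 1 = 2 ∧ Sp.Co2.D.cnt 1 = 56925 ∧ Sp.Co2.D.N = 42305421312000 ∧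
    1 < Sp.Co2.D.n := by decide +kernel

theorem t1 : ∀ t < Sp.Co2.D.n, Sp.Co2.D.ord t ∣ 2 → (tt t = 8 → t = 2) ∧
    (tt t = 8 ∨ tt t = -8 → Sp.Co2.D.cnt t ≤ 1024650) := by decide +kernel

theorem t2 : ∀ t ∈ 0 :: Sp.Co2.S, Sp.Co2.D.ord t ≤ 6 ∧ (Sp.Co2.D.ord t = 3 → tt t = 6 ∨ tt t = -3) ∧
    (Sp.Co2.D.ord t = 5 → tt t = 4 ∨ tt t = -1) ∧ (Sp.Co2.D.ord t = 6 → tt (Sp.Co2.D.pwf t 3) ≠ 0) ∧
    (Sp.Co2.D.ord t = 4 → tt t ≤ 8 ∧ -8 ≤ tt t) ∧ (tt t = 2 → t = 19) := by decide +kernel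

theorem t3 : ∀ e ∈ Sp.Co2.O, e.1 = 19 → 221184 < e.2.1 := by decide +kernel

theorem t4 : Str.okP Sp.Co2.D Sp.Co2.R 1 1 2 71725500 = true := by decide +kernel

section cx

variable {G K : Type} [Group G] [Group K] [Finite K] {L : Lx G} {ι : K →* G} {v : Vs} {T : TD K Sp.Co2.D} {A : Subgroup K}

/-- the lifts of the 2-central involutions -/
def D0 (L : Lx G) (ι : K →* G) (T : TD K Sp.Co2.D) : Set G := {s | ∃ k, T.ty k = 1 ∧ s = L.m * ι k}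

omit [Finite K] in
theorem sq_one {k : K} (hk : T.ty k = 1) : k * k = 1 := by
  rw [← pow_two, ← t0.2.2.1, ← hk, ← T.ord, pow_orderOf_eq_one]

omit [Finite K] in
theorem ord_dvd {k : K} (hk : k * k = 1) : Sp.Co2.D.ord (T.ty k) ∣ 2 :=
  T.ord k ▸ orderOf_dvd_of_pow_eq_one ((pow_two k).trans hk)

theorem cx (h : Emb L ι v) (hd : ∀ k, L.tr (ι k) = tt (T.ty k)) (H : Hy T Sp.Co2.R Sp.Co2.nu) (hU : Unif T)
    (hm : Sp4T.Mx A) (hr : Res T A Sp.Co2.O 1771000) (hS : Sup T A Sp.Co2.S) :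
    Cx L (h.up ⊤) (h.up A) (D0 L ι T) := by
  have s1 : ∀ a ∈ A, T.ty a ∈ 0 :: Sp.Co2.S := fun a ha => List.mem_cons.2 (hS a ha)
  have s2 : ∀ a ∈ A, orderOf a ≤ 6 := fun a ha => T.ord a ▸ (t2 _ (s1 a ha)).1
  have s3 : ∀ x ∈ h.up A, (orderOf x).Prime → orderOf x ≠ 2 → ∃ a ∈ A, x = ι a ∧ orderOf a = orderOf x ∧
      (orderOf a = 3 ∧ (L.tr x = 6 ∨ L.tr x = -3) ∨ orderOf a = 5 ∧ (L.tr x = 4 ∨ L.tr x = -1)) := by
    rintro x ⟨a, ha, h1⟩ h2 h3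
    obtain rfl := h.odd h1 (h2.odd_of_ne_two h3)
    rw [orderOf_injective ι h.inj] at h2 h3 ⊢
    have h4 := s2 a ha
    have h5 := h2.two_le
    have h6 : orderOf a ≠ 4 := fun e => by rw [e] at h2; exact absurd h2 (by decide)
    have h7 : orderOf a ≠ 6 := fun e => by rw [e] at h2; exact absurd h2 (by decide)
    refine ⟨a, ha, rfl, rfl, (show orderOf a = 3 ∨ orderOf a = 5 by omega).imp (fun e => ⟨e, ?_⟩) fun e => ⟨e, ?_⟩⟩
    · exact hd a ▸ (t2 _ (s1 a ha)).2.1 (T.ord a ▸ e)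
    · exact hd a ▸ (t2 _ (s1 a ha)).2.2.1 (T.ord a ▸ e)
  have s4 : ∀ {j : G} {b : K}, Rl L ι j b → j * j = 1 → L.tr j ≠ 24 → L.tr j ≠ -24 → orderOf b = 2 := by
    intro j b h1 h2 h3 h4
    refine orderOf_eq_prime ((pow_two b).trans (h.inj ((h.sq h1).symm.trans (h2.trans (map_one ι).symm)))) fun e => ?_
    have h5 := h.tr h1
    rw [e, map_one, h.ok.tr_one] at h5
    exact h5.elim h3 h4
  have s5 : ∀ k : K, Sp.Co2.D.N ≤ Sp.Co2.D.cnt (T.ty k) * Nat.card (centralizer ({k} : Set K)) := Sp1.le_cnt H.mass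
  have s6 := hr.1
  have s7 : ∀ k, T.ty k = 1 → L.I8 (L.m * ι k) := fun k hk =>
    ⟨by rw [h.sq (Or.inr rfl), sq_one hk, map_one], by rw [h.ok.tr_m_mul, hd, hk, t0.2.1, neg_neg]⟩
  refine
    { le := fun _ ⟨a, _, h1⟩ => ⟨a, mem_top a, h1⟩
      mA := ⟨1, one_mem A, Or.inr (by rw [map_one, mul_one])⟩
      d8 := ?_, dH := ?_, dc := ?_, mx := ?_, syl := ?_, big := ?_, big2 := ?_, mode := Or.inr ⟨⟨ι.range, ?_, ?_, ?_⟩, ?_, ?_⟩
      o1 := ?_, o9 := ?_, o2 := ?_, o3 := ?_, o4 := ?_, o5 := ?_, o6 := ?_ }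
  · rintro _ ⟨k, hk, rfl⟩
    exact s7 k hk
  · rintro _ ⟨k, -, rfl⟩
    exact h.O_le k
  · rintro _ ⟨k, hk, rfl⟩ g ⟨c, -, hc⟩
    exact ⟨c * k * c⁻¹, (T.conj k c).trans hk, by rw [h.conj hc, ← conj_mul, h.ok.conj_m, map_mul, map_mul, map_inv]⟩
  · rintro E h1 h2 ⟨u, h3, h4, h5⟩ h6 g ⟨c, -, hc⟩ h7
    refine ⟨c, hm (h.dn E) (fun e => ?_) (Sp4T.ne_top_of_pgroup (q := 3) Nat.prime_two Nat.prime_three (by decide)
      (by rw [H.mass.1, t0.2.2.2.2.1]; decide) (h.two_dn h2)) ?_ c ?_, hc⟩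
    · obtain ⟨k, -, hk⟩ := h1 h3
      obtain rfl : k = 1 := mem_bot.1 (e.le ⟨u, h3, hk⟩)
      rw [Rl, map_one, mul_one] at hk
      exact hk.elim h4 h5
    · rintro a ha _ ⟨w, h8, h9⟩
      exact ⟨_, h6 _ ⟨a, ha, Or.inl rfl⟩ w h8, h.conj' (Or.inl rfl) h9⟩
    · rintro _ ⟨w, h8, h9⟩
      exact ⟨_, h7 w h8, h.conj' hc h9⟩
  · intro P h1 h2
    let _ : MulAction (h.dn P) {k // T.ty k = 1} :=
      { smul := fun c k => ⟨c * k * c⁻¹, (T.conj k.1 c).trans k.2⟩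
        one_smul := fun k => Subtype.ext (by show 1 * k.1 * 1⁻¹ = k.1; group)
        mul_smul := fun c d k => Subtype.ext (by show c.1 * d * k.1 * (c.1 * d)⁻¹ = c * (d * k.1 * d.1⁻¹) * c.1⁻¹; group) }
    have : Fact (Nat.Prime 2) := ⟨Nat.prime_two⟩
    obtain ⟨k, hk⟩ := (h.two_dn h2).nonempty_fixed_point_of_prime_not_dvd_card {k // T.ty k = 1}
      (by rw [H.mass.2 1 t0.2.2.2.2.2, t0.2.2.2.1]; decide)
    refine ⟨_, ⟨k, k.2, rfl⟩, fun x hx => ?_⟩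
    obtain ⟨c, -, hc⟩ := h1 hx
    exact (h.comm hc (Or.inr rfl)).2 (mul_inv_eq_iff_eq_mul.1 (congrArg Subtype.val (hk ⟨c, x, hx, hc⟩) :))
  · rintro s ⟨k, -, hk⟩ hs
    have h1 := s5 k
    have h2 := h.tr hk
    rw [hs.2, hd] at h2
    have h3 := (t1 _ (T.lt k) (T.ord k ▸ (s4 hk hs.1 (by rw [hs.2]; decide) (by rw [hs.2]; decide)).dvd)).2 (by omega)
    have h4 := h1.trans (Nat.mul_le_mul_right _ h3)
    rw [h.cent hk, h.card_up, h.card_up]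
    rw [t0.2.2.2.2.1] at h4
    omega
  · rintro _ ⟨k, hk, rfl⟩
    have h1 := s5 k
    rw [h.cent (Or.inr rfl), h.card_up, h.card_up]
    rw [hk, t0.2.2.2.2.1, t0.2.2.2.1] at h1
    omega
  · rintro ⟨k, hk⟩
    exact h.ne' k 1 (by rw [hk, map_one, mul_one])
  · rintro _ ⟨k, -, rfl | rfl⟩
    exacts [Or.inl ⟨k, rfl⟩, Or.inr ⟨k, (h.mm _).symm⟩]
  · rintro _ ⟨k, -, rfl⟩
    exact ⟨k, (h.mm _).symm⟩
  · rintro _ ⟨a, -, rfl⟩ _ ⟨b, -, rfl⟩
    exact h.not_pp a b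
  · have h1 : Nat.card (L.Prs (D0 L ι T)) ≤ 71725500 := by
      have h1 : ∀ p : L.Prs (D0 L ι T), ∃ q : {p : K × K // T.ty p.1 = 1 ∧ T.ty p.2 = 1 ∧ T.ty (p.1 * p.2) = 2},
          p.1 = (L.m * ι q.1.1, L.m * ι q.1.2) := by
        rintro ⟨⟨x, y⟩, ⟨a, ha, h4⟩, ⟨b, hb, h5⟩, _, _, h1, h2⟩
        obtain rfl : x = _ := h4
        obtain rfl : y = _ := h5
        have h3 : a * b = b * a := (h.comm (Or.inr rfl) (Or.inr rfl)).1 h1
        refine ⟨⟨(a, b), ha, hb, (t1 _ (T.lt _) (ord_dvd ?_)).1 ?_⟩, rfl⟩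
        · rw [mul_assoc, ← mul_assoc b, ← h3, mul_assoc, sq_one hb, mul_one, sq_one ha]
        · rwa [mul_assoc, ← mul_assoc (ι a), h.ok.m_comm, mul_assoc, h.mm, ← map_mul, hd] at h2
      choose q hq using h1
      exact (Nat.card_le_card_of_injective q fun a b e => Subtype.ext (by rw [hq a, hq b, e])).trans
        (Str.pairs_le H.mass H.tab hU t4)
    have h2 := Nat.mul_le_mul h1 (Nat.mul_le_mul_left 2 s6)
    rw [h.card_up, h.card_up, card_top, H.mass.1, t0.2.2.2.2.1]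
    omega
  · intro x hx h1
    by_cases h2 : orderOf x = 2
    · exact Or.inl h2
    obtain ⟨a, -, -, h3, h4⟩ := s3 x hx h1 h2
    omega
  · rintro x ⟨a, ha, h1⟩ h2
    obtain rfl := h.odd h1 (by rw [h2]; decide)
    have := s2 a ha
    rw [orderOf_injective ι h.inj] at h2
    omega
  · rintro x hx h1 h2 j ⟨b, hb, h3⟩ h4 h5 h6
    obtain ⟨a, ha, rfl, -, h7⟩ := s3 x hx h1 h2
    have h8 := s4 h3 h4 (by omega) (by omega)
    have h9 : Commute b a := ((h.comm (Or.inl rfl) h3).1 h5).symm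
    have h10 := s2 _ (mul_mem hb ha)
    rcases h7 with ⟨h7, -⟩ | ⟨h7, -⟩
    · obtain ⟨k1, k2, k3, -⟩ := Sp4.six H hS hb ha h8 h7 h9
      have k4 := (t2 _ (List.mem_cons_of_mem _ k1)).2.2.2.1 k2
      have k5 := h.tr h3
      rw [k3, ← hd] at k4
      omega
    · rw [Sp4.ord_mul h9 h8 h7 (by decide)] at h10
      omega
  · rintro x hx h1 h2 - q ⟨b, hb, h3⟩ h5 h6
    obtain ⟨a, ha, rfl, -, h7⟩ := s3 x hx h1 h2
    have h9 : Commute b a := ((h.comm (Or.inl rfl) h3).1 h5).symm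
    have h10 := s2 _ (mul_mem hb ha)
    rcases h7 with ⟨h7, -⟩ | ⟨h7, -⟩ <;> rw [Sp4.ord_mul h9 (h.four h3 h6) h7 (by decide)] at h10 <;> omega
  · rintro x hx h1 h2 h4 j ⟨b, hb, h3⟩ h6 h5
    obtain ⟨a, ha, rfl, -, h7⟩ := s3 x hx h1 h2
    have h9 : Commute b a := ((h.comm (Or.inl rfl) h3).1 h5).symm
    have h10 := s2 _ (mul_mem hb ha)
    rw [Sp4.ord_mul h9 (s4 h3 h6.1 (by rw [h6.2]; decide) (by rw [h6.2]; decide)) (show orderOf a = 5 by omega)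
      (by decide)] at h10
    omega
  · rintro q ⟨b, hb, h1⟩ h2
    have h3 := (t2 _ (s1 b hb)).2.2.2.2.1 (T.ord b ▸ h.four h1 h2)
    have h4 := h.tr h1
    rw [hd] at h4
    omega
  · rintro w hw a ⟨a0, ha, h1⟩ g ⟨g0, hg, h2⟩ h3 - - - h4
    obtain ⟨w0, hw0, rfl, -⟩ := s3 w hw (h3 ▸ Nat.prime_three) (by omega)
    have h5 : a * (g * a * g⁻¹) = ι (a0 * (g0 * a0 * g0⁻¹)) := by
      rw [h.conj h2]
      rcases h1 with rfl | rfl <;> simp only [map_mul, map_inv]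
      rw [← conj_mul, h.ok.conj_m, mul_assoc, ← mul_assoc (ι a0), h.ok.m_comm, mul_assoc, h.mm]
    have h6 := mul_mem hw0 (mul_mem ha (mul_mem (mul_mem hg ha) (inv_mem hg)))
    rw [h5, ← map_mul, hd] at h4
    have h7 := (t2 _ (s1 _ h6)).2.2.2.2.2 h4
    obtain h8 | ⟨e, h8, h9, h10, -⟩ := hr.2 _ h6
    · omega
    have h11 := t3 e h8 (h9.symm.trans h7)
    rw [h.card_up]
    omega

end cx

theorem emb {L : Lx Co0} (h1 : L.ρ = rC) (o : Ok L) {K : Type} [Group K] (e : K ≃* Spor.Co2) :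
    Emb L ((inclusion (inf_le_left : Spor.Co2 ≤ Co0)).comp e.toMonoidHom) (H419.LeechIrr.toC Spor.leechU) where
  ok := o
  inj := (inclusion_injective (inf_le_left : Spor.Co2 ≤ Co0)).comp e.injective
  ne := fun h => absurd (Int.cast_eq_zero.1 (congrFun h none : ((Spor.vecU none : ℤ) : ℂ) = 0)) (by decide)
  fix := fun g => by
    have h2 : L.ρ g (H419.LeechIrr.toC Spor.leechU) = H419.LeechIrr.toC (g • Spor.leechU) :=
      h1 ▸ H419.LeechIrr.repC_toC g Spor.leechU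
    rw [h2]
    refine H419.LeechIrr.toC_injective.eq_iff.trans ⟨fun h => ⟨e.symm ⟨g.1, g.2, h⟩, ?_⟩, ?_⟩
    · exact Subtype.ext (congrArg Subtype.val (e.apply_symm_apply ⟨g.1, g.2, h⟩)).symm
    · rintro ⟨k, rfl⟩
      exact (e k).2.2

end Cov2

theorem boxCov2 (hD : BoxDict2) : BoxCov2 := by
  rintro K _ _ _ ⟨e⟩ T H hU A Γ hm hb L h1 o
  have h := Cov2.emb h1 o e
  refine ⟨h.up ⊤, Cov2.D0 L _ T, h.pr, fun k => ⟨⟨_, k, mem_top k, Or.inl rfl⟩, (h.pr_eq _ k).2 (Or.inl rfl)⟩, fun x => ?_, ?_,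
    fun k hk => ⟨⟨_, k, mem_top k, Or.inr rfl⟩, ⟨k, hk, rfl⟩, (h.pr_eq _ k).2 (Or.inr rfl)⟩⟩
  · rw [h.pr_eq, Cov2.Rl, map_one, mul_one]
  · rw [h.up_eq]
    exact Cov2.cx h (hD L h1 o.trace K e T H) H hU (Sp4T.mx_of_mi (Sp4T.out_congr e S2070.result) hm)
      (Sp.Co2.res H hb hm.ne_top) (Sp.Co2.sup H hb hm.ne_top).2

end Cfsg.Agent.N2.Co2L
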