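import Cfsg.Agent.N2.Co2L.Defs

/-!
# N2 (S3519), the 2-local case of Co1 and Co2: simultaneous diagonalisation (helper99)
-/

set_option autoImplicit false

namespace Cfsg.Agent.N2.Co2L

open Finset
open scoped symmDiff

namespace Diag

theorem exists_chars {A : Type} [AddCommGroup A] [Fintype A] (ρ : A → Module.End ℂ Vs) (h0 : ρ 0 = 1)
    (h1 : ∀ a b, ρ (a + b) = ρ a * ρ b) (h2 : ∀ a : A, a + a = 0) :
    ∃ c : Fin 24 → AddChar A ℂ, ∀ a, LinearMap.trace ℂ Vs (ρ a) = ∑ i, c i a := by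
  classical
  have hc : (Fintype.card A : ℂ) ≠ 0 := Nat.cast_ne_zero.2 Fintype.card_ne_zero
  have hq : ∀ (ψ : AddChar A ℂ) a, ψ a * ψ a = 1 := fun ψ a => by rw [← ψ.map_add_eq_mul, h2, ψ.map_zero_eq_one]
  let e : AddChar A ℂ → Module.End ℂ Vs := fun ψ => (Fintype.card A : ℂ)⁻¹ • ∑ a, ψ a • ρ a
  have h3 : ∀ ψ b, ρ b * e ψ = ψ b • e ψ := fun ψ b => by
    rw [mul_smul_comm, smul_comm (ψ b), mul_sum, smul_sum (r := ψ b)]
    refine congrArg _ (Fintype.sum_equiv (Equiv.addLeft b) _ _ fun a => ?_)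
    rw [Equiv.coe_addLeft, mul_smul_comm, h1, smul_smul, ψ.map_add_eq_mul, ← mul_assoc, hq, one_mul]
  have h4 : ∀ ψ, e ψ * e ψ = e ψ := fun ψ => by
    conv_lhs => rw [show e ψ * e ψ = (Fintype.card A : ℂ)⁻¹ • ((∑ a, ψ a • ρ a) * e ψ) from smul_mul_assoc _ _ _, sum_mul]
    simp only [smul_mul_assoc, h3, smul_smul, hq, one_smul]
    rw [sum_const, card_univ, ← Nat.cast_smul_eq_nsmul ℂ, smul_smul, inv_mul_cancel₀ hc, one_smul]
  have h5 : ∑ ψ, e ψ = 1 := by
    rw [← smul_sum, sum_comm]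
    simp only [← sum_smul, AddChar.sum_apply_eq_ite, ite_smul, zero_smul, sum_ite_eq', mem_univ, if_true]
    rw [smul_smul, inv_mul_cancel₀ hc, one_smul, h0]
  choose n hn using fun ψ => idem_nat (h4 ψ)
  have h6 : ∀ a, LinearMap.trace ℂ Vs (ρ a) = ∑ x : Σ ψ, Fin (n ψ), x.1 a := fun a => by
    rw [← mul_one (ρ a), ← h5, mul_sum, map_sum, Fintype.sum_sigma]
    refine sum_congr rfl fun ψ _ => ?_
    rw [h3, map_smul, hn, smul_eq_mul, mul_comm]
    simp only [sum_const, card_univ, Fintype.card_fin, nsmul_eq_mul]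
  have h7 : Fintype.card (Σ ψ, Fin (n ψ)) = 24 := by
    have h8 := h6 0
    simp only [h0, LinearMap.trace_one, finrank_Vs, AddChar.map_zero_eq_one, sum_const, card_univ, nsmul_eq_mul, mul_one] at h8
    exact_mod_cast h8.symm
  exact ⟨fun i => ((Fintype.equivFinOfCardEq h7).symm i).1, fun a =>
    (h6 a).trans (Equiv.sum_comp (Fintype.equivFinOfCardEq h7).symm fun x => x.1 a).symm⟩

theorem avg {e y : Module.End ℂ Vs} (h1 : e * e = e) (h2 : e * y = y * e) (h3 : y * y * y = 1) : ∃ k : ℕ,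
    LinearMap.trace ℂ Vs e + LinearMap.trace ℂ Vs (e * y) + LinearMap.trace ℂ Vs (e * (y * y)) = 3 * k := by
  have h4 : y * (1 + y + y * y) = 1 + y + y * y := by rw [mul_add, mul_add, mul_one, ← mul_assoc, h3]; abel
  have h5 : IsIdempotentElem ((1 / 3 : ℂ) • (1 + y + y * y)) := by
    show _ * _ = _
    rw [smul_mul_smul_comm, add_mul, add_mul, one_mul, mul_assoc, h4, h4]
    module
  obtain ⟨k, hk⟩ := idem_nat (IsIdempotentElem.mul_of_commute
    ((((Commute.one_right e).add_right h2).add_right (Commute.mul_right h2 h2)).smul_right _) h1 h5)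
  rw [mul_smul_comm, mul_add, mul_add, mul_one, map_smul, map_add, map_add, smul_eq_mul] at hk
  exact ⟨k, by linear_combination 3 * hk⟩

end Diag

open Diag

/-- **[Diag]** -/
theorem boxDiag : BoxDiag := by
  intro G _ _ L o E hE
  classical
  have := Fintype.ofFinite E
  have h1 : ∀ a : E, a * a = 1 := fun a => Subtype.ext (hE a a.2)
  let _ : CommGroup E := { (inferInstance : Group E) with
    mul_comm := fun a b => by
      rw [← inv_eq_of_mul_eq_one_right (h1 (a * b)), mul_inv_rev, inv_eq_of_mul_eq_one_right (h1 a),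
        inv_eq_of_mul_eq_one_right (h1 b)] }
  obtain ⟨c, hc⟩ := exists_chars (A := Additive E) (fun a => L.ρ (a.toMul : E)) (map_one L.ρ) (fun a b => map_mul L.ρ _ _) h1
  obtain ⟨d, hd⟩ : ∃ d : Fin 24 → G → ℂ, ∀ i a (h : a ∈ E), d i a = c i (.ofMul ⟨a, h⟩) :=
    ⟨fun i a => if h : a ∈ E then c i (.ofMul ⟨a, h⟩) else 1, fun i a h => dif_pos h⟩
  have h2 : ∀ i, ∀ a ∈ E, d i a = 1 ∨ d i a = -1 := fun i a ha => mul_self_eq_one_iff.1 (by
    rw [hd i a ha, ← AddChar.map_add_eq_mul, ← ofMul_mul, h1, ofMul_one, AddChar.map_zero_eq_one])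
  refine ⟨fun a => univ.filter fun i => d i a = -1, fun a ha b hb => ?_, fun a ha => ?_⟩
  · ext i
    have h3 : d i (a * b) = d i a * d i b := by
      rw [hd i a ha, hd i b hb, hd i _ (mul_mem ha hb)]
      exact (c i).map_add_eq_mul (.ofMul ⟨a, ha⟩) (.ofMul ⟨b, hb⟩)
    simp only [mem_symmDiff, mem_filter, mem_univ, true_and, h3]
    rcases h2 i a ha with h4 | h4 <;> rcases h2 i b hb with h5 | h5 <;> rw [h4, h5] <;> norm_num
  · have h3 := hc (.ofMul ⟨a, ha⟩)
    rw [show ((Additive.ofMul (⟨a, ha⟩ : E)).toMul : G) = a from rfl, o.trace, sum_congr rfl fun i _ =>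
      show c i (.ofMul ⟨a, ha⟩) = 1 - 2 * if d i a = -1 then 1 else 0 by
        rw [← hd i a ha]
        rcases h2 i a ha with h4 | h4 <;> rw [h4] <;> norm_num,
      sum_sub_distrib, ← mul_sum, sum_boole, sum_const, card_univ, Fintype.card_fin, nsmul_eq_mul, mul_one] at h3
    exact_mod_cast h3

/-- **[Three]** -/
theorem boxThree : BoxThree := by
  intro e x n τ h1 h2 h3 h4 h5 h6
  obtain ⟨s, hs⟩ := IsAlgClosed.exists_eq_mul_self (-3 : ℂ)
  obtain ⟨w, hw⟩ : ∃ w : ℂ, w * w + w + 1 = 0 := ⟨(s - 1) / 2, by linear_combination (-1 / 4) * hs⟩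
  obtain ⟨i, hi⟩ := avg h1 h2 h3
  obtain ⟨j, hj⟩ := avg (y := w • x) h1 (by rw [mul_smul_comm, smul_mul_assoc, h2]) (by
    rw [smul_mul_smul_comm, smul_mul_smul_comm, h3, show w * w * w = 1 by linear_combination (w - 1) * hw, one_smul])
  rw [smul_mul_smul_comm, mul_smul_comm, mul_smul_comm, map_smul, map_smul, smul_eq_mul, smul_eq_mul] at hj
  rw [h4, h5, h6] at hi hj
  have h7 : (n : ℂ) = i + 2 * j := by linear_combination (1 / 3) * hi + (2 / 3) * hj - (2 / 3) * τ * hw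
  have h8 : (τ : ℂ) = i - j := by linear_combination (1 / 3) * hi - (1 / 3) * hj + (1 / 3) * τ * hw
  exact ⟨i, j, by exact_mod_cast h7, by exact_mod_cast h8⟩

end Cfsg.Agent.N2.Co2L
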