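import Cfsg.Agent.N2.Co2L.Inst
import Cfsg.Agent.N2.Co2L.Dict

/-!
# N2 (S3519), the 2-local case of Co1 and Co2: the dictionaries (helper16)
-/

set_option autoImplicit false
set_option maxRecDepth 100000

namespace Cfsg.Agent.N2.Co2L

open Cfsg Cfsg.Agent.TAB.Eng Cfsg.Agent.TAB.Use
open Cfsg.Agent.Co2Type.Mono (tr8 toCo0)
open Cfsg.Agent.TAB.Co1 (s276 s576)

/-- the two traces -/
theorem tr8_eq {L : Lx Co0} (h1 : L.ρ = rC) (h2 : ∀ g, LinearMap.trace ℂ Vs (L.ρ g) = L.tr g) (g : Co0) :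
    tr8 g = 8 * L.tr g := by
  have h3 : LinearMap.trace ℂ Vs (rC g) = (tr8 g : ℂ) / 8 := H419.LeechIrr.trace_repC g
  rw [← h1, h2] at h3
  have h4 : (tr8 g : ℂ) = 8 * L.tr g := by linear_combination -8 * h3
  exact_mod_cast h4

namespace Dict

theorem c1 : ∀ t < 99, Sp4.rw Sp.Co1.R 1 t = nth s276 t ∧ 1 + nth s276 t + Sp4.rw Sp.Co1.R 2 t = nth s576 t := by
  decide +kernel

theorem c2 : ∀ t < 56, Sp4.rw Sp.Co2.R 1 t = nth s23 t := by decide +kernel

end Dict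

theorem boxDict1 : BoxDict1 := fun L h1 h2 K _ _ e T H g => by
  obtain ⟨h3, h4⟩ := Dict.co1 e.symm H.tab ((H.zero 1).2 rfl) g
  obtain ⟨h5, h6⟩ := Dict.c1 _ (T.lt (e.symm g))
  rw [tr8_eq h1 h2] at h3 h4
  change _ = 64 * nth s576 (T.ty (e.symm g)) at h3
  change _ = 8 * (nth s576 (T.ty (e.symm g)) - 2 * nth s276 (T.ty (e.symm g))) at h4
  constructor
  · linarith
  · linarith

theorem boxDict2 : BoxDict2 := fun L h1 h2 K _ _ e T H g => by
  have : Nontrivial K := by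
    rw [← Finite.one_lt_card_iff_nontrivial, H.mass.1]
    decide
  have h3 := Dict.co2 e.symm H.tab ((H.zero 1).2 rfl) (e g)
  rw [tr8_eq h1 h2, e.symm_apply_apply, ← Dict.c2 _ (T.lt g)] at h3
  change 8 * L.tr (Subgroup.inclusion (inf_le_left : Spor.Co2 ≤ Co0) (e g)) = _ at h3
  linarith

end Cfsg.Agent.N2.Co2L
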