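import Cfsg.Agent.N2.Co2L.Defs
import Cfsg.Agent.S0058

/-!
# N2 (S3519), the 2-local case of Co1 and Co2: two four-groups (helper96)

`boxFf : BoxFf`, `boxE6 : BoxThree → BoxE6`.
-/

set_option autoImplicit false
set_option linter.unusedSectionVars false
set_option maxHeartbeats 400000

namespace Cfsg.Agent.N2.Co2L

open Cfsg Subgroup
open scoped Pointwise

namespace FfP

variable {G : Type} [Group G] {L : Lx G} {ε ε' : ℤ} {a b c d g u v w : G}

/-- the idempotent of a character of a four-group -/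
noncomputable def Fs (L : Lx G) (ε : ℤ) (a b : G) : Module.End ℂ Vs :=
  (1 / 4 : ℂ) • (1 + (ε : ℂ) • L.ρ a + (ε : ℂ) • L.ρ b + L.ρ (a * b))

/-- its trace against an element -/
def Tt (L : Lx G) (ε : ℤ) (a b g : G) : ℤ := L.tr g + ε * L.tr (a * g) + ε * L.tr (b * g) + L.tr (a * b * g)

theorem tr_Fs (o : Ok L) (ε : ℤ) (a b g : G) : LinearMap.trace ℂ Vs (Fs L ε a b * L.ρ g) = (Tt L ε a b g : ℂ) / 4 := by
  simp only [Fs, smul_mul_assoc, add_mul, one_mul, ← map_mul, map_smul, map_add, o.trace, Tt, smul_eq_mul]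
  push_cast
  ring

theorem tr_Fs2 (o : Ok L) (ε ε' : ℤ) (a b c d g : G) : LinearMap.trace ℂ Vs (Fs L ε a b * Fs L ε' c d * L.ρ g) =
    ((Tt L ε a b g + ε' * Tt L ε a b (c * g) + ε' * Tt L ε a b (d * g) + Tt L ε a b (c * d * g) : ℤ) : ℂ) / 16 := by
  rw [mul_assoc, Fs.eq_1 L ε']
  simp only [smul_mul_assoc, add_mul, one_mul, ← map_mul, mul_smul_comm, mul_add, map_smul, map_add, tr_Fs o, smul_eq_mul]
  push_cast
  ring

theorem idem (hε : ε = 1 ∨ ε = -1) (h1 : a * a = 1) (h2 : b * b = 1) (h3 : b * a = a * b) :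
    Fs L ε a b * Fs L ε a b = Fs L ε a b := by
  have h4 : a * (a * b) = b := by rw [← mul_assoc, h1, one_mul]
  have h5 : b * (a * b) = a := by rw [← h3, ← mul_assoc, h2, one_mul]
  have h6 : a * b * a = b := by rw [mul_assoc, h3, h4]
  have h7 : a * b * b = a := by rw [mul_assoc, h2, mul_one]
  have h8 : a * b * (a * b) = 1 := by rw [← mul_assoc, h6, h2]
  simp only [Fs, smul_mul_assoc, add_mul, one_mul, mul_one, ← map_mul, mul_smul_comm, mul_add, h1, h2, h3, h4, h5, h6, h7, h8,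
    map_one]
  rcases hε with rfl | rfl <;> push_cast <;> module

theorem comm_of {X : Module.End ℂ Vs} (h1 : Commute (L.ρ a) X) (h2 : Commute (L.ρ b) X) : Commute (Fs L ε a b) X :=
  ((((Commute.one_left X).add_left (h1.smul_left _)).add_left (h2.smul_left _)).add_left
    (map_mul L.ρ a b ▸ h1.mul_left h2)).smul_left _

theorem comm_rot (h3 : d * c = c * d) (h2 : d * d = 1) (h4 : v * c * v⁻¹ = d) (h5 : v * d * v⁻¹ = c * d) :
    Commute (Fs L 1 c d) (L.ρ v) := by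
  have h6 : v * c = d * v := mul_inv_eq_iff_eq_mul.1 h4
  have h7 : v * d = c * d * v := mul_inv_eq_iff_eq_mul.1 h5
  have h8 : v * (c * d) = c * v := by
    rw [← mul_assoc, h6, mul_assoc, h7, ← mul_assoc, ← mul_assoc, h3, mul_assoc c, h2, mul_one]
  show _ * _ = _ * _
  simp only [Fs, smul_mul_assoc, add_mul, one_mul, mul_one, ← map_mul, mul_smul_comm, mul_add, h6, h7, h8]
  push_cast
  module

theorem rot (o : Ok L) (h1 : c * c = 1) (h3 : d * c = c * d) (h2 : d * d = 1) (h4 : v * c * v⁻¹ = d) (h5 : v * d * v⁻¹ = c * d)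
    (h6 : u * c = c * u) (h7 : u * d = d * u) :
    L.tr (u * (c * v)) = L.tr (u * v) ∧ L.tr (u * (d * v)) = L.tr (u * v) ∧ L.tr (u * (c * d * v)) = L.tr (u * v) := by
  have k1 : v * c = d * v := mul_inv_eq_iff_eq_mul.1 h4
  have k2 : v * d = c * d * v := mul_inv_eq_iff_eq_mul.1 h5
  have k3 : d * (c * d) = c := by rw [← mul_assoc, h3, mul_assoc, h2, mul_one]
  have k4 : ∀ g, L.tr (u * (c * (g * c))) = L.tr (u * g) := fun g => by
    rw [← mul_assoc, h6, mul_assoc, o.tr_comm c, mul_assoc, mul_assoc, h1, mul_one]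
  have k5 : ∀ g, L.tr (u * (d * (g * d))) = L.tr (u * g) := fun g => by
    rw [← mul_assoc, h7, mul_assoc, o.tr_comm d, mul_assoc, mul_assoc, h2, mul_one]
  have k6 : L.tr (u * (c * v)) = L.tr (u * v) := by rw [← k5 v, k2, ← mul_assoc d, k3]
  refine ⟨k6, ?_, by rw [← k4 v, k1, mul_assoc]⟩
  rw [← k6, ← k4 (c * v), mul_assoc c v, k1, ← mul_assoc c c, h1, one_mul]

theorem tr_sq [Finite G] (o : Ok L) (h1 : u * u = 1) (h2 : orderOf v = 3) (h3 : u * v = v * u) :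
    L.tr (u * (v * v)) = L.tr (u * v) := by
  have h4 : u ^ 2 = 1 := (pow_two u).trans h1
  have h5 : v ^ 3 = 1 := h2 ▸ pow_orderOf_eq_one v
  have h6 : (u * v) ^ 6 = 1 := by
    rw [Commute.mul_pow h3, show 6 = 2 * 3 from rfl, pow_mul, h4, mul_comm, pow_mul, h5, one_pow, one_pow, one_mul]
  rw [← o.pow (u * v) 5 (Nat.Coprime.of_dvd_right (orderOf_dvd_of_pow_eq_one h6) (by decide)), Commute.mul_pow h3,
    show u ^ 5 = (u ^ 2) ^ 2 * u by group, show v ^ 5 = v ^ 3 * (v * v) by group, h4, h5, one_pow, one_mul, one_mul]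

/-- the group theoretic part of the data: `v` centralises and `w` rotates the four-group -/
structure Ro (E : Subgroup G) (v w a b : G) : Prop where
  aE : a ∈ E
  bE : b ∈ E
  va : v * a * v⁻¹ = a
  vb : v * b * v⁻¹ = b
  wa : w * a * w⁻¹ = b
  wb : w * b * w⁻¹ = a * b

variable [Finite G] {H A Q : Subgroup G} {D0 D : Set G} (h : St L H A Q D0 D)
include h

theorem Ro.wab (r : Ro (L.U D) v w a b) : w * (a * b) * w⁻¹ = a := by
  rw [← conj_mul, r.wa, r.wb, ← mul_assoc, h.U_comm r.bE r.aE, mul_assoc, h.U_sq r.bE, mul_one]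

theorem Ro.trs (r : Ro (L.U D) v w a b) (hg : w * g = g * w) :
    L.tr (b * g) = L.tr (a * g) ∧ L.tr (a * b * g) = L.tr (a * g) := by
  have k : w * g * w⁻¹ = g := by rw [hg, mul_inv_cancel_right]
  have k1 : L.tr (b * g) = L.tr (a * g) := by rw [← h.ok.tr_conj w (a * g), ← conj_mul, k, r.wa]
  exact ⟨k1, by rw [← k1, ← h.ok.tr_conj w (b * g), ← conj_mul, k, r.wb]⟩

theorem Ro.tt (r : Ro (L.U D) v w a b) (hg : w * g = g * w) (ε : ℤ) : Tt L ε a b g = L.tr g + (2 * ε + 1) * L.tr (a * g) := by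
  rw [Tt, (r.trs h hg).1, (r.trs h hg).2]
  ring

theorem Ro.idem (r : Ro (L.U D) v w a b) (hε : ε = 1 ∨ ε = -1) : Fs L ε a b * Fs L ε a b = Fs L ε a b :=
  FfP.idem hε (h.U_sq r.aE) (h.U_sq r.bE) (h.U_comm r.bE r.aE)

theorem Ro.comm (r : Ro (L.U D) v w a b) : Commute (Fs L ε a b) (L.ρ v) :=
  comm_of (Commute.map (mul_inv_eq_iff_eq_mul.1 r.va).symm _) (Commute.map (mul_inv_eq_iff_eq_mul.1 r.vb).symm _)

theorem Ro.rot (r : Ro (L.U D) v w a b) (hu : u ∈ L.U D) :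
    L.tr (u * (a * w)) = L.tr (u * w) ∧ L.tr (u * (b * w)) = L.tr (u * w) ∧ L.tr (u * (a * b * w)) = L.tr (u * w) :=
  FfP.rot h.ok (h.U_sq r.aE) (h.U_comm r.bE r.aE) (h.U_sq r.bE) r.wa r.wb (h.U_comm hu r.aE) (h.U_comm hu r.bE)

theorem Ro.rot2 (r : Ro (L.U D) v w a b) (hu : u ∈ L.U D) : L.tr (u * (a * (w * w))) = L.tr (u * (w * w)) ∧
    L.tr (u * (b * (w * w))) = L.tr (u * (w * w)) ∧ L.tr (u * (a * b * (w * w))) = L.tr (u * (w * w)) := by
  have k : a * (a * b) = b := by rw [← mul_assoc, h.U_sq r.aE, one_mul]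
  have k1 : ∀ x, w * w * x * (w * w)⁻¹ = w * (w * x * w⁻¹) * w⁻¹ := fun x => by group
  have k2 := FfP.rot h.ok (v := w * w) (h.U_sq r.aE) (h.U_comm (mul_mem r.aE r.bE) r.aE) (h.U_sq (mul_mem r.aE r.bE))
    (by rw [k1, r.wa, r.wb]) (by rw [k1, r.wab h, r.wa, k]) (h.U_comm hu r.aE) (h.U_comm hu (mul_mem r.aE r.bE))
  rw [k] at k2
  exact ⟨k2.1, k2.2.2, k2.2.1⟩

theorem exists_ro (hw : w ∈ A) (h3 : w ^ 3 = 1) (hc : v * w = w * v) (hu : u ∈ L.U D) (h1 : v * u = u * v)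
    (h2 : w * u ≠ u * w) : ∃ a b, Ro (L.U D) v w a b ∧ a ≠ 1 ∧ a ≠ L.m := by
  have k1 := h.U_conj hw hu
  have k2 := h.U_conj hw k1
  have k3 : w * (w * (w * u * w⁻¹) * w⁻¹) * w⁻¹ = u := by
    rw [show w * (w * (w * u * w⁻¹) * w⁻¹) * w⁻¹ = w ^ 3 * u * (w ^ 3)⁻¹ by
      simp only [pow_succ, pow_zero, one_mul, mul_inv_rev, mul_assoc], h3, one_mul, inv_one, mul_one]
  have k4 : Commute v (u * (w * u * w⁻¹)) :=
    Commute.mul_right h1 ((Commute.mul_right hc h1).mul_right (Commute.inv_right hc))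
  have k5 : Commute v (w * (u * (w * u * w⁻¹)) * w⁻¹) := (Commute.mul_right hc k4).mul_right (Commute.inv_right hc)
  have r : Ro (L.U D) v w (u * (w * u * w⁻¹)) (w * (u * (w * u * w⁻¹)) * w⁻¹) :=
    ⟨mul_mem hu k1, h.U_conj hw (mul_mem hu k1), mul_inv_eq_iff_eq_mul.2 k4, mul_inv_eq_iff_eq_mul.2 k5, rfl, by
      have e : ∀ x y : G, w * (x * y) * w⁻¹ = w * x * w⁻¹ * (w * y * w⁻¹) := fun x y => conj_mul.symm
      rw [e u, e (w * u * w⁻¹), k3, mul_assoc u, ← mul_assoc (w * u * w⁻¹), h.U_sq k1, one_mul, h.U_comm k2 hu]⟩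
  refine ⟨_, _, r, fun e => h2 (mul_inv_eq_iff_eq_mul.1 (mul_left_cancel (e.trans (h.U_sq hu).symm))), fun e => ?_⟩
  have k6 := r.wb
  rw [e, h.ok.conj_m, h.ok.conj_m, h.ok.m_sq] at k6
  exact h.ok.m_ne k6

theorem tr_v (n : Np L A Q D) (r : Ro (L.U D) v w a b) (hv : v ∈ A) (ho : orderOf v = 3) (h1 : L.tr a = 8 ∨ L.tr a = -8) :
    L.tr v = 6 ∨ L.tr v = -3 := by
  have k : v * a = a * v := mul_inv_eq_iff_eq_mul.1 r.va
  refine or_assoc.2 (n.t3 v hv ho) |>.resolve_right fun e => ?_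
  have k1 := h.cx.o4 v hv (ho ▸ Nat.prime_three) (by omega) (.inl e)
  rcases h1 with h1 | h1
  · exact k1 a (h.U_le_A r.aE) ⟨h.U_sq r.aE, h1⟩ k
  · exact k1 _ (h.U_le_A (mul_mem (m_mem_U D) r.aE)) ⟨h.U_sq (mul_mem (m_mem_U D) r.aE), by rw [h.ok.tr_m_mul, h1, neg_neg]⟩
      (by rw [← mul_assoc, h.ok.m_comm, mul_assoc, k, mul_assoc])

theorem tr_pm (r : Ro (L.U D) v w a b) (hv : v ∈ A) (ho : orderOf v = 3) (h1 : a ≠ 1) (h2 : a ≠ L.m) :
    L.tr a = 8 ∨ L.tr a = -8 := by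
  have k := h.cx.o2 v hv (ho ▸ Nat.prime_three) (by omega) a (h.U_le_A r.aE) (h.U_sq r.aE) (mul_inv_eq_iff_eq_mul.1 r.va)
  have := h.U_tr r.aE
  tauto

theorem tr_eight (r : Ro (L.U D) v w a b) (h1 : L.tr a = 8 ∨ L.tr a = -8) (h2 : L.tr w ≠ 0) : L.tr a = 8 := by
  refine h1.resolve_right fun e => h2 ?_
  have k1 := tr_Fs h.ok 1 a b 1
  rw [map_one, mul_one, r.tt h (by simp), h.ok.tr_one, mul_one a, e] at k1
  have k2 := tr_Fs h.ok 1 a b w
  have k3 := r.rot h (one_mem _)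
  simp only [one_mul] at k3
  rw [idem_zero (r.idem h (.inl rfl)) (k1.trans (by norm_num)), zero_mul, map_zero, Tt, k3.1, k3.2.1, k3.2.2] at k2
  have k4 : ((4 * L.tr w : ℤ) : ℂ) = 0 := by
    push_cast at k2 ⊢
    linear_combination -4 * k2
  have k5 := Int.cast_eq_zero.1 k4
  omega

section two

variable (r : Ro (L.U D) v w a b) (s : Ro (L.U D) w v c d)
include r s

theorem idem2 (hε : ε = 1 ∨ ε = -1) (hε' : ε' = 1 ∨ ε' = -1) :
    Fs L ε a b * Fs L ε' c d * (Fs L ε a b * Fs L ε' c d) = Fs L ε a b * Fs L ε' c d :=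
  IsIdempotentElem.mul_of_commute (comm_of
    (comm_of (Commute.map (h.U_comm s.aE r.aE) _) (Commute.map (h.U_comm s.bE r.aE) _)).symm
    (comm_of (Commute.map (h.U_comm s.aE r.bE) _) (Commute.map (h.U_comm s.bE r.bE) _)).symm) (r.idem h hε) (s.idem h hε')

theorem tr2_one (ε ε' : ℤ) : LinearMap.trace ℂ Vs (Fs L ε a b * Fs L ε' c d) =
    ((24 + (2 * ε + 1) * L.tr a + (2 * ε' + 1) * (L.tr c + (2 * ε + 1) * L.tr (a * c)) : ℤ) : ℂ) / 16 := by
  have k := tr_Fs2 h.ok ε ε' a b c d 1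
  have k1 : w * c = c * w := mul_inv_eq_iff_eq_mul.1 s.va
  have k2 : w * d = d * w := mul_inv_eq_iff_eq_mul.1 s.vb
  have k3 := s.trs h (g := 1) (by simp)
  have k4 := s.trs h (g := a) (mul_inv_eq_iff_eq_mul.1 r.va)
  simp only [mul_one, map_one] at k k3
  rw [k, r.tt h (by simp), r.tt h k1, r.tt h k2, r.tt h (Commute.mul_right k1 k2).eq, h.ok.tr_one, mul_one a, k3.1, k3.2,
    h.ok.tr_comm a d, h.ok.tr_comm a (c * d), k4.1, k4.2, h.ok.tr_comm c a]
  congr 2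
  ring

theorem tr2_v (hc : v * w = w * v) (ε : ℤ) : LinearMap.trace ℂ Vs (Fs L ε a b * Fs L 1 c d * L.ρ v) =
    ((L.tr v + (2 * ε + 1) * L.tr (a * v) : ℤ) : ℂ) / 4 := by
  have k0 := s.rot h (one_mem _)
  have k1 := s.rot h r.aE
  have k2 := s.rot h r.bE
  have k3 := s.rot h (mul_mem r.aE r.bE)
  simp only [one_mul] at k0
  rw [tr_Fs2 h.ok, ← r.tt h hc.symm]
  simp only [Tt, k0, k1, k2, k3]
  push_cast
  ring

theorem tr2_vv (hc : v * w = w * v) (ho : orderOf v = 3) (ε : ℤ) :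
    LinearMap.trace ℂ Vs (Fs L ε a b * Fs L 1 c d * (L.ρ v * L.ρ v)) =
      ((L.tr v + (2 * ε + 1) * L.tr (a * v) : ℤ) : ℂ) / 4 := by
  have k0 := s.rot2 h (one_mem _)
  have k1 := s.rot2 h r.aE
  have k2 := s.rot2 h r.bE
  have k3 := s.rot2 h (mul_mem r.aE r.bE)
  have k4 := tr_sq h.ok (one_mul 1) ho (by simp)
  simp only [one_mul] at k0 k4
  rw [← map_mul, tr_Fs2 h.ok, ← tr_sq h.ok (h.U_sq r.aE) ho (mul_inv_eq_iff_eq_mul.1 r.va).symm, ← k4,
    ← r.tt h (Commute.mul_right hc.symm hc.symm).eq]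
  simp only [Tt, k0, k1, k2, k3]
  push_cast
  ring

theorem tr_ac (hc : v * w = w * v) (ho : orderOf v = 3) (h1 : L.tr a = 8) (h2 : L.tr c = 8) (h3 : L.tr v = 6 ∨ L.tr v = -3) :
    L.tr (a * c) = 8 := by
  obtain ⟨n, hn⟩ := idem_nat (idem2 h r s (.inr rfl) (.inr rfl))
  rw [tr2_one h r s, h1, h2, div_eq_iff (by norm_num)] at hn
  have k1 : 8 + L.tr (a * c) = n * 16 := by
    have k1 : 24 + (2 * -1 + 1) * 8 + (2 * -1 + 1) * (8 + (2 * -1 + 1) * L.tr (a * c)) = n * 16 := by exact_mod_cast hn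
    omega
  rcases h.U_tr (mul_mem r.aE s.aE) with e | e | e | e | e
  · obtain rfl : a = c := mul_right_cancel (e.trans (h.U_sq s.aE).symm)
    have k2 := r.wb
    have k3 : b = a := r.wa.symm.trans s.va
    rw [k3, s.va, h.U_sq r.aE] at k2
    rw [k2, h.ok.tr_one] at h1
    omega
  · rw [e, h.ok.tr_m] at k1
    omega
  · exact e
  · omega
  exfalso
  have k2 := tr2_v h r s hc 1
  rw [idem_zero (idem2 h r s (.inl rfl) (.inl rfl)) (by rw [tr2_one h r s, h1, h2, e]; norm_num), zero_mul, map_zero,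
    eq_div_iff (by norm_num), zero_mul] at k2
  have k3 := Int.cast_eq_zero.1 k2.symm
  have k4 : L.ρ v * L.ρ v * L.ρ v = 1 := by rw [← map_mul, ← map_mul, ← pow_three', ← ho, pow_orderOf_eq_one, map_one]
  have k5 : IsIdempotentElem ((1 / 3 : ℂ) • (1 + L.ρ v + L.ρ v * L.ρ v)) := by
    show _ * _ = _
    simp only [smul_mul_assoc, add_mul, one_mul, mul_one, mul_smul_comm, mul_add, ← mul_assoc, k4]
    module
  have k6 := r.comm h (ε := -1)
  obtain ⟨i, hi⟩ := idem_nat (IsIdempotentElem.mul_of_commute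
    ((((Commute.one_right _).add_right k6).add_right (k6.mul_right k6)).smul_right _) (r.idem h (.inr rfl)) k5)
  have k7 := tr_Fs h.ok (-1) a b 1
  have k8 := tr_sq h.ok (one_mul 1) ho (by simp)
  simp only [one_mul] at k8
  rw [map_one] at k7
  rw [mul_smul_comm, mul_add, mul_add, map_smul, map_add, map_add, k7, ← map_mul, tr_Fs h.ok, tr_Fs h.ok, r.tt h (by simp),
    r.tt h hc.symm, r.tt h (Commute.mul_right hc.symm hc.symm).eq, k8,
    tr_sq h.ok (h.U_sq r.aE) ho (mul_inv_eq_iff_eq_mul.1 r.va).symm, h.ok.tr_one, mul_one a, h1, smul_eq_mul] at hi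
  have k9 : ((16 + 2 * (L.tr v - L.tr (a * v)) : ℤ) : ℂ) = ((12 * i : ℤ) : ℂ) := by
    push_cast at hi ⊢
    linear_combination 12 * hi
  have k10 := Int.cast_injective k9
  omega

end two

end FfP

open FfP

theorem boxE6 (h3 : BoxThree) : BoxE6 := by
  intro G _ _ L H A Q D0 D h n v w a b c d f
  have r : Ro (L.U D) v w a b := ⟨f.aE, f.bE, f.va, f.vb, f.wa, f.wb⟩
  have s : Ro (L.U D) w v c d := ⟨f.cE, f.dE, f.wc, f.wd, f.vc, f.vd⟩
  have k : ∀ ε : ℤ, ε = 1 ∨ ε = -1 → ∃ i j : ℕ, 48 + (2 * ε + 1) * 32 = (16 * (i + 2 * j) : ℤ) ∧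
      L.tr v + (2 * ε + 1) * L.tr (a * v) = 4 * ((i : ℤ) - j) := fun ε hε => by
    obtain ⟨i, j, k1, k2⟩ := h3 (Fs L ε a b * Fs L 1 c d) (L.ρ v) (((48 + (2 * ε + 1) * 32 : ℤ) : ℚ) / 16)
      (((L.tr v + (2 * ε + 1) * L.tr (a * v) : ℤ) : ℚ) / 4) (idem2 h r s hε (.inl rfl))
      ((r.comm h).mul_left (comm_rot (h.U_comm s.bE s.aE) (h.U_sq s.bE) s.wa s.wb)).eq
      (by rw [← map_mul, ← map_mul, ← pow_three', ← f.ov, pow_orderOf_eq_one, map_one])
      (by rw [tr2_one h r s, f.ta, f.tc, f.tac]; push_cast; ring) (by rw [tr2_v h r s f.vw]; push_cast; ring)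
      (by rw [tr2_vv h r s f.vw f.ov]; push_cast; ring)
    rw [div_eq_iff (by norm_num)] at k1 k2
    refine ⟨i, j, Int.cast_injective (α := ℚ) ?_, Int.cast_injective (α := ℚ) ?_⟩
    · rw [k1]
      push_cast
      ring
    · rw [k2]
      push_cast
      ring
  obtain ⟨i, j, k1, k2⟩ := k 1 (.inl rfl)
  obtain ⟨i', j', k3, k4⟩ := k (-1) (.inr rfl)
  have k5 := tr_v h n r f.vA f.ov (.inl f.ta)
  have k6 := (r.trs h (g := 1) (by simp)).2
  have k7 := (r.trs h f.vw.symm).2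
  rw [mul_one, mul_one, f.ta] at k6
  refine h.cx.o6 v f.vA a (h.U_le_A f.aE) w f.wA f.ov (by omega) ?_ ?_ ?_ <;> rw [f.wa]
  · exact ⟨h.U_sq (mul_mem f.aE f.bE), k6⟩
  · exact (Commute.mul_right (mul_inv_eq_iff_eq_mul.1 f.va) (mul_inv_eq_iff_eq_mul.1 f.vb)).eq
  · rw [h.ok.tr_comm, k7]
    omega

theorem boxFf : BoxFf := by
  intro G _ _ L H A Q D0 D h n x hx y hy ox oy hc hn
  have : Fact (Nat.Prime 3) := ⟨Nat.prime_three⟩
  have : Fact (Nat.Prime 2) := ⟨Nat.prime_two⟩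
  obtain ⟨W, hW⟩ : ∃ W, W = closure ({x, y} : Set G) := ⟨_, rfl⟩
  have w1 : W = zpowers x ⊔ zpowers y := by
    rw [hW, zpowers_eq_closure, zpowers_eq_closure, ← Subgroup.closure_union]
    rfl
  have w2 : W ≤ A := w1 ▸ sup_le (zpowers_le.2 hx) (zpowers_le.2 hy)
  have w3 : (W : Set G) = ((zpowers x : Subgroup G) : Set G) * ((zpowers y : Subgroup G) : Set G) := by
    rw [w1]
    refine coe_mul_of_left_le_normalizer_right _ _ (zpowers_le.2 (centralizer_le_normalizer _ (mem_centralizer_iff.2 ?_)))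
    rintro _ ⟨i, rfl⟩
    exact (Commute.zpow_left hc.symm i).eq
  have w4 : ∀ g ∈ W, ∃ i j : ℤ, x ^ i * y ^ j = g := fun g hg => by
    obtain ⟨_, ⟨i, rfl⟩, _, ⟨j, rfl⟩, e⟩ := w3.le hg
    exact ⟨i, j, e⟩
  have w5 : ∀ g ∈ W, ∀ g' ∈ W, g * g' = g' * g := fun g hg g' hg' => by
    obtain ⟨i, j, rfl⟩ := w4 g hg
    obtain ⟨k, l, rfl⟩ := w4 g' hg'
    exact (((Commute.refl x).zpow_zpow i k).mul_right (Commute.zpow_zpow hc i l)).mul_left
      ((Commute.zpow_zpow hc.symm j k).mul_right ((Commute.refl y).zpow_zpow j l))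
  have w6 : ∀ g ∈ W, g ^ 3 = 1 := fun g hg => by
    obtain ⟨i, j, rfl⟩ := w4 g hg
    rw [(Commute.zpow_zpow hc i j).mul_pow, ← zpow_natCast, ← zpow_natCast, ← zpow_mul, ← zpow_mul, mul_comm i, mul_comm j,
      zpow_mul, zpow_mul, zpow_natCast, zpow_natCast]
    rw [show x ^ 3 = 1 from ox ▸ pow_orderOf_eq_one x, show y ^ 3 = 1 from oy ▸ pow_orderOf_eq_one y]
    simp
  have w7 : IsPGroup 3 W := fun g => ⟨1, Subtype.ext (w6 g g.2)⟩
  have w8 : Nat.card W ≤ 9 := by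
    have k := Set.natCard_mul_le (s := ((zpowers x : Subgroup G) : Set G)) (t := ((zpowers y : Subgroup G) : Set G))
    rw [← w3] at k
    exact k.trans_eq (by
      rw [show Nat.card ((zpowers x : Subgroup G) : Set G) = 3 from (Nat.card_zpowers x).trans ox,
        show Nat.card ((zpowers y : Subgroup G) : Set G) = 3 from (Nat.card_zpowers y).trans oy])
  have w9 : ∀ v ∈ W, v ≠ 1 → ∀ w ∈ W, w ∉ zpowers v → W ≤ zpowers v ⊔ zpowers w := fun v hv h1 w hw h2 => by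
    have k1 : zpowers v ⊔ zpowers w ≤ W := sup_le (zpowers_le.2 hv) (zpowers_le.2 hw)
    obtain ⟨i, hi⟩ := IsPGroup.iff_card.1 (w7.to_le k1)
    have k2 : 3 < Nat.card ↥(zpowers v ⊔ zpowers w) := by
      by_contra k2
      refine h2 ((eq_of_le_of_card_ge (le_sup_left (b := zpowers w)) ?_).ge (mem_sup_right (mem_zpowers w)))
      rw [Nat.card_zpowers, orderOf_eq_prime (w6 v hv) h1]
      omega
    refine (eq_of_le_of_card_ge k1 (w8.trans ?_)).ge
    rw [hi] at k2 ⊢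
    exact Nat.pow_le_pow_right (n := 3) (by decide) ((Nat.pow_lt_pow_iff_right (a := 3) (n := 1) (by decide)).1 k2)
  have : IsMulCommutative W := ⟨⟨fun a b => Subtype.ext (w5 _ a.2 _ b.2)⟩⟩
  have hxW : x ∈ W := w1.ge (mem_sup_left (mem_zpowers x))
  have hx1 : x ≠ 1 := fun e => by
    rw [e, orderOf_one] at ox
    omega
  have gen := S0058.result W (L.U D) (fun k => by
      obtain ⟨g, hg⟩ := k.exists_ofOrder_eq_natCard
      have k1 := Nat.le_of_dvd (by decide) (orderOf_dvd_of_pow_eq_one (x := g) (n := 3) (Subtype.ext (w6 g g.2)))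
      refine hn ((eq_of_le_of_card_ge (zpowers_le.2 hxW) ?_).ge (w1.ge (mem_sup_right (mem_zpowers y))))
      rwa [Nat.card_zpowers, ox, ← hg])
    (fun g hg => mem_normalizer_fintype fun u hu => h.U_conj (w2 hg) hu)
    (IsPGroup.coprime_card_of_ne 3 2 (by decide) _ _ w7 h.U_two)
  have act : ∀ g ∈ W, g ≠ 1 → ∃ v ∈ W, v ≠ 1 ∧ v ∉ zpowers g ∧ ∃ u ∈ L.U D, v * u = u * v ∧ g * u ≠ u * g := fun g hg h1 => by
    by_contra k
    push Not at k
    have k1 : L.U D ≤ centralizer {g} := gen.ge.trans (iSup₂_le fun v hv u hu => mem_centralizer_singleton_iff.2 (by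
      have k2 : v * u = u * v := (mem_centralizer_singleton_iff.1 hu.2).symm
      by_cases e : v ∈ zpowers g
      · obtain ⟨i, hi⟩ := (eq_of_le_of_card_ge (zpowers_le.2 e) (by
          rw [Nat.card_zpowers, Nat.card_zpowers, orderOf_eq_prime (w6 v hv.1) hv.2, orderOf_eq_prime (w6 g hg) h1])).ge
          (mem_zpowers g)
        have hi' : v ^ i = g := hi
        rw [← hi']
        exact (Commute.zpow_left k2 i).eq.symm
      · exact (k v hv.1 hv.2 e u hu.1 k2).symm))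
    obtain ⟨i, hi⟩ := h.co.two ⟨g, n.cen g (w2 hg) fun u hu => (mem_centralizer_singleton_iff.1 (k1 hu)).symm⟩
    have k2 := orderOf_dvd_of_pow_eq_one (congrArg Subtype.val hi)
    rw [orderOf_eq_prime (w6 g hg) h1] at k2
    exact absurd (Nat.prime_three.dvd_of_dvd_pow k2) (by decide)
  obtain ⟨v, hv, v1, -, u, hu, v2, v3⟩ := act x hxW hx1
  obtain ⟨w, hw, w1', w2', u', hu', v4, v5⟩ := act v hv v1
  have v6 : w * u ≠ u * w := fun e => v3 (mem_centralizer_singleton_iff.1 ((w9 v hv v1 w hw w2').trans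
    (sup_le (zpowers_le.2 (mem_centralizer_singleton_iff.2 v2)) (zpowers_le.2 (mem_centralizer_singleton_iff.2 e))) hxW))
  have vw := w5 v hv w hw
  have ov := orderOf_eq_prime (w6 v hv) v1
  have ow := orderOf_eq_prime (w6 w hw) w1'
  obtain ⟨a, b, r, a1, a2⟩ := exists_ro h (w2 hw) (w6 w hw) vw hu v2 v6
  obtain ⟨c, d, s, c1, c2⟩ := exists_ro h (w2 hv) (w6 v hv) vw.symm hu' v4 v5
  have t1 := tr_pm h r (w2 hv) ov a1 a2
  have t2 := tr_pm h s (w2 hw) ow c1 c2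
  have t3 := tr_v h n r (w2 hv) ov t1
  have t4 := tr_v h n s (w2 hw) ow t2
  have t5 := tr_eight h r t1 (by omega)
  have t6 := tr_eight h s t2 (by omega)
  exact ⟨v, w, a, b, c, d, ⟨w2 hv, w2 hw, ov, ow, vw, r.aE, r.bE, s.aE, s.bE, r.va, r.vb, s.wa, s.wb, r.wa, r.wb, s.va, s.vb,
    t5, t6, tr_ac h r s vw ov t5 t6 t3⟩, hW ▸ hv, hW ▸ hw⟩

end Cfsg.Agent.N2.Co2L
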