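import Cfsg.Agent.N2.Co2L.Defs
import Cfsg.Agent.Blocks.SylowIn
import Cfsg.Agent.S0028

/-!
# N2 (S3519), the 2-local case of Co1 and Co2: `boxG0`, `boxR` (helper87)
-/

set_option autoImplicit false

namespace Cfsg.Agent.N2.Co2L

open Cfsg Subgroup

namespace GR

variable {G : Type} [Group G] [Finite G] {L : Lx G}

theorem norm {s g : G} (hg : g * s = s * g) : g ∈ normalizer (L.O s : Set G) :=
  mem_normalizer_fintype fun _ ha => norm_O ha hg

omit [Finite G] in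
theorem cen_conj {X : Set G} {a k : G} (h : ∀ x ∈ X, a⁻¹ * x * a⁻¹⁻¹ ∈ X) (hk : k ∈ centralizer X) :
    a * k * a⁻¹ ∈ centralizer X := mem_centralizer_iff.2 fun x hx => by
  have h1 := mem_centralizer_iff.1 hk _ (h x hx)
  calc x * (a * k * a⁻¹) = a * (a⁻¹ * x * a⁻¹⁻¹ * k) * a⁻¹ := by group
    _ = a * k * a⁻¹ * x := by rw [h1]; group

omit [Finite G] in
/-- the commutator acts trivially on the `-1`-space -/
theorem tr_comm (o : Ok L) {s r u : G} (hs : L.I8 s) (hr : r ∈ L.O s) (hu : u * u = 1) (h : u * s = s * u) :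
    L.tr (r * u * r⁻¹ * u * s) = L.tr (r * u * r⁻¹ * u) - 16 := by
  have e1 : L.ρ u * (1 - L.ρ s) = (1 - L.ρ s) * L.ρ u := by
    rw [mul_sub, sub_mul, mul_one, one_mul, ← map_mul, h, map_mul]
  have e2 : L.ρ u * L.ρ u = 1 := by rw [← map_mul, hu, map_one]
  have e3 : ∀ x, L.ρ r * (L.ρ r⁻¹ * x) = x := fun x => by rw [← mul_assoc, ← map_mul, mul_inv_cancel, map_one, one_mul]
  have e4 : L.ρ u * (L.ρ r⁻¹ * (1 - L.ρ s)) = L.ρ r⁻¹ * (1 - L.ρ s) * L.ρ u ∧
      L.ρ r * (L.ρ r⁻¹ * (1 - L.ρ s)) = 1 - L.ρ s := ⟨by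
    rcases (inv_mem hr).2 with k | k <;> rw [k]
    · exact e1
    · rw [mul_neg, neg_mul, e1], e3 _⟩
  have e5 : L.ρ (r * u * r⁻¹ * u) * (1 - L.ρ s) = 1 - L.ρ s := by
    rw [map_mul, map_mul, map_mul, mul_assoc, e1, mul_assoc, ← mul_assoc (L.ρ r⁻¹), mul_assoc, ← mul_assoc (L.ρ u), e4.1,
      mul_assoc _ (L.ρ u), e2, mul_one, e4.2]
  have e6 := congrArg (LinearMap.trace ℂ Vs) e5
  rw [mul_sub, mul_one, ← map_mul, map_sub, map_sub, ← map_one L.ρ, o.trace, o.trace, o.trace, o.trace, o.tr_one, hs.2] at e6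
  have e7 : L.tr (r * u * r⁻¹ * u) - L.tr (r * u * r⁻¹ * u * s) = 24 - 8 := by exact_mod_cast e6
  omega

variable {H A Q : Subgroup G} {D0 D : Set G}

/-- `O s ∩ A` does not centralise `U` -/
theorem not_cen (h : St L H A Q D0 D) {s : G} (hU : s ∈ L.U D) (hs : s ∈ D0)
    (h1 : ∀ r ∈ L.O s, r ∈ A → r ∈ centralizer (L.U D : Set G)) : False := by
  have := Fact.mk Nat.prime_two
  have h8 := h.cx.d8 s hs
  have h2 : L.O s ⊓ A ≤ Q := h.co.max (A ⊓ centralizer (L.U D : Set G)) inf_le_left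
    (fun a ha k hk => ⟨A.mul_mem (A.mul_mem ha hk.1) (A.inv_mem ha), cen_conj (fun _ hx => h.U_conj (A.inv_mem ha) hx) hk.2⟩)
    _ (fun r hr => ⟨hr.2, h1 r hr.1 hr.2⟩) (h.ok.two_O h8).to_inf_left fun k hk x hx =>
      ⟨norm_O hx.1 (mem_centralizer_iff.1 hk.2 s hU).symm, A.mul_mem (A.mul_mem hk.1 hx.2) (A.inv_mem hk.1)⟩
  have h3 : Q ≤ normalizer (L.O s : Set G) := fun q hq => norm (h.U_cen hU hq)
  have h4 : Q ⊔ L.O s = Q := Blocks.SylowIn.eq_of_normalizer_inf_le (h.co.two.to_sup_of_normal_right' (h.ok.two_O h8) h3)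
    le_sup_left fun g hg => by
      have h5 : g ∈ A := h.norm_Q (sup_le (h.co.le.trans h.cx.le) (h.cx.dH s hs) hg.2) fun u hu =>
        (mem_normalizer_iff.1 hg.1 u).1 hu
      obtain ⟨q, hq, r, hr, rfl⟩ := (coe_mul_of_left_le_normalizer_right Q _ h3).subset hg.2
      exact Q.mul_mem hq (h2 ⟨hr, (A.mul_mem_cancel_left (h.co.le hq)).1 h5⟩)
  refine h.cx.not_cent h.ok (h.cx.mem_H hs) h8 fun a ha => ?_
  have h5 := (h.ok.i8_conj h8 a).2
  rcases h.ok.cent s h8 _ fun r hr => (h.U_cen (h.U_conj ha hU) (h4.le (mem_sup_right hr))).symm with k | k | k | k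
  · rw [k, h.ok.tr_one] at h5
    omega
  · rw [k, h.ok.tr_m] at h5
    omega
  · exact mul_inv_eq_iff_eq_mul.1 k
  · rw [k, h.ok.tr_m_mul, h8.2] at h5
    omega

end GR

open GR

theorem boxG0 : BoxG0 := by
  intro G _ _ L H A Q D0 o c k s hs hQ hc x hx ho hxQ
  have := Fact.mk Nat.prime_two
  have h8 := c.d8 s hs
  have h1 : H ⊓ centralizer (Q : Set G) ≤ A := fun g hg =>
    c.mx Q (k.le.trans c.le) k.two ⟨s, hQ, o.i8_ne h8⟩ k.nrm g hg.1 fun u hu => by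
      rwa [← mem_centralizer_iff.1 hg.2 u hu, mul_inv_cancel_right]
  have h2 : L.O s ⊓ centralizer (Q : Set G) ≤ Q := k.max _ h1
    (fun a ha g hg => ⟨H.mul_mem (H.mul_mem (c.le ha) hg.1) (H.inv_mem (c.le ha)),
      cen_conj (fun _ hx => k.nrm _ (A.inv_mem ha) _ hx) hg.2⟩)
    _ (inf_le_inf_right _ (c.dH s hs)) (o.two_O h8).to_inf_left fun g hg r hr =>
      ⟨norm_O hr.1 (mem_centralizer_iff.1 hg.2 s hQ).symm, Subgroup.mul_mem _ (Subgroup.mul_mem _ hg.2 hr.2) (Subgroup.inv_mem _ hg.2)⟩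
  have h3 : Q ≤ centralizer (zpowers x : Set G) := le_centralizer_iff.1 (zpowers_le.2
    (mem_centralizer_iff.2 fun q hq => (hxQ q hq).symm))
  have h4 := S0028.result 2 Q (zpowers x) (L.O s) k.two (by rwa [Nat.card_zpowers, Nat.coprime_two_right]) (o.two_O h8) h3
    (fun q hq => norm (hc q hq)) (zpowers_le.2 (norm (hxQ s hQ))) (h2.trans h3) (mem_zpowers x)
  have h5 : x ^ 2 = 1 := by
    rw [pow_two]
    rcases o.cent s h8 x fun a ha => (mem_centralizer_iff.1 h4 a ha).symm with e | e | e | e <;> rw [e]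
    · exact mul_one 1
    · exact o.m_sq
    · exact h8.1
    · rw [mul_assoc, ← mul_assoc s, o.m_comm s, mul_assoc, h8.1, mul_one, o.m_sq]
  exact orderOf_eq_one_iff.1 (Nat.eq_one_of_dvd_coprimes (Nat.coprime_two_right.2 ho) dvd_rfl
    (orderOf_dvd_of_pow_eq_one h5))

theorem boxR : BoxR := by
  intro G _ _ L H A Q D0 D h s hU hs
  have h8 := h.cx.d8 s hs
  by_contra hc
  refine not_cen h hU hs fun r hr hA => mem_centralizer_iff.2 fun g hg => mem_centralizer_singleton_iff.1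
    ((closure_le (centralizer ({r} : Set G))).2 (Set.insert_subset (mem_centralizer_singleton_iff.2 (h.ok.m_comm r).symm)
      fun u hu => mem_centralizer_singleton_iff.2 (Eq.symm ?_)) hg)
  by_contra hne
  have u8 := h.cx.d8 u (h.us.sub hu)
  have hv : r * u * r⁻¹ * u ∈ L.U D := mul_mem (h.U_conj hA (mem_U hu)) (mem_U hu)
  have h1 := tr_comm h.ok h8 hr u8.1 (h.U_comm (mem_U hu) hU)
  have h2 : r * u * r⁻¹ * u ≠ 1 := fun e => hne (by
    rw [← u8.1] at e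
    exact mul_inv_eq_iff_eq_mul.1 (mul_right_cancel e))
  have h3 := h.U_tr (mul_mem hv hU)
  have h4 := h.ok.tr_one
  have h5 := h.ok.tr_m
  rcases (h.U_tr hv).resolve_left h2 with k | k | k | k
  · rw [k, h.ok.tr_m_mul, h8.2, h5] at h1
    omega
  · exact hc ⟨_, hv, h8, ⟨h.U_sq hv, k⟩, h.U_comm hU hv, by rw [h.U_comm hU hv, h1, k]; rfl⟩
  · rcases h3 with e | e | e | e | e <;> rw [e] at h1 <;> omega
  · rcases h3 with e | e | e | e | e
    · rw [e] at h1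
      omega
    · have h6 : r * u * r⁻¹ = L.m * (s * u) := by
        rw [← mul_assoc, ← e, mul_assoc _ s s, h8.1, mul_one, mul_assoc _ u u, u8.1, mul_one]
      have h7 := h.ok.tr_conj r u
      rw [h6, h.ok.tr_m_mul, u8.2] at h7
      exact hc ⟨u, mem_U hu, h8, u8, h.U_comm hU (mem_U hu), by omega⟩
    all_goals omega

end Cfsg.Agent.N2.Co2L
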