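import Cfsg.Agent.N2.Co2L.Defs
import Cfsg.Agent.S1324
import Cfsg.Agent.S0144
import Cfsg.Agent.S4208
import Cfsg.Agent.Lib.HallHigman
import Cfsg.Agent.Lib.Cores
import Cfsg.Agent.Lib.FrattiniPGroup
import Cfsg.Agent.Lib.NormalAbelian

/-!
# N2 (S3519), the 2-local case of Co1 and Co2: the order of a `{2, 3}`-group (helper55)
-/

set_option autoImplicit false

namespace Cfsg.Agent.N2.Co2L

open Cfsg Subgroup

namespace Hb

theorem five {α : Type} [Finite α] {s : Set α} {f : α → α} (hf : ∀ x, f (f (f x)) = x) (hs : ∀ x ∈ s, f x ∈ s) {a b : α}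
    (ha : a ∈ s) (hb : b ∈ s) (hab : a ≠ b) (fa : f a = a) (fb : f b = b) (h4 : s.ncard ≤ 4) {k : α} (hk : k ∈ s) : f k = k := by
  by_contra h
  have h5 : ({a, b, k, f k, f (f k)} : Set α).ncard = 5 := by
    have := hf k
    rw [Set.ncard_insert_of_notMem (by simp; grind), Set.ncard_insert_of_notMem (by simp; grind),
      Set.ncard_insert_of_notMem (by simp; grind), Set.ncard_pair (by grind)]
  have h6 : ({a, b, k, f k, f (f k)} : Set α) ⊆ s := by
    simp only [Set.insert_subset_iff, Set.singleton_subset_iff]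
    exact ⟨ha, hb, hk, hs _ hk, hs _ (hs _ hk)⟩
  have := Set.ncard_le_ncard h6
  omega

theorem two_three {n : ℕ} (h0 : n ≠ 0) (h : ∀ r : ℕ, r.Prime → r ∣ n → r = 2 ∨ r = 3) : ∃ a b, n = 2 ^ a * 3 ^ b := by
  obtain ⟨i, m, hm, hn⟩ := Nat.exists_eq_two_pow_mul_odd h0
  have hm0 : m ≠ 0 := by rintro rfl; simp at hm
  refine ⟨i, _, hn.trans (congrArg _ (Nat.eq_prime_pow_of_unique_prime_dvd hm0 fun {q} hq hd => ?_))⟩
  rcases h q hq (hn ▸ hd.mul_left _) with rfl | h1
  · exact absurd hm (Nat.not_odd_iff_even.2 (even_iff_two_dvd.2 hd))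
  · exact h1

variable {X Y : Type} [Group X] [Finite X] [Group Y] [Finite Y]

theorem idx (N : Subgroup X) [N.Normal] : (centralizer (N : Set X)).index ∣ Nat.card (MulAut N) := by
  have h : (MulAut.conjNormal : X →* MulAut N).ker = centralizer (N : Set X) := by
    ext g
    simp only [MonoidHom.mem_ker, MulEquiv.ext_iff, mem_centralizer_iff, Subtype.ext_iff, MulAut.conjNormal_apply, MulAut.one_apply,
      Subtype.forall, mul_inv_eq_iff_eq_mul, SetLike.mem_coe]
    exact forall₂_congr fun _ _ => eq_comm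
  rw [← h, index_ker]; exact card_subgroup_dvd_card _

/-- the abelian 3-subgroups have order at most nine -/
def Sm (X : Type) [Group X] : Prop := ∀ M : Subgroup X, IsPGroup 3 M → IsMulCommutative M → Nat.card M ≤ 9

theorem aut (hF : IsPGroup 3 X) (h : Nat.card X ≤ 27) (hc : IsMulCommutative X → Nat.card X ≤ 9) :
    Nat.card (MulAut X) ∣ 432 ∧ (Nat.card X ≤ 9 → Nat.card (MulAut X) ∣ 48) := by
  have : Fact (Nat.Prime 3) := ⟨Nat.prime_three⟩
  obtain ⟨n, hn⟩ := hF.exists_card_eq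
  obtain ⟨r, hr, h1⟩ := (Nat.dvd_prime_pow Nat.prime_three).1 (hn ▸ (frattini X).index_dvd_card)
  have h2 := S4208.result hn h1
  have h3 : n ≤ 3 := (Nat.pow_le_pow_iff_right (by norm_num : 1 < 3)).1 (hn ▸ h)
  have h4 : r = n → Nat.card X ≤ 9 := fun e => hc (by
    have h5 := (frattini X).card_mul_index
    rw [h1, e, hn, mul_eq_right₀ (by positivity), card_eq_one] at h5
    exact ⟨⟨fun x y => commutatorElement_eq_one_iff_mul_comm.1 (mem_bot.1 (h5 ▸ Lib.FrattiniPGroup.commutator_mem_frattini hF x y))⟩⟩)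
  rw [hn] at h4 ⊢
  have h5 : ∀ n ≤ 3, ∀ r ≤ n, (r = n → 3 ^ n ≤ 9) → 3 ^ (r * (n - r)) * ∏ i ∈ Finset.range r, (3 ^ r - 3 ^ i) ∣ 432 ∧
      (3 ^ n ≤ 9 → 3 ^ (r * (n - r)) * ∏ i ∈ Finset.range r, (3 ^ r - 3 ^ i) ∣ 48) := by decide
  exact ⟨h2.trans (h5 n h3 r hr h4).1, fun e => h2.trans ((h5 n h3 r hr h4).2 e)⟩

omit [Finite X] in
theorem Sm.sub (h : Sm X) (K : Subgroup X) : Sm K := fun M h1 h2 => by
  rw [← card_map_of_injective K.subtype_injective]
  exact h _ (h1.map _) inferInstance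

theorem Sm.top (h : Sm X) (hF : IsPGroup 3 X) (hc : IsMulCommutative X) : Nat.card X ≤ 9 :=
  card_top (G := X) ▸ h ⊤ (hF.to_subgroup _) inferInstance

theorem Sm.le (h : Sm X) (hF : IsPGroup 3 X) : Nat.card X ≤ 27 := by
  have : Fact (Nat.Prime 3) := ⟨Nat.prime_three⟩
  have := hF.isNilpotent
  obtain ⟨M, hN, hc, hM⟩ := Lib.NormalAbelian.exists_normal_abelian_selfCentralizing (G := X)
  have h1 := h M (hF.to_subgroup M) hc
  have h2 := (idx M).trans ((aut (hF.to_subgroup M) (by omega) fun _ => h1).2 h1)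
  rw [hM] at h2
  obtain ⟨n, hn⟩ := hF.index M
  have h3 : M.index ≤ 3 := by
    rw [hn] at h2 ⊢
    exact Nat.le_of_dvd (by norm_num) ((show Nat.Coprime (3 ^ n) 16 from Nat.Coprime.pow_left _ (by norm_num)).dvd_of_dvd_mul_left h2)
  rw [← M.card_mul_index]
  exact Nat.mul_le_mul h1 h3

theorem Sm.quot (h : Sm X) (π : X →* Y) (hπ : Function.Surjective π) (hk : IsPGroup 2 π.ker) : Sm Y := fun M h1 h2 => by
  have : Fact (Nat.Prime 3) := ⟨Nat.prime_three⟩
  obtain ⟨R, hR⟩ := h1.exists_le_sylow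
  obtain ⟨P, rfl⟩ := Sylow.mapSurjective_surjective hπ 3 R
  have h3 := IsPGroup.disjoint_of_ne 3 2 (by norm_num) _ _ P.isPGroup' hk
  have h4 := h (P ⊓ M.comap π) (P.isPGroup'.to_le inf_le_left) ⟨⟨fun x y => Subtype.ext (mul_inv_eq_one.1 (disjoint_def.1 h3
    (mul_mem (mul_mem x.2.1 y.2.1) (inv_mem (mul_mem y.2.1 x.2.1))) (by
      simpa [mul_inv_eq_one, -mul_inv_rev] using congrArg Subtype.val (h2.is_comm.comm ⟨π x, x.2.2⟩ ⟨π y, y.2.2⟩))))⟩⟩
  refine le_trans (card_le_of_le fun y hy => ?_) ((Nat.le_of_dvd Nat.card_pos (card_map_dvd _ π)).trans h4)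
  obtain ⟨x, hx, rfl⟩ := hR hy
  exact ⟨x, ⟨hx, hy⟩, rfl⟩

theorem le432 (h : Sm X) (hp : ∀ r : ℕ, r.Prime → r ∣ Nat.card X → r = 2 ∨ r = 3)
    (h2 : ∀ N : Subgroup X, N.Normal → IsPGroup 2 N → N = ⊥) : Nat.card X ≤ 432 := by
  have : Fact (Nat.Prime 3) := ⟨Nat.prime_three⟩
  obtain ⟨a, b, hX⟩ := two_three Nat.card_pos.ne' hp
  have := S0144.result 2 3 a b Nat.prime_two Nat.prime_three hX
  have h3 := Lib.HallHigman.centralizer_pCore_le_of_solvable (G := X) 3 (h2 _ (Lib.Cores.pPrimeCore_normal 3) (by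
    obtain ⟨i, j, e⟩ := two_three (n := Nat.card (pPrimeCore 3 X)) Nat.card_pos.ne' fun r hr k =>
      hp r hr (k.trans (card_subgroup_dvd_card _))
    have h4 := Lib.Cores.pPrimeCore_coprime (G := X) 3
    cases j with
    | zero => exact IsPGroup.of_card (n := i) (by simpa using e)
    | succ j => exact absurd (h4.symm.eq_one_of_dvd (e ▸ (dvd_pow_self 3 j.succ_ne_zero).mul_left _)) (by norm_num)))
  have := Lib.Cores.pCore_normal (G := X) 3
  have hF := Lib.Cores.pCore_isPGroup (G := X) 3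
  have h4 := (idx (pCore 3 X)).trans (aut hF ((h.sub _).le hF) ((h.sub _).top hF)).1
  obtain ⟨c, hc⟩ := (hF.to_le h3).exists_card_eq
  have h5 : 2 ^ a ∣ 16 := by
    have h6 : 2 ^ a ∣ 3 ^ c * (27 * 16) := (Dvd.intro _ hX.symm).trans (by
      rw [← (centralizer (pCore 3 X : Set X)).card_mul_index, hc]; exact mul_dvd_mul_left _ h4)
    exact (Nat.Coprime.pow_left a (by norm_num)).dvd_of_dvd_mul_left ((Nat.Coprime.pow a c (by norm_num)).dvd_of_dvd_mul_left h6)
  obtain ⟨P, hP⟩ := Sylow.exists_subgroup_card_pow_prime (G := X) 3 (n := b) (Dvd.intro_left _ hX.symm)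
  have h6 := (h.sub P).le (IsPGroup.of_card hP)
  rw [hX, ← hP]
  exact Nat.mul_le_mul (Nat.le_of_dvd (by norm_num) h5) h6

end Hb

open Hb in
theorem boxHb : BoxHb := by
  intro G _ _ A Q E m co hm hm1 hmc hE _ hc hp h9 h4
  have : Fact (Nat.Prime 3) := ⟨Nat.prime_three⟩
  have hV : ∀ V : Subgroup G, V ≤ A → IsPGroup 3 V → IsMulCommutative V → Nat.card V ≤ 9 := fun V hA h3 hC => by
    by_contra h
    obtain ⟨n, hn⟩ := h3.exists_card_eq
    have h27 : 27 ≤ Nat.card V := by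
      rw [hn] at h ⊢
      exact Nat.pow_le_pow_right (n := 3) (by norm_num) (show 3 ≤ n from not_lt.1 fun k => h (by interval_cases n <;> norm_num))
    have hv : ∀ v ∈ V, v ^ 3 = 1 := fun v hv => by
      obtain ⟨k, hk⟩ := IsPGroup.iff_orderOf.1 h3 ⟨v, hv⟩
      rw [← orderOf_coe] at hk
      rcases k with _ | _ | k
      · exact orderOf_dvd_iff_pow_eq_one.1 (hk ▸ one_dvd _)
      · exact orderOf_dvd_iff_pow_eq_one.1 (hk ▸ dvd_rfl)
      · refine absurd ?_ (h9 (v ^ 3 ^ k) (pow_mem (hA hv) _))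
        rw [orderOf_pow_of_dvd (by positivity) (hk ▸ pow_dvd_pow 3 (by omega)), show orderOf v = _ from hk, Nat.pow_div (by omega) (by norm_num)]
        norm_num [show k + 1 + 1 - k = 2 by omega]
    have hcm : ∀ x ∈ V, ∀ y ∈ V, x * y = y * x := fun x hx y hy => congrArg Subtype.val (hC.is_comm.comm ⟨x, hx⟩ ⟨y, hy⟩)
    have hd := IsPGroup.disjoint_of_ne 3 2 (by norm_num) _ _ h3 co.two
    have hQ := S1324.result 3 V Q ⟨hC, hv⟩ (by omega) (by
      obtain ⟨i, hi⟩ := co.two.exists_card_eq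
      exact fun k => absurd (Nat.prime_three.dvd_of_dvd_pow (hi ▸ k)) (by norm_num))
      fun v k => mem_normalizer_fintype fun q hq => co.nrm v (hA k) q hq
    have h5 : Q ≤ centralizer (V : Set G) := hQ ▸ iSup_le fun ⟨B, hB, hi⟩ k hk v hv' => by
      have h6 : 9 ≤ Nat.card B := by
        have h7 := (B.subgroupOf V).card_mul_index
        rw [Nat.card_congr (subgroupOfEquivOfLe hB).toEquiv] at h7
        have := Nat.mul_le_mul_left (Nat.card B) hi
        change _ * B.relIndex V = _ at h7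
        omega
      obtain ⟨x, hx, hx1⟩ := (B.bot_or_exists_ne_one).resolve_left fun e => by rw [e, card_bot] at h6; omega
      have ho : ∀ x ∈ B, x ≠ 1 → orderOf x = 3 := fun x hx h1 => orderOf_eq_prime (hv x (hB hx)) h1
      obtain ⟨y, hy, hyx⟩ := SetLike.not_le_iff_exists.1 fun e : B ≤ zpowers x => by
        have := card_le_of_le e
        rw [Nat.card_zpowers, ho x hx hx1] at this
        omega
      have h7 := h4 x (hA (hB hx)) y (hA (hB hy)) (ho x hx hx1) (ho y hy fun e => hyx (e ▸ one_mem _)) (hcm x (hB hx) y (hB hy)) hyx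
      generalize hK : (Q ⊓ centralizer {x, y} : Subgroup G) = K at h7
      have hK' : ∀ g, g ∈ K ↔ g ∈ Q ∧ ∀ z ∈ ({x, y} : Set G), z * g = g * z := fun g => hK ▸ Iff.rfl
      refine mul_inv_eq_iff_eq_mul.1 (five (s := (K : Set G)) (f := fun g => v * g * v⁻¹) (fun g => ?_)
        (fun g hg => (hK' _).2 ⟨co.nrm v (hA hv') g ((hK' g).1 hg).1, fun z hz => ?_⟩) K.one_mem
        ((hK' m).2 ⟨hm, fun z _ => hmc z⟩) hm1.symm (by simp) (by simp [hmc]) h7
        ((hK' k).2 ⟨hk.1, fun z hz => hk.2 z (by rcases hz with rfl | rfl <;> assumption)⟩))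
      · have h8 : v * (v * (v * g * v⁻¹) * v⁻¹) * v⁻¹ = v ^ 3 * g * (v ^ 3)⁻¹ := by
          simp only [pow_succ, pow_zero, one_mul, mul_inv_rev, mul_assoc]
        rw [h8, hv v hv']; simp
      · have h8 : Commute z v := hcm z (hB (by rcases hz with rfl | rfl <;> assumption)) v hv'
        exact ((h8.mul_right (((hK' g).1 hg).2 z hz)).mul_right h8.inv_right).eq
    rw [disjoint_iff, inf_eq_left.2 fun v k => hc v (hA k) fun u hu => h5 (hE hu) v k] at hd
    rw [hd, card_bot] at h27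
    omega
  have hN : (Q.subgroupOf A).Normal := ⟨fun q hq a => co.nrm a a.2 q hq⟩
  have hk : IsPGroup 2 (QuotientGroup.mk' (Q.subgroupOf A)).ker := by
    rw [QuotientGroup.ker_mk']; exact co.two.of_equiv (subgroupOfEquivOfLe co.le).symm
  rw [card_eq_card_quotient_mul_card_subgroup (Q.subgroupOf A), Nat.card_congr (subgroupOfEquivOfLe co.le).toEquiv]
  refine Nat.mul_le_mul_right _ (le432 (Sm.quot (fun M h1 h2 => ?_) _ (QuotientGroup.mk'_surjective _) hk)
    (fun r hr k => hp r hr (k.trans (card_quotient_dvd_card _))) fun N h1 h2 => ?_)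
  · rw [← card_map_of_injective A.subtype_injective]
    exact hV _ (map_subtype_le _) (h1.map _) inferInstance
  · have h3 := co.max' (map_subtype_le (N.comap (QuotientGroup.mk' _))) ((h2.comap_of_ker_isPGroup _ hk).map _) (by
      rintro a ha _ ⟨x, hx, rfl⟩
      exact ⟨_, (h1.comap _).conj_mem x hx ⟨a, ha⟩, rfl⟩)
    refine eq_bot_iff.2 fun y hy => ?_
    obtain ⟨x, rfl⟩ := QuotientGroup.mk'_surjective _ y
    exact (QuotientGroup.eq_one_iff x).2 (h3 ⟨x, hy, rfl⟩)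

end Cfsg.Agent.N2.Co2L
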