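import Cfsg.Agent.N2.Co2L.Inst
import Cfsg.Agent.N2.Sp4.Co1F

/-!
# N2 (S3519), the 2-local case of Co1 and Co2: the mixed case (helper38)
-/

set_option autoImplicit false
set_option maxRecDepth 100000

namespace Cfsg.Agent.N2.Co2L

open Subgroup Cfsg Cfsg.Agent.FP3 Cfsg.Agent.SB Cfsg.Agent.N2.Sp Cfsg.Agent.N2.Sp2 Cfsg.Agent.N2.Sp4T Cfsg.Agent.N2.Sp4
open Cfsg.Agent.TAB.Eng Cfsg.Agent.TAB.Use Cfsg.Agent.SB.SporL Cfsg.Agent.TH.Spor

namespace Mix

variable {K : Type} [Group K] [Finite K] {D : Dat} {T : TD K D} {R : Rows} {ν : List ℕ} {A : Subgroup K} {S : List ℕ}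

/-- a central involution -/
theorem exists_cinv {Q : Subgroup K} (hQ : IsPGroup 2 Q) (h0 : Q ≠ ⊥) :
    ∃ e ∈ Q, orderOf e = 2 ∧ ∀ q ∈ Q, e * q = q * e := by
  have : Fact (Nat.Prime 2) := ⟨Nat.prime_two⟩
  have : Nontrivial Q := Q.nontrivial_iff_ne_bot.2 h0
  have := hQ.center_nontrivial
  obtain ⟨z, hz⟩ := exists_prime_orderOf_dvd_card' (G := center Q) 2
    ((hQ.to_subgroup _).card_eq_or_dvd.resolve_left Finite.one_lt_card.ne')
  exact ⟨z, z.1.2, by rw [orderOf_coe, orderOf_coe, hz],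
    fun q hq => (congrArg Subtype.val (mem_center_iff.1 z.2 ⟨q, hq⟩)).symm⟩

/-- the centraliser of an involution -/
theorem cn_inv (hm : T.Mass) (hu : Unif T) {e : K} (he : orderOf e = 2) : D.cnt (T.ty e) * cn e = D.N := by
  rw [← hm.1, ← card_class e, ← hm.2 _ (T.lt e)]
  congr 1
  refine Nat.card_congr (Equiv.subtypeEquivRight fun y => ⟨fun h => ?_, fun h => TD.ty_isConj h⟩)
  obtain ⟨k, hk⟩ := hu e y (he ▸ Nat.prime_two) h.symm
  rw [← pow_mod_orderOf, he] at hk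
  rcases Nat.mod_two_eq_zero_or_one k with h1 | h1 <;> rw [h1] at hk
  · rw [pow_zero, isConj_one_right] at hk
    have h2 := T.ord y
    rw [h, ← T.ord, he, hk, orderOf_one] at h2
    omega
  · rwa [pow_one] at hk

/-- the centraliser of an element -/
theorem cn_tot (H : Hy T R ν) (a : K) : cn a * ntd ν 0 (T.ty a) ≤ D.N * (orderOf a).totient := by
  classical
  have := Fintype.ofFinite (zpowers a)
  have h0 : num T (zpowers a) (T.ty a) ≤ (orderOf a).totient := by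
    rw [← IsCyclic.card_orderOf_eq_totient (α := zpowers a) (d := orderOf a) (by
      rw [← Nat.card_eq_fintype_card, Nat.card_zpowers]), ← Fintype.card_subtype, ← Nat.card_eq_fintype_card]
    exact Nat.card_le_card_of_injective (fun y => ⟨y.1, by rw [← orderOf_coe, T.ord, y.2, ← T.ord]⟩)
      fun _ _ e => Subtype.ext (congrArg Subtype.val e :)
  have h1 := (H.den (zpowers a) a).trans (Nat.mul_le_mul_left _ h0)
  have : Finite {g : K // IsConj a g ∧ g ∈ zpowers a} := Subtype.finite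
  have : Nonempty {g : K // IsConj a g ∧ g ∈ zpowers a} := ⟨⟨a, IsConj.refl a, mem_zpowers a⟩⟩
  rw [fx_mul] at h1
  exact (Nat.mul_le_mul_right _ (Nat.le_mul_of_pos_right _ Nat.card_pos)).trans h1

/-- the sum of a character is not negative -/
theorem row_pos (H : Hy T R ν) (hi : okIdx R = true) (Y : Subgroup K) {i : ℕ}
    (hp : allL (fun p => decide (0 ≤ p.2)) (ntd R.rel ([], []) i).1 = true) : 0 ≤ vf T Y (rw R i) := by
  have := Fintype.ofFinite Y
  obtain ⟨χ, hE, hR⟩ := H.tab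
  obtain ⟨m, hm, -⟩ := SM.Sp.exists_mults hE Y
  show 0 ≤ SM.Sp.val T Y _
  rw [(SM.Sp.val_mult hR hi hm i).2]
  refine mul_nonneg (Int.natCast_nonneg _) (List.sum_nonneg fun x hx => ?_)
  obtain ⟨p, h1, rfl⟩ := List.mem_map.1 hx
  exact mul_nonneg (of_decide_eq_true (allL_spec hp p h1)) (Int.natCast_nonneg _)

omit [Finite K] in
theorem ord3 (ho : ∀ a ∈ A, ¬ 9 ∣ orderOf a) {y : K} (hy : y ∈ Mon.core 3 A) (h1 : y ≠ 1) : orderOf y = 3 := by
  have : Fact (Nat.Prime 3) := ⟨Nat.prime_three⟩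
  obtain ⟨k, hk⟩ := IsPGroup.iff_orderOf.1 (Mon.core_pgroup (S := A) 3) ⟨y, hy⟩
  rw [orderOf_mk] at hk
  match k with
  | 0 => exact absurd (orderOf_eq_one_iff.1 hk) h1
  | 1 => exact hk
  | k + 2 => exact absurd (hk ▸ Dvd.intro_left (3 ^ k) (pow_add 3 k 2).symm) (ho y (map_subtype_le _ hy))

variable [IsSimpleGroup K] {Γ : Subgroup (MulAut K)}

/-- the common part -/
theorem common (H : Hy T R ν) (hS : Sup T A S) (h : MI A Γ) (h2 : pCore 2 A ≠ ⊥) {x : K} (hx : x ∈ A) (px : (orderOf x).Prime)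
    (x2 : orderOf x ≠ 2) (xc : ∀ q ∈ Mon.core 2 A, x * q = q * x)
    (hZ : ∀ e ∈ Mon.core 2 A, (∀ q ∈ Mon.core 2 A, e * q = q * e) → T.ty e ≠ 1)
    (tab : ∀ s ∈ S, D.ord s % 4 = 2 → D.ord s ≤ 6 ∨ D.pwf s (D.ord s / 2) = 1) :
    orderOf x = 3 ∧ Mon.core 3 A ≠ ⊥ ∧ ∃ e ∈ Mon.core 2 A, orderOf e = 2 ∧ T.ty e ≠ 1 := by
  have : Fact (Nat.Prime 2) := ⟨Nat.prime_two⟩
  obtain ⟨e, he, oe, ce⟩ := exists_cinv (Mon.core_pgroup (S := A) 2)
    fun k => h2 ((map_eq_bot_iff_of_injective _ A.subtype_injective).1 k)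
  have hC := cent_core_le h h2
  have h3 : ∀ y ∈ A, (orderOf y).Prime → orderOf y ≠ 2 → Commute e y → orderOf y = 3 := fun y hy py y2 hc => by
    have h4 := ord_mul hc oe rfl ((Nat.coprime_primes Nat.prime_two py).2 y2.symm)
    obtain ⟨j, hj⟩ := py.odd_of_ne_two y2
    have h5 := py.two_le
    obtain ⟨k1, k2⟩ := mem_of' H hS (mul_mem (map_subtype_le _ he) hy) h4 (by omega)
    rcases tab _ k1 (by omega) with k3 | k3
    · omega
    · refine absurd (Eq.trans ?_ k3) (hZ e he ce)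
      rw [← T.pow, k2, Nat.mul_div_cancel_left _ two_pos, hc.mul_pow, pow_orderOf_eq_one, mul_one, hj, pow_succ, pow_mul, ← oe,
        pow_orderOf_eq_one, one_pow, one_mul]
  refine ⟨h3 x hx px x2 (xc e he).symm, core_other (Or.inl ⟨rfl, rfl⟩) hC (fun r hr hd => ?_) xc fun k => ?_, e, he, oe, hZ e he ce⟩
  · obtain ⟨y, hy, oy⟩ := exists_of_dvd hr hd
    by_cases h4 : r = 2
    · exact Or.inl h4
    · exact Or.inr (oy ▸ h3 y (hC hy) (oy ▸ hr) (oy ▸ h4) (mem_centralizer_iff.1 hy e he))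
  · obtain ⟨j, hj⟩ := IsPGroup.iff_orderOf.1 (Mon.core_pgroup (S := A) 2) ⟨x, k⟩
    rw [orderOf_mk] at hj
    exact x2 ((Nat.prime_dvd_prime_iff_eq px Nat.prime_two).1 (px.dvd_of_dvd_pow hj.dvd))

/-- a core of order three -/
theorem small (h : MI A Γ) (h0 : Mon.core 3 A ≠ ⊥) (h9 : Nat.card (Mon.core 3 A) < 9) :
    ∃ z ∈ Mon.core 3 A, orderOf z = 3 ∧ centralizer {z} ≤ A := by
  have : Fact (Nat.Prime 3) := ⟨Nat.prime_three⟩
  obtain ⟨z, hz, oz⟩ := exists_ord Nat.prime_three (Mon.core_pgroup (S := A) 3) h0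
  obtain ⟨k, hk⟩ := IsPGroup.iff_card.1 (Mon.core_pgroup (S := A) 3)
  have h1 : k < 2 := (Nat.pow_lt_pow_iff_right (by decide : 1 < 3)).1 (hk ▸ h9)
  have h2 : zpowers z = Mon.core 3 A := eq_of_le_of_card_ge (zpowers_le.2 hz) (by
    rw [Nat.card_zpowers, oz, hk]
    exact (Nat.pow_le_pow_right (by decide) (Nat.le_of_lt_succ h1)).trans (by decide))
  refine ⟨z, hz, oz, fun c hc => cent_core_le h (p := 3) (fun k => h0 (by rw [Mon.core, k, Subgroup.map_bot])) ?_⟩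
  exact h2 ▸ mem_centralizer_iff.2 fun y hy => (F24.Geo.comm_zp (mem_centralizer_singleton_iff.1 hc) hy).symm

end Mix

open Mix Cfsg.Agent.N2.Sp.Co1 in
/-- **the mixed case of `Co1`** -/
theorem boxMix1 : BoxMix1 := by
  intro K _ _ _ _ T H _ A Γ h hb n33 h2 ⟨x, hx, px, x2, xc⟩ hZ
  have : Fact (Nat.Prime 3) := ⟨Nat.prime_three⟩
  obtain ⟨hU, hS⟩ := sup H hb h.ne_top
  obtain ⟨-, h3, e, he, oe, te⟩ := common H hS h h2 hx px x2 xc hZ (by decide +kernel)
  have ho : ∀ a ∈ A, ¬ 9 ∣ orderOf a := fun a ha => ord_of H hS (P := fun n => ¬ 9 ∣ n) (by decide) (by decide +kernel) ha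
  have h4 : ∀ z ∈ Mon.core 3 A, z ≠ 1 → T.ty z = 4 := fun z hz h5 => by
    obtain ⟨k1, k2, k3, k4⟩ := six H hS (map_subtype_le _ he) (map_subtype_le _ hz) oe (ord3 ho hz h5)
      (SporB.core_comm Nat.prime_two Nat.prime_three (by decide) he hz)
    rw [← k4]
    exact (by decide +kernel : ∀ s ∈ S, D.ord s = 6 → D.pwf s 3 ≠ 1 → D.pwf s 4 = 4) _ k1 k2 (k3 ▸ te)
  have h5 : Nat.card (Mon.core 3 A) < 9 := by
    by_contra h6
    obtain ⟨Y, hY⟩ := Sylow.exists_subgroup_card_pow_prime_of_le_card (n := 2) Nat.prime_three (Mon.core_pgroup (S := A) 3)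
      (not_lt.1 h6)
    obtain ⟨y, k1, k2, k3⟩ := n33 (Y.map (Subgroup.subtype _)) (by rw [card_map_of_injective (subtype_injective _), hY]; rfl)
    exact k3 (h4 y (map_subtype_le _ k1) k2)
  obtain ⟨z, hz, oz, cz⟩ := small h h3 h5
  have h6 := (le_cn H.mass z).trans (Nat.mul_le_mul_left _ ((card_le_of_le cz).trans hU))
  rw [h4 z hz fun k => by rw [k, orderOf_one] at oz; omega] at h6
  exact absurd h6 (by decide +kernel)

open Mix Cfsg.Agent.N2.Sp.Co2 in
/-- **the mixed case of `Co2`** -/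
theorem boxMix2 : BoxMix2 := by
  intro K _ _ _ _ T H hu A Γ h hb h2 ⟨x, hx, px, x2, xc⟩ hZ
  have : Fact (Nat.Prime 2) := ⟨Nat.prime_two⟩
  have hr := res H hb h.ne_top
  have hS := (sup H hb h.ne_top).2
  obtain ⟨ox, h3, e, he, oe, te⟩ := common H hS h h2 hx px x2 xc hZ (by decide +kernel)
  have ho : ∀ a ∈ A, orderOf a ≤ 6 := fun a ha => ord_of H hS (P := fun n => n ≤ 6) (by decide) (by decide +kernel) ha
  have ho' : ∀ a ∈ A, ¬ 9 ∣ orderOf a := fun a ha => Nat.not_dvd_of_pos_of_lt (orderOf_pos a) ((ho a ha).trans_lt (by decide))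
  have hc : ∀ z ∈ Mon.core 3 A, Commute e z := fun z hz => SporB.core_comm Nat.prime_two Nat.prime_three (by decide) he hz
  have k0 : ∀ s ∈ S, D.ord s = 6 → D.pwf s 3 ≠ 1 → D.pwf s 3 = 2 ∧ (D.pwf s 4 = 4 ∨ s = 19) := by decide +kernel
  have h4 : ∀ q ∈ Mon.core 2 A, q ≠ 1 → orderOf q = 2 := fun q hq h5 => by
    obtain ⟨k, hk⟩ := IsPGroup.iff_orderOf.1 (Mon.core_pgroup (S := A) 2) ⟨q, hq⟩
    rw [orderOf_mk] at hk
    have h7 := ho _ (mul_mem (map_subtype_le _ hq) hx)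
    rw [ord_mul (xc q hq).symm hk ox (Nat.Coprime.pow_left _ (by decide))] at h7
    match k with
    | 0 => exact absurd (orderOf_eq_one_iff.1 hk) h5
    | 1 => exact hk
    | k + 2 => rw [pow_add] at h7; have := Nat.one_le_pow k 2 (by decide); omega
  have h5 : ∀ q ∈ Mon.core 2 A, q⁻¹ = q := fun q hq => by
    by_cases h6 : q = 1
    · rw [h6, inv_one]
    · exact inv_eq_of_mul_eq_one_right (by rw [← pow_two, ← h4 q hq h6, pow_orderOf_eq_one])
  have h6 : ∀ q ∈ Mon.core 2 A, q ≠ 1 → T.ty q = 2 := fun q hq h7 => by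
    obtain ⟨k1, k2, k3, -⟩ := six H hS (map_subtype_le _ hq) hx (h4 q hq h7) ox (xc q hq).symm
    exact k3 ▸ (k0 _ k1 k2 (k3 ▸ hZ q hq fun r hr => by
      rw [← h5 _ (mul_mem hq hr), mul_inv_rev, h5 q hq, h5 r hr])).1
  have h7 : Nat.card (Mon.core 2 A) ∣ 16 := card_dvd' H (by decide +kernel) (-7) [(1, 1)]
    (fun y hy k => by rw [h6 y hy k]; decide +kernel) (by decide +kernel)
  have h8 : Nat.card (Mon.core 3 A) ∣ 3 ^ 2 := by
    have k1 := cn_inv H.mass hu oe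
    rw [h6 e he fun k => by rw [k, orderOf_one] at oe; omega, show D.N = D.cnt 2 * (3 ^ 2 * 4587520) by decide +kernel] at k1
    refine pg_le Nat.prime_three (Mon.core_pgroup 3) (m := 4587520) ?_ (by decide)
    rw [← Nat.eq_of_mul_eq_mul_left (by decide +kernel) k1]
    exact card_dvd_of_le fun z hz => mem_centralizer_singleton_iff.2 (hc z hz).symm
  have h9 : ∀ z ∈ Mon.core 3 A, z ≠ 1 → T.ty z = 4 := fun z hz k => by
    have oz := ord3 ho' hz k
    obtain ⟨k1, k2, k3, k4⟩ := six H hS (map_subtype_le _ he) (map_subtype_le _ hz) oe oz (hc z hz)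
    refine k4 ▸ (k0 _ k1 k2 (k3 ▸ te)).2.resolve_right fun k5 => ?_
    have k6 := cn_tot H (e * z)
    rw [ord_mul (hc z hz) oe oz (by decide), k5, show D.N * Nat.totient (2 * 3) = 1152 * ntd nu 0 19 by decide +kernel] at k6
    have k7 := (card_le_mixed (Mon.core_conj 2) (Mon.core_conj 3) he hz).trans (Nat.mul_le_mul (Nat.mul_le_mul
      (Nat.le_of_dvd (by decide) h7) (Nat.le_of_dvd (by decide) h8)) (Nat.le_of_mul_le_mul_right k6 (by decide +kernel)))
    have k8 := (mem_of' H (sup_al hr k7) (mul_mem (map_subtype_le _ he) (map_subtype_le _ hz))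
      (ord_mul (hc z hz) oe oz (by decide)) (by decide)).1
    exact absurd (k5 ▸ k8) (by decide +kernel)
  have h10 : Nat.card (Mon.core 3 A) < 9 := by
    have k1 := row_pos H (by decide +kernel) (Mon.core 3 A) (i := 1) (by decide +kernel)
    rw [vf_eq bot_le (a := -4) fun y hy k => by rw [h9 y hy fun k' => k (k' ▸ one_mem _)]; decide +kernel, vf_bot H, card_bot,
      show rw R 1 0 = 23 by decide +kernel] at k1
    omega
  obtain ⟨z, hz, oz, cz⟩ := small h h3 h10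
  obtain ⟨c, k1, k2⟩ := exists_of_dvd (A := centralizer {z}) Nat.prime_five (dvd_cn (j := 3) H.mass hu Nat.prime_three
    Nat.prime_five (by decide) oz (by decide +kernel) (by
      rw [h9 z hz fun k => by rw [k, orderOf_one] at oz; omega]; decide +kernel))
  have k3 := ho _ (mul_mem (cz k1) (map_subtype_le _ hz))
  rw [ord_mul (mem_centralizer_singleton_iff.1 k1) k2 oz (by decide)] at k3
  omega

end Cfsg.Agent.N2.Co2L
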