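import Cfsg.Agent.N2.Co2L.Defs
import Cfsg.Agent.S0055

/-!
# N2 (S3519), the 2-local case of Co1 and Co2: fixed point free elements (helper90)
-/

set_option autoImplicit false
set_option linter.unusedSectionVars false

namespace Cfsg.Agent.N2.Co2L

open Cfsg Subgroup

namespace Np

variable {G : Type} [Group G] [Fintype G] (L : Lx G) (S : Subgroup G) [DecidablePred (· ∈ S)]

/-- the average over `S` -/
noncomputable def av : Module.End ℂ Vs := (Nat.card S : ℂ)⁻¹ • ∑ a ∈ Finset.univ.filter (· ∈ S), L.ρ a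

theorem card_eq : (Finset.univ.filter (· ∈ S)).card = Nat.card S := by
  rw [Nat.card_eq_fintype_card, Fintype.card_subtype]

theorem card_ne : (Nat.card S : ℂ) ≠ 0 := Nat.cast_ne_zero.2 Nat.card_pos.ne'

variable {S}

theorem mul_av {b : G} (hb : b ∈ S) : L.ρ b * av L S = av L S := by
  rw [av, mul_smul_comm, Finset.mul_sum]
  refine congrArg _ (Finset.sum_equiv (Equiv.mulLeft b) (fun a => ?_) fun a _ => (map_mul _ _ _).symm)
  simp [S.mul_mem_cancel_left hb]

theorem comm_av {x : G} (hx : ∀ a ∈ S, x * a * x⁻¹ ∈ S) : Commute (L.ρ x) (av L S) := by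
  have h1 := mem_normalizer_iff.1 (mem_normalizer_fintype (S := (S : Set G)) hx)
  refine (show Commute _ _ from ?_).smul_right _
  show _ * _ = _ * _
  rw [Finset.mul_sum, Finset.sum_mul]
  refine Finset.sum_equiv (MulAut.conj x).toEquiv (fun a => ?_) fun a _ => ?_
  · simpa using h1 a
  · rw [← map_mul, ← map_mul]
    simp

variable (S)

theorem av_av : av L S * av L S = av L S := by
  nth_rewrite 1 [av]
  rw [smul_mul_assoc, Finset.sum_mul, Finset.sum_congr rfl fun a ha => mul_av L (Finset.mem_filter.1 ha).2,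
    Finset.sum_const, card_eq, ← Nat.cast_smul_eq_nsmul ℂ, smul_smul, inv_mul_cancel₀ (card_ne S), one_smul]

end Np

open Np

/-- **[Fpf]** -/
theorem boxFpf : BoxFpf := by
  intro G _ _ L o E _ x hp _ hx hf
  classical
  obtain ⟨k, hk⟩ := idem_nat (av_av L E)
  have hc : Commute (av L E) (av L (zpowers x)) := by
    refine (Commute.sum_right _ _ _ fun y hy => ?_).smul_right _
    obtain ⟨i, rfl⟩ := mem_powers_iff_mem_zpowers.2 (Finset.mem_filter.1 hy).2
    rw [map_pow]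
    exact (comm_av L hx).symm.pow_right i
  obtain ⟨n, hn⟩ := idem_nat (IsIdempotentElem.mul_of_commute hc (av_av L E) (av_av L (zpowers x)))
  have h1 : ∀ y ∈ zpowers x, y ≠ 1 → LinearMap.trace ℂ Vs (av L E * L.ρ y) = L.tr x := fun y hy hy1 => by
    obtain ⟨i, rfl⟩ := mem_powers_iff_mem_zpowers.2 hy
    have hi : i.Coprime (orderOf x) := (hp.coprime_iff_not_dvd.2 fun e => hy1 (orderOf_dvd_iff_pow_eq_one.1 e)).symm
    have hn := mem_normalizer_iff.1 (pow_mem (mem_normalizer_fintype (S := (E : Set G)) hx) i)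
    obtain ⟨j, hj⟩ := mem_zpowers_pow_iff.2 hi
    let φ : E → E := fun b => ⟨b * (x ^ i * (b : G)⁻¹ * (x ^ i)⁻¹), E.mul_mem b.2 ((hn _).1 (E.inv_mem b.2))⟩
    have hφ : Function.Injective φ := fun b c e => by
      have h2 : (b : G) * (x ^ i * (b : G)⁻¹ * (x ^ i)⁻¹) = c * (x ^ i * (c : G)⁻¹ * (x ^ i)⁻¹) := congrArg Subtype.val e
      have h3 : Commute (x ^ i) ((c : G)⁻¹ * b) := by
        show x ^ i * ((c : G)⁻¹ * b) = (c : G)⁻¹ * b * x ^ i
        calc _ = (c : G)⁻¹ * (c * (x ^ i * (c : G)⁻¹ * (x ^ i)⁻¹)) * x ^ i * b := by group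
          _ = _ := by rw [← h2]; group
      have h4 := h3.zpow_left j
      rw [show (x ^ i) ^ j = x from hj] at h4
      exact (Subtype.ext (inv_mul_eq_one.1 (hf _ (E.mul_mem (E.inv_mem c.2) b.2) h4))).symm
    have h5 : ∀ a ∈ Finset.univ.filter (· ∈ E), LinearMap.trace ℂ Vs (L.ρ a * L.ρ (x ^ i)) = L.tr x := fun a ha => by
      obtain ⟨b, hb⟩ := Finite.injective_iff_surjective.1 hφ ⟨a, (Finset.mem_filter.1 ha).2⟩
      rw [← map_mul, o.trace, ← show (b : G) * (x ^ i * (b : G)⁻¹ * (x ^ i)⁻¹) = a from congrArg Subtype.val hb,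
        mul_assoc, inv_mul_cancel_right, ← mul_assoc, o.tr_conj, o.pow x i hi]
    rw [av, smul_mul_assoc, Finset.sum_mul, map_smul, map_sum, Finset.sum_congr rfl h5, Finset.sum_const, card_eq,
      nsmul_eq_mul, smul_eq_mul, inv_mul_cancel_left₀ (card_ne E)]
  refine ⟨n, k, ?_, ?_, fun h0 => ?_⟩
  · rw [av, map_smul, map_sum, smul_eq_mul, inv_mul_eq_iff_eq_mul₀ (card_ne E)] at hk
    simp only [o.trace] at hk
    exact_mod_cast hk
  · have h2 : (1 : G) ∈ Finset.univ.filter (· ∈ zpowers x) := by simp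
    nth_rewrite 2 [av] at hn
    rw [mul_smul_comm, Finset.mul_sum, map_smul, map_sum, smul_eq_mul, inv_mul_eq_iff_eq_mul₀ (card_ne _),
      ← Finset.add_sum_erase _ _ h2, map_one, mul_one, hk, Finset.sum_congr rfl fun y hy =>
        h1 y (Finset.mem_filter.1 (Finset.mem_erase.1 hy).2).2 (Finset.mem_erase.1 hy).1, Finset.sum_const,
      Finset.card_erase_of_mem h2, card_eq, Nat.card_zpowers, nsmul_eq_mul, Nat.cast_sub hp.one_le] at hn
    exact_mod_cast hn
  · have h2 : (1 - av L E) * (1 - av L E) = 1 - av L E := IsIdempotentElem.one_sub (av_av L E)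
    obtain ⟨j, hj⟩ := idem_nat h2
    have h3 := hj
    rw [map_sub, hk, LinearMap.trace_one, finrank_Vs, sub_eq_iff_eq_add] at h3
    have h4 : 24 = j + k := by exact_mod_cast h3
    by_contra h5
    have h6 := sub_eq_zero.1 (idem_zero h2 (by rw [hj, show j = 0 by omega, Nat.cast_zero]))
    refine h0 (eq_bot_iff.2 fun a ha => o.inj ?_)
    have h7 := mul_av L ha
    rwa [← h6, mul_one, ← map_one L.ρ] at h7

/-- **[Np]** -/
theorem boxNp : BoxNp := by
  intro G _ _ L H A Q D0 D h ⟨u, hu, hu0⟩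
  classical
  have := Fintype.ofFinite G
  have k0 : ∀ x ∈ A, (orderOf x).Prime → orderOf x ≠ 2 → x * u ≠ u * x := fun x hx hp h2 e =>
    h.cx.o2 x hx hp h2 u (h.U_le_A hu) (h.U_sq hu) e hu0
  have key : ∀ x ∈ A, (orderOf x).Prime → orderOf x ≠ 2 → 0 < 24 + ((orderOf x : ℤ) - 1) * L.tr x := fun x hx hp h2 => by
    have : IsMulCommutative (L.U D) := ⟨⟨fun a b => Subtype.ext (h.U_comm a.2 b.2)⟩⟩
    have hz : zpowers x ≤ A := zpowers_le.2 hx
    obtain ⟨n, hn⟩ := IsPGroup.iff_card.1 h.U_two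
    have h1 := (S0055.result (zpowers x) (L.U D) (fun y hy => mem_normalizer_fintype fun _ => h.U_conj (hz hy)) (by
      rw [Nat.card_zpowers, hn]
      exact ((Nat.coprime_primes hp Nat.prime_two).2 h2).pow_right n)).1
    have h3 : ⁅L.U D, zpowers x⁆ ≤ L.U D := commutator_le.2 fun a ha y hy => by
      rw [commutatorElement_def, mul_assoc, mul_assoc, ← mul_assoc y]
      exact mul_mem ha (h.U_conj (hz hy) (inv_mem ha))
    have h4 : (⁅L.U D, zpowers x⁆).map (MulAut.conj x).toMonoidHom ≤ ⁅L.U D, zpowers x⁆ := by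
      rw [map_commutator]
      refine commutator_mono ?_ ?_ <;> rintro _ ⟨a, ha, rfl⟩
      exacts [h.U_conj hx ha, mul_mem (mul_mem (mem_zpowers x) ha) (inv_mem (mem_zpowers x))]
    obtain ⟨n, k, -, k1, k2⟩ := boxFpf G L h.ok ⁅L.U D, zpowers x⁆ x hp (fun a ha b hb => h.U_comm (h3 ha) (h3 hb))
      (fun a ha => h4 ⟨a, ha, rfl⟩) fun a ha e => h1.le ⟨⟨h3 ha, by
        rintro _ ⟨j, rfl⟩
        exact (show Commute x a from e).zpow_left j⟩, ha⟩
    have k3 := k2 fun e => k0 x hx hp h2 (commutator_eq_bot_iff_le_centralizer.1 e hu x (mem_zpowers x))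
    have k4 : (0 : ℤ) ≤ orderOf x * n := by positivity
    omega
  refine ⟨⟨u, hu, hu0⟩, fun x hx hc => h.co.max' (X := A ⊓ centralizer (L.U D)) inf_le_left ?_ ?_
    ⟨hx, fun v hv => (hc v hv).symm⟩, fun x hx h3 => ?_, fun x hx h5 => ?_, fun p hp hd => ?_⟩
  · refine IsPGroup.iff_card.2 ⟨_, Nat.eq_prime_pow_of_unique_prime_dvd Nat.card_pos.ne' fun {p} hp hd => ?_⟩
    have : Fact p.Prime := ⟨hp⟩
    obtain ⟨x, hx⟩ := exists_prime_orderOf_dvd_card' p hd
    rw [← orderOf_coe] at hx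
    by_contra h2
    exact k0 x x.2.1 (hx ▸ hp) (hx ▸ h2) (x.2.2 u hu).symm
  · refine fun a ha x hx => ⟨A.mul_mem (A.mul_mem ha hx.1) (A.inv_mem ha), fun v hv => ?_⟩
    have h1 := hx.2 _ (h.U_conj (A.inv_mem ha) hv)
    calc v * (a * x * a⁻¹) = a * (a⁻¹ * v * a⁻¹⁻¹ * x) * a⁻¹ := by group
      _ = _ := by rw [h1]; group
  · have h1 := key x hx (h3 ▸ Nat.prime_three) (by omega)
    have h2 := h.cx.o1 x hx (h3 ▸ Nat.prime_three)
    rw [h3] at h1
    omega
  · have h1 := key x hx (h5 ▸ Nat.prime_five) (by omega)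
    have h2 := h.cx.o1 x hx (h5 ▸ Nat.prime_five)
    rw [h5] at h1
    omega
  · have : Fact p.Prime := ⟨hp⟩
    obtain ⟨x, hx⟩ := exists_prime_orderOf_dvd_card' p hd
    rw [← orderOf_coe] at hx
    have h2 := h.cx.o1 x x.2 (hx ▸ hp)
    by_contra h3
    have h1 := key x x.2 (hx ▸ hp) (by omega)
    rw [show orderOf (x : G) = 7 by omega] at h1
    omega

end Cfsg.Agent.N2.Co2L
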