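import Cfsg.Agent.N2.Co2L.Dict2
import Cfsg.Agent.StdG24.ExCent
import Cfsg.Agent.CoOneType.InvMain
import Cfsg.Agent.H861.RCoC

/-!
# N2 (S3519), the 2-local case of Co1 and Co2: the facts on `Co0` (helper16)
-/

set_option autoImplicit false

namespace Cfsg.Agent.N2.Co2L

open Cfsg Cfsg.Agent.SporadicA.Co0Mono Cfsg.Agent.SporadicA.Co1Simple Cfsg.Agent.CoOneType.SignFacts
open Cfsg.Agent.SporadicStructure.Co0Base (e8 e8_coe)
open Cfsg.Agent.Co2Type.Mono (tr8 tr8_conj cd)
open Cfsg.Agent.H419.LeechIrr (toC repC repC_toC toC_injective trace_repC)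
open Cfsg.Agent.StdG24.ExNorm (O FQ oM zM mem_FQ pr_mem_Q exists_of_mem_Q e_mem_FQ e8_eq comm_of_comm)
open Cfsg.Agent.StdG24.ExInst (Q z card_Q)
open Cfsg.Agent.StdG24.ExCent (sup_oM wt_oM zM_eq sign_e8 CQ Q_comm_z)
open Cfsg.Agent.CoOneType.CoOneE (pr pr_surjective pr_eq_iff allOne_ne)
open Cfsg.Agent.H861.RCoC (tr8_sign)

namespace OkI

theorem dvd8 (g : Co0) : 8 ∣ tr8 g := by
  have := H419.Spor.Co1.finite_co1
  obtain ⟨T, -, -, -, -, h⟩ := TAB.Co1.tab
  have h1 := (Dict.co1 (MulEquiv.refl _) h ((Sp.zero_of Sp.Co1.okz 1).2 rfl) g).1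
  exact (Int.pow_dvd_pow_iff two_ne_zero).1 ⟨_, h1⟩

/-- the data -/
noncomputable def L0 : Lx Co0 := ⟨rC, fun g => tr8 g / 8, signCo0 allOne⟩

theorem tr0 (g : Co0) : tr8 g = 8 * L0.tr g := (Int.mul_ediv_cancel' (dvd8 g)).symm

theorem chi0 (g : Co0) : (tr8 g : ℂ) / 8 = L0.tr g := by
  rw [tr0]
  push_cast
  ring

theorem tr_sign (c : golayCode) : L0.tr (signCo0 c) = 24 - 2 * (wt c : ℤ) := by
  have h1 := tr0 (signCo0 c)
  rw [tr8_sign] at h1
  omega

theorem tr_conj (g t : Co0) : L0.tr (g * t * g⁻¹) = L0.tr t := congrArg (· / 8) (tr8_conj g t)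

/-- the vectors `8 e_i` -/
noncomputable def v (x : leechLattice) : Vs := toC x

theorem rC_v (g : Co0) (x : leechLattice) : rC g (v x) = v (g • x) := repC_toC g x

theorem v_neg (x : leechLattice) : v (-x) = -v x := funext fun _ => Int.cast_neg _

theorem ext8 {f g : Module.End ℂ Vs} (h : ∀ i, f (v (e8 i)) = g (v (e8 i))) : f = g := by
  refine (Pi.basisFun ℂ GolayPt).ext (M := GolayPt → ℂ) fun i => ?_
  have h1 : v (e8 i) = (8 : ℂ) • (show Vs from Pi.basisFun ℂ GolayPt i) := funext fun j => by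
    show (((e8 i : leechLattice) : GolayPt → ℤ) j : ℂ) = 8 * (Pi.basisFun ℂ GolayPt i) j
    rw [e8_coe, Pi.basisFun_apply]
    by_cases k : j = i
    · subst k
      simp
    · simp [Pi.single_eq_of_ne k]
  have h2 := h i
  rw [h1, map_smul, map_smul] at h2
  exact smul_right_injective Vs (by norm_num) h2

theorem neg0 : rC (signCo0 allOne) = -1 := ext8 fun i => by
  rw [rC_v, allOne_smul, v_neg]
  rfl

/-- the sign change on the octad -/
noncomputable def s0 : Co0 := signCo0 (cd oM)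

theorem z0 : signCo0 (cd zM) = signCo0 allOne * s0 := by rw [zM_eq, add_comm, signCo0_add, s0]

theorem proj (i : GolayPt) : (1 - rC s0) (v (e8 i)) = if i ∈ O then (2 : ℂ) • v (e8 i) else 0 := by
  rw [LinearMap.sub_apply, rC_v, s0, sign_e8, ← sup_oM]
  split_ifs with h
  · rw [(mem_sup _ _).1 h, sgn_one, neg_one_zsmul, v_neg, sub_neg_eq_add, two_smul]
    rfl
  · rw [(notMem_sup _ _).1 h, sgn_zero, one_zsmul]
    exact sub_self _

theorem fq_iff {g : Co0} : rC g * (1 - rC s0) = 1 - rC s0 ↔ g ∈ FQ := by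
  constructor
  · intro h i hi
    have h1 := LinearMap.congr_fun h (v (e8 i))
    rw [Module.End.mul_apply, proj, if_pos hi, map_smul, rC_v] at h1
    exact toC_injective (smul_right_injective Vs (by norm_num) h1)
  · refine fun h => ext8 fun i => ?_
    rw [Module.End.mul_apply, proj]
    split_ifs with hi
    · rw [map_smul, rC_v, h i hi]
    · exact map_zero _

theorem pr_m (g : Co0) : pr (g * signCo0 allOne) = pr g := ((pr_eq_iff _ _).2 (.inr rfl)).symm

theorem mem_O {g : Co0} : g ∈ L0.O s0 ↔ pr g ∈ Q := by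
  constructor
  · rintro ⟨-, h | h⟩
    · exact pr_mem_Q (fq_iff.1 h)
    · rw [← pr_m]
      refine pr_mem_Q (fq_iff.1 ?_)
      change rC g * (1 - rC s0) = -(1 - rC s0) at h
      rw [map_mul, neg0, mul_neg, mul_one, neg_mul, h, neg_neg]
  · intro h
    have h1 := comm_of_comm (Q_comm_z h)
    rw [z0, ← mul_assoc, sign_allOne_comm, mul_assoc, mul_assoc, mul_right_inj] at h1
    refine ⟨h1, ?_⟩
    obtain ⟨t, ht, h2⟩ := exists_of_mem_Q h
    rcases (pr_eq_iff _ _).1 h2 with rfl | rfl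
    · exact .inl (fq_iff.2 ht)
    · right
      change rC _ * (1 - rC s0) = -(1 - rC s0)
      rw [map_mul, neg0, mul_neg, mul_one, neg_mul, fq_iff.2 ht]

theorem card0 : Nat.card (L0.O s0) = 1024 := by
  have h1 : L0.O s0 = Q.comap pr := Subgroup.ext fun _ => mem_O
  have h2 := (Q.comap pr).card_mul_index
  have h3 := Q.card_mul_index
  rw [Subgroup.index_comap_of_surjective _ pr_surjective, S0397.result] at h2
  rw [card_Q, H68.CoMdl.card_co1] at h3
  have h4 : Q.index = 8120657825280000 := Nat.eq_of_mul_eq_mul_left (by norm_num) (h3.trans (by norm_num))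
  rw [h4] at h2
  rw [h1]
  exact Nat.eq_of_mul_eq_mul_right (by norm_num) (h2.trans (by norm_num))

theorem inj_FQ {t u : Co0} (ht : t ∈ FQ) (hu : u ∈ FQ) (h : pr t = pr u) : t = u := by
  refine (((pr_eq_iff _ _).1 h).resolve_right fun k => ?_).symm
  have h1 : signCo0 allOne ∈ FQ := by
    rw [eq_comm, ← eq_inv_mul_iff_mul_eq] at k
    exact k ▸ mul_mem (inv_mem ht) hu
  have h2 := fq_iff.2 h1
  rw [neg0, neg_mul, one_mul, neg_eq_iff_add_eq_zero, ← two_smul ℂ, smul_eq_zero, sub_eq_zero] at h2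
  have h3 : s0 = 1 := Dict.repC_inj (h2.resolve_left (by norm_num)).symm
  have h4 := tr_sign (cd oM)
  have h5 := tr_sign 0
  rw [wt_oM] at h4
  rw [signCo0_zero, ← h3, s0, h4, show wt 0 = 0 by rw [wt, CoOneType.CoOneE.sup_zero, Finset.card_empty]] at h5
  omega

theorem pr_z : pr (signCo0 allOne * s0) = z := by
  rw [← z0, ← e8_eq]
  rfl

theorem comm0 : ∀ a ∈ L0.O s0, ∀ b ∈ L0.O s0, a * b = b * a ∨ a * b = b * a * (signCo0 allOne * s0) := by
  intro a ha b hb
  obtain ⟨t, ht, h1⟩ := exists_of_mem_Q (mem_O.1 ha)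
  obtain ⟨u, hu, h2⟩ := exists_of_mem_Q (mem_O.1 hb)
  have h3 : signCo0 allOne * s0 ∈ FQ := by
    rw [← z0, ← e8_eq]
    exact e_mem_FQ (by norm_num)
  have h4 : t * u = u * t ∨ t * u = u * t * (signCo0 allOne * s0) := by
    refine (StdG24.ExCent.comm (pr_mem_Q ht) (pr_mem_Q hu)).imp (fun k => inj_FQ (mul_mem ht hu) (mul_mem hu ht) k)
      fun k => inj_FQ (mul_mem ht hu) (mul_mem (mul_mem hu ht) h3) ?_
    rw [← Q_comm_z (mul_mem (pr_mem_Q hu) (pr_mem_Q ht)), ← pr_z] at k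
    exact k
  generalize signCo0 allOne * s0 = w at h4
  have c := sign_allOne_comm
  generalize hm : signCo0 allOne = m at c
  have e1 : ∀ x y : Co0, x * m * y = x * y * m := fun x y => by rw [mul_assoc, ← c, mul_assoc]
  rcases (pr_eq_iff _ _).1 h1 with k1 | k1 <;> rcases (pr_eq_iff _ _).1 h2 with k2 | k2 <;>
    simp only [k1, k2, hm, ← mul_assoc, e1 _ t, e1 _ u, e1 _ w, mul_left_inj, h4]

theorem cent0 (g : Co0) (h : ∀ a ∈ L0.O s0, g * a = a * g) :
    g = 1 ∨ g = signCo0 allOne ∨ g = s0 ∨ g = signCo0 allOne * s0 := by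
  rcases CQ (k := pr g) fun q hq => by
    obtain ⟨a, rfl⟩ := pr_surjective q
    rw [← map_mul, ← map_mul, h a (mem_O.2 hq)] with k | k
  · rw [← map_one pr, eq_comm, pr_eq_iff, one_mul] at k
    exact k.imp_right .inl
  · rw [← pr_z, eq_comm, pr_eq_iff, ← sign_allOne_comm, mul_assoc, signCo0_mul_self, mul_one, sign_allOne_comm] at k
    exact .inr (.inr k.symm)

/-- the involutions of trace eight are conjugate -/
theorem conj0 {s : Co0} (h : L0.I8 s) : ∃ g, s = g * s0 * g⁻¹ := by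
  obtain ⟨g, c, h1⟩ := CoOneType.InvMain.conj_sign_of_sq_one s h.1
  have h2 := tr_sign c
  rw [← h1, tr_conj, h.2] at h2
  obtain ⟨σ, h3⟩ := CoOneType.InvMain.exists_perm_octad (c := c) (d := cd oM) ⟨sup_mem c, show wt c = 8 by omega⟩
    ⟨sup_mem _, wt_oM⟩
  refine ⟨(permCo0 σ * g)⁻¹, ?_⟩
  rw [s0, ← h3, ← perm_mul_sign_mul_inv, ← h1]
  group

theorem back {g a : Co0} (h : a ∈ L0.O (g * s0 * g⁻¹)) : g⁻¹ * a * g ∈ L0.O s0 := by
  have h1 := conj_mem_O h g⁻¹
  rwa [inv_inv, show g⁻¹ * (g * s0 * g⁻¹) * g = s0 by group] at h1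

theorem ok0 : Ok L0 where
  trace g := (trace_repC g).trans (chi0 g)
  inj := (injective_iff_map_eq_one _).2 fun _ => Dict.repC_inj
  neg := neg0
  inv t ht := by
    obtain ⟨g, c, h1⟩ := CoOneType.InvMain.conj_sign_of_sq_one t ht
    have h2 := tr_sign c
    rw [← h1, tr_conj] at h2
    rcases wt_cases c with h | h | h | h | h
    · exact .inl (Dict.eq_one_of_tr8 (by rw [tr0]; omega))
    · exact .inr (.inr (.inl (by omega)))
    · exact .inr (.inr (.inr (.inl (by omega))))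
    · exact .inr (.inr (.inr (.inr (by omega))))
    · refine .inr (.inl ?_)
      rw [CoOneType.ClosingFacts.eq_allOne_of_wt h, mul_inv_eq_iff_eq_mul, ← sign_allOne_comm, mul_right_inj] at h1
      exact h1
  pow g k hk := by
    have := H419.Spor.Co1.finite_co0
    have h1 := TAB.Co.gen_gal (OddOrderCharacters.VChar.gen_of_char
      (H419.LeechIrr.isCharacter_lchi (MonoidHom.id Co0))) hk (chi0 g)
    exact_mod_cast (chi0 (g ^ k)).symm.trans h1
  card s hs := by
    obtain ⟨g, rfl⟩ := conj0 hs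
    rw [← card0]
    exact Nat.card_congr ⟨fun a => ⟨_, back a.2⟩, fun a => ⟨_, conj_mem_O a.2 g⟩, fun a => Subtype.ext (by simp [mul_assoc]),
      fun a => Subtype.ext (by simp [mul_assoc])⟩
  comm s hs a ha b hb := by
    obtain ⟨g, rfl⟩ := conj0 hs
    refine (comm0 _ (back ha) _ (back hb)).imp (fun k => ?_) fun k => ?_
    · calc a * b = g * (g⁻¹ * a * g * (g⁻¹ * b * g)) * g⁻¹ := by group
        _ = _ := by rw [k]; group
    · calc a * b = g * (g⁻¹ * a * g * (g⁻¹ * b * g)) * g⁻¹ := by group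
        _ = b * a * (g * signCo0 allOne * s0 * g⁻¹) := by rw [k]; group
        _ = _ := by rw [sign_allOne_comm]; simp only [mul_assoc]; rfl
  cent s hs x hx := by
    obtain ⟨g, rfl⟩ := conj0 hs
    have e : x = g * (g⁻¹ * x * g) * g⁻¹ := by group
    rcases cent0 (g⁻¹ * x * g) fun a ha => by
      calc g⁻¹ * x * g * a = g⁻¹ * (x * (g * a * g⁻¹)) * g := by group
        _ = _ := by rw [hx _ (conj_mem_O ha g)]; group with k | k | k | k <;> rw [k] at e
    · exact .inl (by rw [e, mul_one, mul_inv_cancel])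
    · exact .inr (.inl (by rw [e, sign_allOne_comm, mul_inv_cancel_right]; rfl))
    · exact .inr (.inr (.inl e))
    · exact .inr (.inr (.inr (by rw [e, ← mul_assoc, sign_allOne_comm]; simp only [mul_assoc]; rfl)))

end OkI

theorem boxOk : BoxOk := ⟨OkI.L0, rfl, OkI.ok0⟩

end Cfsg.Agent.N2.Co2L
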