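import Cfsg.Agent.N2.Co2L.Np

/-!
# N2 (S3519), the 2-local case of Co1 and Co2: the order of `Q` (helper43)

The two four-groups give fifteen idempotents of trace one, on each of which `Q` acts by a sign.
-/

set_option autoImplicit false
set_option maxHeartbeats 400000

namespace Cfsg.Agent.N2.Co2L

open Cfsg Subgroup

namespace Q

local notation "trc" => LinearMap.trace ℂ Vs

variable {G : Type} [Group G]

/-! ### group theory -/

theorem relIndex_le_two (K P : Subgroup G) (h : ∀ p ∈ P, ∀ q ∈ P, p ∉ K → q ∉ K → p⁻¹ * q ∈ K) : K.relIndex P ≤ 2 := by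
  classical
  have i : Function.Injective fun x : P ⧸ K.subgroupOf P => x = ((1 : P) : P ⧸ K.subgroupOf P) := by
    intro x y
    induction x using QuotientGroup.induction_on with
    | H p =>
    induction y using QuotientGroup.induction_on with
    | H q =>
    intro k
    have k' : ((p : P ⧸ K.subgroupOf P) = (1 : P)) ↔ ((q : P ⧸ K.subgroupOf P) = (1 : P)) := k.to_iff
    by_cases hp : (p : P ⧸ K.subgroupOf P) = (1 : P)
    · rw [hp, k'.1 hp]
    · have hq := fun t => hp (k'.2 t)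
      rw [QuotientGroup.eq, mul_one, inv_mem_iff, mem_subgroupOf] at hp hq
      exact QuotientGroup.eq.2 (mem_subgroupOf.2 (h p p.2 q q.2 hp hq))
  have := Nat.card_le_card_of_injective _ i
  rwa [Nat.card_eq_fintype_card (α := Prop), Fintype.card_prop] at this

theorem card_eq_mul (K P : Subgroup G) : Nat.card P = Nat.card ↥(K ⊓ P) * K.relIndex P := by
  rw [← Nat.card_congr (subgroupOfEquivOfLe (inf_le_right : K ⊓ P ≤ P)).toEquiv, inf_subgroupOf_right]
  exact (card_mul_index _).symm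

/-- an element of order three fixes a point of an invariant coset of a 2-group -/
theorem coset_fix [Finite G] {K : Subgroup G} (h2 : IsPGroup 2 K) {v q : G} (hv : v ^ 3 = 1) (hK : ∀ k ∈ K, v⁻¹ * k * v ∈ K)
    (hq : q⁻¹ * (v⁻¹ * q * v) ∈ K) : ∃ k ∈ K, v * (q * k) = q * k * v := by
  classical
  have := Fintype.ofFinite G
  let f : K → K := fun k => ⟨q⁻¹ * (v⁻¹ * q * v) * (v⁻¹ * k * v), mul_mem hq (hK k k.2)⟩
  have f3 : ∀ k, f (f (f k)) = k := fun k => Subtype.ext (by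
    show q⁻¹ * (v⁻¹ * q * v) * (v⁻¹ * (q⁻¹ * (v⁻¹ * q * v) * (v⁻¹ * (q⁻¹ * (v⁻¹ * q * v) * (v⁻¹ * k * v)) * v)) * v) = k
    calc _ = q⁻¹ * ((v ^ 3)⁻¹ * (q * k) * v ^ 3) := by
          simp only [pow_succ, pow_zero, one_mul, mul_inv_rev, mul_assoc, mul_inv_cancel_left]
      _ = k := by rw [hv]; group)
  let σ : Equiv.Perm K := ⟨f, fun k => f (f k), f3, f3⟩
  obtain ⟨n, hn⟩ := IsPGroup.iff_card.1 h2
  have : Fact (Nat.Prime 3) := ⟨Nat.prime_three⟩
  obtain ⟨k, hk⟩ := Equiv.Perm.exists_fixed_point_of_prime (p := 3) (n := 1) (σ := σ) (by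
    rw [← Nat.card_eq_fintype_card, hn]
    exact fun t => absurd (Nat.prime_three.dvd_of_dvd_pow t) (by norm_num)) (Equiv.ext f3)
  have e : q⁻¹ * (v⁻¹ * q * v) * (v⁻¹ * k * v) = k := congrArg Subtype.val hk
  refine ⟨k, k.2, ?_⟩
  conv_lhs => rw [← e]
  group

/-- the conjugate of a subgroup -/
def Cj (K : Subgroup G) (g : G) : Subgroup G := K.comap (MulAut.conj g).symm.toMonoidHom

theorem mem_Cj {K : Subgroup G} {g q : G} : q ∈ Cj K g ↔ g⁻¹ * q * g ∈ K := Iff.rfl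

/-! ### idempotents -/

theorem rank_one {e x : Module.End ℂ Vs} (he : e * e = e) (h1 : trc e = 1) (hc : e * x = x * e) : ∃ l : ℂ, e * x = l • e := by
  have hr : Module.finrank ℂ (LinearMap.range e) = 1 := by
    have := idem_rank he
    rw [h1] at this
    exact_mod_cast this.symm
  obtain ⟨⟨_, u, rfl⟩, -, hu⟩ := finrank_eq_one_iff'.1 hr
  obtain ⟨l, hl⟩ := hu ⟨e (x (e u)), _, rfl⟩
  refine ⟨l, LinearMap.ext fun y => ?_⟩
  obtain ⟨k, hk⟩ := hu ⟨e y, y, rfl⟩
  have hl' : l • e u = e (x (e u)) := congrArg Subtype.val hl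
  have hk' : k • e u = e y := congrArg Subtype.val hk
  have : e * x = e * x * e := by rw [mul_assoc, ← hc, ← mul_assoc, he]
  rw [this]
  show e (x (e y)) = l • e y
  rw [← hk', map_smul, map_smul, ← hl', smul_comm]

variable (L : Lx G)

/-- real traces -/
def Rl (x : Module.End ℂ Vs) : Prop := ∀ g, ∃ r : ℝ, trc (x * L.ρ g) = r

/-- the elements which fix `e` -/
def Fx (e : Module.End ℂ Vs) : Subgroup G where
  carrier := {q | e * L.ρ q = e}
  one_mem' := by simp
  mul_mem' := fun {p q} (hp : _ = _) (hq : _ = _) => show _ = _ by rw [map_mul, ← mul_assoc, hp, hq]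
  inv_mem' := fun {p} (hp : _ = _) => show _ = _ by
    conv_lhs => rw [← hp]
    rw [mul_assoc, ← map_mul, mul_inv_cancel, map_one, mul_one]

/-- the idempotents of a four-group -/
noncomputable def Y (s : ℝ) (x y : G) : Module.End ℂ Vs :=
  (1 / 4 : ℂ) • (1 + L.ρ x + (s : ℂ) • L.ρ y + (s : ℂ) • L.ρ (x * y))

/-- conjugation -/
noncomputable def cj (g : G) (x : Module.End ℂ Vs) : Module.End ℂ Vs := L.ρ g * x * L.ρ g⁻¹

variable {L}

theorem mem_Fx {e : Module.End ℂ Vs} {q : G} : q ∈ Fx L e ↔ e * L.ρ q = e := Iff.rfl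

theorem sgn [Finite G] {e : Module.End ℂ Vs} {q : G} (he : e * e = e) (h1 : trc e = 1) (hr : Rl L e)
    (hc : e * L.ρ q = L.ρ q * e) : e * L.ρ q = e ∨ e * L.ρ q = -e := by
  obtain ⟨l, hl⟩ := rank_one he h1 hc
  obtain ⟨r, hr⟩ := hr q
  rw [hl, map_smul, h1, smul_eq_mul, mul_one] at hr
  subst hr
  have hp : ∀ n : ℕ, e * L.ρ (q ^ n) = ((r : ℂ) ^ n) • e := by
    intro n
    induction n with
    | zero => simp
    | succ n ih => rw [pow_succ, map_mul, ← mul_assoc, ih, smul_mul_assoc, hl, smul_smul, pow_succ]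
  have h2 := congrArg trc (hp (orderOf q))
  rw [pow_orderOf_eq_one, map_one, mul_one, map_smul, h1, smul_eq_mul, mul_one] at h2
  have h3 : r ^ orderOf q = 1 := by exact_mod_cast h2.symm
  rcases (pow_eq_one_iff_of_ne_zero (orderOf_pos q).ne').1 h3 with h | h
  · left
    rw [hl, h, Complex.ofReal_one, one_smul]
  · right
    rw [hl, h.1, Complex.ofReal_neg, Complex.ofReal_one, neg_one_smul]

theorem two_out {e : Module.End ℂ Vs} {p q : G} (hp : e * L.ρ p = -e) (hq : e * L.ρ q = -e) : p⁻¹ * q ∈ Fx L e := by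
  have : e * L.ρ p⁻¹ = -e := by
    rw [← neg_eq_iff_eq_neg, ← neg_mul, ← hp, mul_assoc, ← map_mul, mul_inv_cancel, map_one, mul_one]
  rw [mem_Fx, map_mul, ← mul_assoc, this, neg_mul, hq, neg_neg]

theorem tr_Y (z : Module.End ℂ Vs) (s : ℝ) (x y g : G) : trc (z * Y L s x y * L.ρ g) =
    1 / 4 * (trc (z * L.ρ g) + trc (z * L.ρ (x * g)) + s * trc (z * L.ρ (y * g)) + s * trc (z * L.ρ (x * y * g))) := by
  simp only [Y, mul_smul_comm, smul_mul_assoc, mul_add, add_mul, map_smul, map_add, smul_eq_mul, map_mul, mul_assoc, one_mul]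

theorem rl_one (o : Ok L) : Rl L 1 := fun g => ⟨L.tr g, by rw [one_mul, o.trace, Complex.ofReal_intCast]⟩

theorem rl_Y {z : Module.End ℂ Vs} (h : Rl L z) (s : ℝ) (x y : G) : Rl L (z * Y L s x y) := fun g => by
  obtain ⟨r1, h1⟩ := h g
  obtain ⟨r2, h2⟩ := h (x * g)
  obtain ⟨r3, h3⟩ := h (y * g)
  obtain ⟨r4, h4⟩ := h (x * y * g)
  exact ⟨1 / 4 * (r1 + r2 + s * r3 + s * r4), by rw [tr_Y, h1, h2, h3, h4]; push_cast; rfl⟩

theorem Y_idem {s : ℝ} (hs : s = 1 ∨ s = -1) {x y : G} (hx : x * x = 1) (hy : y * y = 1) (h : x * y = y * x) :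
    Y L s x y * Y L s x y = Y L s x y := by
  have e1 : L.ρ x * L.ρ x = 1 := by rw [← map_mul, hx, map_one]
  have e2 : L.ρ y * L.ρ y = 1 := by rw [← map_mul, hy, map_one]
  have e3 : L.ρ y * L.ρ x = L.ρ x * L.ρ y := by rw [← map_mul, ← h, map_mul]
  have e4 : ∀ t, L.ρ x * (L.ρ x * t) = t := fun t => by rw [← mul_assoc, e1, one_mul]
  have e5 : ∀ t, L.ρ y * (L.ρ x * t) = L.ρ x * (L.ρ y * t) := fun t => by rw [← mul_assoc, e3, mul_assoc]
  simp only [Y, map_mul, mul_add, add_mul, smul_mul_assoc, mul_smul_comm, mul_assoc, one_mul, mul_one, e1, e2, e3, e4, e5]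
  rcases hs with rfl | rfl <;> push_cast <;> module

theorem Y_comm {z : Module.End ℂ Vs} (s : ℝ) {x y : G} (hx : Commute (L.ρ x) z) (hy : Commute (L.ρ y) z) :
    Commute (Y L s x y) z :=
  ((((Commute.one_left z).add_left hx).add_left (hy.smul_left _)).add_left
    ((show Commute (L.ρ (x * y)) z by rw [map_mul]; exact hx.mul_left hy).smul_left _)).smul_left _

theorem cj_mul (g : G) (x y : Module.End ℂ Vs) : cj L g (x * y) = cj L g x * cj L g y := by
  simp only [cj, mul_assoc]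
  rw [← mul_assoc (L.ρ g⁻¹), ← map_mul, inv_mul_cancel, map_one, one_mul]

theorem cj_cj (g k : G) (x : Module.End ℂ Vs) : cj L (g * k) x = cj L g (cj L k x) := by
  simp only [cj, mul_inv_rev, map_mul, mul_assoc]

theorem cj_rho (g q : G) (x : Module.End ℂ Vs) : cj L g x * L.ρ q = cj L g (x * L.ρ (g⁻¹ * q * g)) := by
  simp only [cj, mul_assoc, ← map_mul, mul_inv_cancel, mul_one]

theorem tr_cj (g : G) (x : Module.End ℂ Vs) : trc (cj L g x) = trc x := by
  rw [cj, LinearMap.trace_mul_comm, ← mul_assoc, ← map_mul, inv_mul_cancel, map_one, one_mul]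

theorem cj_Y (g : G) (s : ℝ) (x y : G) : cj L g (Y L s x y) = Y L s (g * x * g⁻¹) (g * y * g⁻¹) := by
  simp only [cj, Y, conj_mul, mul_smul_comm, smul_mul_assoc, mul_add, add_mul, mul_one, ← map_mul, mul_inv_cancel, map_one]

theorem fx_cj {g q : G} {e : Module.End ℂ Vs} (h : g⁻¹ * q * g ∈ Fx L e) : q ∈ Fx L (cj L g e) := by
  rw [mem_Fx, cj_rho, mem_Fx.1 h]

theorem cj_fix {g : G} {e : Module.End ℂ Vs} (h : cj L g e = e) (q : G) :
    e * L.ρ (g⁻¹ * q * g) = L.ρ g⁻¹ * (e * L.ρ q) * L.ρ g := by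
  conv_rhs => rw [← h]
  simp only [cj, ← mul_assoc, ← map_mul, inv_mul_cancel, map_one, one_mul]
  simp only [mul_assoc, ← map_mul]

/-! ### the two four-groups -/

variable {H A Q : Subgroup G} {D0 D : Set G} {v w a b c d : G}

theorem swap (o : Ok L) {E : Subgroup G} (f : Ff L A E v w a b c d) : Ff L A E w v c d a b :=
  ⟨f.wA, f.vA, f.ow, f.ov, f.vw.symm, f.cE, f.dE, f.aE, f.bE, f.wc, f.wd, f.wa, f.wb, f.vc, f.vd, f.va, f.vb, f.tc, f.ta,
    by rw [o.tr_comm, f.tac]⟩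

section

variable (h : St L H A Q D0 D) (f : Ff L A (L.U D) v w a b c d)
include h f

theorem bab : b * (a * b) = a := by rw [← mul_assoc, ← h.U_comm f.aE f.bE, mul_assoc, h.U_sq f.bE, mul_one]

theorem aba : a * b * a = b := by rw [mul_assoc, ← h.U_comm f.aE f.bE, ← mul_assoc, h.U_sq f.aE, one_mul]

theorem cjw0 : cj L w (Y L 1 a b) = Y L 1 a b := by
  rw [cj_Y, f.wa, f.wb]
  simp only [Y, bab h f]
  push_cast
  module

omit h in
theorem cjw1 : cj L w (Y L (-1) a b) = Y L (-1) b (a * b) := by rw [cj_Y, f.wa, f.wb]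

theorem cjw2 : cj L (w * w) (Y L (-1) a b) = Y L (-1) (a * b) a := by
  rw [cj_cj, cjw1 f, cj_Y, ← conj_mul, f.wa, f.wb, bab h f]

omit h in
theorem cjv (s : ℝ) : cj L v (Y L s a b) = Y L s a b := by rw [cj_Y, f.va, f.vb]

theorem d1 : 1 - L.ρ b = (2 : ℂ) • (Y L (-1) a b + cj L (w * w) (Y L (-1) a b)) := by
  rw [cjw2 h f]
  simp only [Y, aba h f]
  push_cast
  module

theorem d2 : 1 - Y L 1 a b = Y L (-1) a b + cj L w (Y L (-1) a b) + cj L (w * w) (Y L (-1) a b) := by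
  rw [cjw1 f, cjw2 h f]
  simp only [Y, aba h f, bab h f]
  push_cast
  module

theorem trw {z : G} (hz : w * z * w⁻¹ = z) : L.tr (b * z) = L.tr (a * z) ∧ L.tr (a * b * z) = L.tr (a * z) := by
  have e1 : L.tr (b * z) = L.tr (a * z) := by rw [← h.ok.tr_conj w (a * z), ← conj_mul, f.wa, hz]
  exact ⟨e1, by rw [← e1, ← h.ok.tr_conj w (b * z), ← conj_mul, f.wb, hz]⟩

theorem tr_YY (s t : ℝ) : trc (Y L s a b * Y L t c d) = 3 + 2 * s + 2 * t + 2 * s * t := by
  have e1 : ∀ z, w * z * w⁻¹ = z → trc (Y L s a b * L.ρ z) = 1 / 4 * (L.tr z + (1 + 2 * s) * L.tr (a * z)) := fun z hz => by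
    have := tr_Y (L := L) 1 s a b z
    simp only [one_mul, h.ok.trace, (trw h f hz).1, (trw h f hz).2] at this
    rw [this]
    ring
  have g := swap h.ok f
  have e2 := trw h g (z := 1) (by simp)
  have e3 := trw h g f.va
  simp only [mul_one, f.tc, h.ok.tr_comm _ a, f.tac] at e2 e3
  have := tr_Y (L := L) (Y L s a b) t c d 1
  simp only [mul_one, map_one] at this
  have e0 := e1 1 (by simp)
  rw [map_one, mul_one, mul_one] at e0
  rw [this, e0, e1 c f.wc, e1 d f.wd, e1 (c * d) (by rw [← conj_mul, f.wc, f.wd]), h.ok.tr_one, f.ta, f.tc, f.tac, e2.1, e2.2,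
    e3.1, e3.2]
  push_cast
  ring

theorem comm_Q (s : ℝ) {q : G} (hq : q ∈ Q) : Commute (Y L s a b) (L.ρ q) :=
  Y_comm s ((show Commute a q from (h.U_cen f.aE hq).symm).map L.ρ) ((show Commute b q from (h.U_cen f.bE hq).symm).map L.ρ)

theorem comm_YY (s t : ℝ) : Commute (Y L s a b) (Y L t c d) :=
  (Y_comm t (comm_Q h f s (h.U_le f.cE)).symm (comm_Q h f s (h.U_le f.dE)).symm).symm

theorem YY_idem {s t : ℝ} (hs : s = 1 ∨ s = -1) (ht : t = 1 ∨ t = -1) :
    Y L s a b * Y L t c d * (Y L s a b * Y L t c d) = Y L s a b * Y L t c d :=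
  IsIdempotentElem.mul_of_commute (comm_YY h f s t) (Y_idem hs (h.U_sq f.aE) (h.U_sq f.bE) (h.U_comm f.aE f.bE))
    (Y_idem ht (h.U_sq f.cE) (h.U_sq f.dE) (h.U_comm f.cE f.dE))

theorem tr_m {t : ℝ} : trc (Y L (-1) a b * Y L t c d) = 1 := by
  rw [tr_YY h f]
  push_cast
  ring

theorem sg [Finite G] {t : ℝ} (ht : t = 1 ∨ t = -1) {q : G} (hq : q ∈ Q) :
    Y L (-1) a b * Y L t c d * L.ρ q = Y L (-1) a b * Y L t c d ∨
      Y L (-1) a b * Y L t c d * L.ρ q = -(Y L (-1) a b * Y L t c d) :=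
  sgn (YY_idem h f (Or.inr rfl) ht) (tr_m h f)
    (rl_Y (by simpa only [one_mul] using rl_Y (rl_one h.ok) (-1) a b) t c d)
    ((comm_Q h f _ hq).mul_left (comm_Q h (swap h.ok f) _ hq))

/-- at most two elements of `Q` fix everything outside the block of dimension nine -/
theorem small [Finite G] {K : Subgroup G} (hK : K ≤ Q) (h1 : K ≤ Fx L (1 - Y L 1 a b * Y L 1 c d)) : Nat.card K ≤ 2 := by
  classical
  have := Fintype.ofFinite G
  by_contra hc
  obtain ⟨n, hn⟩ := IsPGroup.iff_card.1 (h.co.two.to_le hK)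
  have h4 : 2 ^ 2 ∣ Nat.card K := by
    rw [hn] at hc ⊢
    refine pow_dvd_pow 2 (not_lt.1 fun t => hc ?_)
    interval_cases n <;> norm_num
  obtain ⟨K1, hK1⟩ := Sylow.exists_subgroup_card_pow_prime 2 h4
  have c4 : Nat.card (K1.map K.subtype) = 4 := by rw [card_subtype, hK1]; rfl
  have l4 : K1.map K.subtype ≤ K := map_subtype_le K1
  generalize K1.map K.subtype = S at c4 l4
  set e := Y L 1 a b * Y L 1 c d with he
  have te : trc e = 9 := by
    rw [he, tr_YY h f]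
    push_cast
    ring
  have cm : Commute e (Np.av L S) :=
    (Commute.sum_right _ _ _ fun q hq => (comm_Q h f _ (hK (l4 (Finset.mem_filter.1 hq).2))).mul_left
      (comm_Q h (swap h.ok f) _ (hK (l4 (Finset.mem_filter.1 hq).2)))).smul_right _
  obtain ⟨k, hk⟩ := idem_nat (IsIdempotentElem.mul_of_commute cm (YY_idem h f (Or.inl rfl) (Or.inl rfl)) (Np.av_av L S))
  have e1 : (1 - e) * Np.av L S = 1 - e := by
    rw [Np.av, mul_smul_comm, Finset.mul_sum, Finset.sum_congr rfl fun q hq => mem_Fx.1 (h1 (l4 (Finset.mem_filter.1 hq).2)),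
      Finset.sum_const, Np.card_eq, ← Nat.cast_smul_eq_nsmul ℂ, smul_smul, inv_mul_cancel₀ (Np.card_ne S), one_smul]
  have e2 := congrArg trc e1
  rw [sub_mul, one_mul, map_sub, map_sub, hk, te, ← map_one L.ρ, h.ok.trace, h.ok.tr_one, Np.av, map_smul, map_sum, c4,
    Finset.sum_congr rfl fun q _ => h.ok.trace q, smul_eq_mul, ← Int.cast_sum] at e2
  have e3 : ∑ q ∈ Finset.univ.filter (· ∈ S), L.tr q = 60 + 4 * k := by
    have : ((∑ q ∈ Finset.univ.filter (· ∈ S), L.tr q : ℤ) : ℂ) = 60 + 4 * k := by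
      push_cast at e2 ⊢
      linear_combination 4 * e2
    exact_mod_cast this
  have e4 : ∑ q ∈ Finset.univ.filter (· ∈ S), L.tr q ≤ ∑ q ∈ Finset.univ.filter (· ∈ S), (8 + if q = 1 then 16 else 0 : ℤ) := by
    refine Finset.sum_le_sum fun q hq => ?_
    have hq := (Finset.mem_filter.1 hq).2
    split_ifs with t
    · rw [t, h.ok.tr_one]
      norm_num
    by_cases t2 : q * q = 1
    · rcases h.ok.inv q t2 with k | k | k | k | k
      · exact absurd k t
      · rw [k, h.ok.tr_m]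
        norm_num
      all_goals omega
    · have := h.cx.o5 q (h.co.le (hK (l4 hq))) (orderOf_eq_prime_pow (p := 2) (n := 1) (by rwa [pow_one, pow_two]) (by
        have := congrArg Subtype.val (pow_card_eq_one' (x := (⟨q, hq⟩ : S)))
        rwa [c4] at this))
      omega
  rw [Finset.sum_add_distrib, Finset.sum_const, Np.card_eq, c4, Finset.sum_ite_eq', e3] at e4
  split_ifs at e4 <;> simp only [nsmul_eq_mul] at e4 <;> omega

end

section

variable [Finite G] (h : St L H A Q D0 D) (n : Np L A Q D) (f : Ff L A (L.U D) v w a b c d)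
include h n f

omit [Finite G] in
theorem exp_two {q : G} (hq : q ∈ Q) (hc : v * q = q * v) : q * q = 1 := by
  obtain ⟨k, hk⟩ := h.co.two ⟨q, hq⟩
  replace hk : q ^ 2 ^ k = 1 := congrArg Subtype.val hk
  induction k generalizing q with
  | zero => rw [pow_zero, pow_one] at hk; rw [hk, mul_one]
  | succ k ih =>
    have := ih (mul_mem hq hq) ((show Commute v q from hc).mul_right hc) (by rw [← pow_two, ← pow_mul, ← pow_succ', hk])
    by_contra t
    refine h.cx.o3 v f.vA (f.ov ▸ Nat.prime_three) (by rw [f.ov]; norm_num) (by have := n.t3 v f.vA f.ov; omega) q (h.co.le hq) hc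
      (orderOf_eq_prime_pow (p := 2) (n := 1) (by rwa [pow_one, pow_two]) ?_)
    rw [← this, ← pow_two q, ← pow_add]
    rfl

omit [Finite G] in
theorem tr_mod {q : G} (hq : q ∈ Q) (hc : v * q = q * v) : L.tr q % 16 = 8 := by
  have e := exp_two h n f hq hc
  have := h.cx.o2 v f.vA (f.ov ▸ Nat.prime_three) (by rw [f.ov]; norm_num) q (h.co.le hq) e hc
  rcases h.ok.inv q e with k | k | k | k | k
  · rw [k, h.ok.tr_one]; rfl
  · rw [k, h.ok.tr_m]; rfl
  all_goals omega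

theorem half {N : Subgroup G} (hQ : N ≤ Q) (hv : ∀ q ∈ N, v⁻¹ * q * v ∈ N) (hw : ∀ q ∈ N, w⁻¹ * q * w ∈ N)
    (he : N ≤ Fx L (Y L (-1) a b * Y L (-1) c d)) : N ≤ Fx L (1 - Y L 1 a b) := by
  have g := swap h.ok f
  have two : ∀ x : G, (∀ q ∈ N, x⁻¹ * q * x ∈ N) → ∀ q ∈ N, (x * x)⁻¹ * q * (x * x) ∈ N := fun x hx q hq => by
    simpa only [mul_inv_rev, mul_assoc] using hx _ (hx q hq)
  have e1 : Y L (-1) a b = Y L (-1) a b * Y L 1 c d + (Y L (-1) a b * Y L (-1) c d + cj L v (Y L (-1) a b * Y L (-1) c d) +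
      cj L (v * v) (Y L (-1) a b * Y L (-1) c d)) := by
    rw [cj_mul, cj_mul, cj_cj v v (Y L (-1) a b), cjv f, cjv f, ← mul_add, ← mul_add, ← d2 h g, ← mul_add, add_sub_cancel,
      mul_one]
  have e2 : ∀ q ∈ N, Y L (-1) a b * L.ρ q = Y L (-1) a b * Y L 1 c d * L.ρ q + (Y L (-1) a b * Y L (-1) c d +
      cj L v (Y L (-1) a b * Y L (-1) c d) + cj L (v * v) (Y L (-1) a b * Y L (-1) c d)) := fun q hq => by
    conv_lhs => rw [e1]
    rw [add_mul, add_mul, add_mul, mem_Fx.1 (he hq), mem_Fx.1 (fx_cj (he (hv q hq))), mem_Fx.1 (fx_cj (he (two v hv q hq)))]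
  have e3 : ∀ q ∈ N, trc (Y L (-1) a b * L.ρ q) = trc (Y L (-1) a b * Y L 1 c d * L.ρ q) + 3 := fun q hq => by
    rw [e2 q hq, map_add, map_add, map_add, tr_cj, tr_cj, tr_m h f]
    ring
  have e4 : ∀ q ∈ N, v * q = q * v → q ∈ Fx L (Y L (-1) a b * Y L 1 c d) := fun q hq hc => by
    refine (sg h f (Or.inl rfl) (hQ hq)).resolve_right fun t => ?_
    have t1 := tr_mod h n f (hQ hq) hc
    have t2 := tr_mod h n f (mul_mem (h.U_le f.bE) (hQ hq))
      ((show Commute v b from mul_inv_eq_iff_eq_mul.1 f.vb).mul_right hc)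
    have t3 := congrArg (fun x => trc (x * L.ρ q)) (d1 h f)
    simp only [sub_mul, one_mul, ← map_mul, map_sub, h.ok.trace, smul_mul_assoc, add_mul, map_smul, map_add, cj_rho, tr_cj,
      smul_eq_mul] at t3
    rw [e3 q hq, e3 _ (two w hw q hq), t, map_neg, tr_m h f] at t3
    rcases sg h f (Or.inl rfl) (hQ (two w hw q hq)) with k | k
    · rw [k, tr_m h f] at t3
      have : L.tr q - L.tr (b * q) = 2 * (-1 + 3 + (1 + 3)) := by exact_mod_cast t3
      omega
    · rw [k, map_neg, tr_m h f] at t3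
      have : L.tr q - L.tr (b * q) = 2 * (-1 + 3 + (-1 + 3)) := by exact_mod_cast t3
      omega
  have e5 : cj L v (Y L (-1) a b * Y L 1 c d) = Y L (-1) a b * Y L 1 c d := by rw [cj_mul, cjv f, cjw0 h g]
  have e6 := cj_fix e5 1
  rw [mul_one, inv_mul_cancel, map_one, mul_one] at e6
  have e7 : N ≤ Fx L (Y L (-1) a b * Y L 1 c d) := fun q hq => by
    refine (sg h f (Or.inl rfl) (hQ hq)).elim id fun t => ?_
    obtain ⟨k, hk, hc⟩ := coset_fix (K := N ⊓ Fx L (Y L (-1) a b * Y L 1 c d)) (v := v) (q := q)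
      (h.co.two.to_le (inf_le_left.trans hQ)) (f.ov ▸ pow_orderOf_eq_one v)
      (fun k hk => ⟨hv k hk.1, mem_Fx.2 (by rw [cj_fix e5, mem_Fx.1 hk.2, ← e6])⟩)
      ⟨N.mul_mem (N.inv_mem hq) (hv q hq), two_out t (by rw [cj_fix e5, t, mul_neg, neg_mul, ← e6])⟩
    exact (Subgroup.mul_mem_cancel_right _ hk.2).1 (e4 _ (mul_mem hq hk.1) hc)
  have e8 : N ≤ Fx L (Y L (-1) a b) := fun q hq => by rw [mem_Fx, e2 q hq, mem_Fx.1 (e7 hq), ← e1]
  intro q hq
  rw [mem_Fx, d2 h f, add_mul, add_mul, mem_Fx.1 (e8 hq), mem_Fx.1 (fx_cj (e8 (hw q hq))),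
    mem_Fx.1 (fx_cj (e8 (two w hw q hq)))]

theorem nine {N : Subgroup G} (hQ : N ≤ Q) (hv : ∀ q ∈ N, v⁻¹ * q * v ∈ N) (hw : ∀ q ∈ N, w⁻¹ * q * w ∈ N)
    (he : N ≤ Fx L (Y L (-1) a b * Y L (-1) c d)) : Nat.card N ≤ 2 := by
  have h1 := half h n f hQ hv hw he
  have h2 := half h n (swap h.ok f) hQ hw hv (by rwa [← (comm_YY h f _ _).eq])
  refine small h f hQ fun q hq => ?_
  have e : 1 - Y L 1 a b * Y L 1 c d = 1 - Y L 1 a b + Y L 1 a b * (1 - Y L 1 c d) := by noncomm_ring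
  rw [mem_Fx, e, add_mul, mul_assoc, mem_Fx.1 (h1 hq), mem_Fx.1 (h2 hq)]

omit n in
theorem idx {g : G} (hg : g ∈ A) {P : Subgroup G} (hP : P ≤ Q) :
    (Cj (Fx L (Y L (-1) a b * Y L (-1) c d)) g).relIndex P ≤ 2 := by
  refine relIndex_le_two _ _ fun p hp q hq h1 h2 => ?_
  have k : ∀ x ∈ P, g⁻¹ * x * g ∈ Q := fun x hx => by simpa only [inv_inv] using h.co.nrm _ (inv_mem hg) x (hP hx)
  have := two_out ((sg h f (Or.inr rfl) (k p hp)).resolve_left h1) ((sg h f (Or.inr rfl) (k q hq)).resolve_left h2)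
  rw [mem_Cj]
  convert this using 1
  group

end

end Q

open Q

/-- the order of `Q` -/
theorem boxQ (_hD : BoxDiag) : BoxQ := by
  intro G _ _ L H A Q D0 D h n v w a b c d f
  have nv : ∀ x ∈ A, ∀ q ∈ Q, x⁻¹ * q * x ∈ Q := fun x hx q hq => by
    simpa only [inv_inv] using h.co.nrm _ (inv_mem hx) q hq
  constructor
  · let F : Fin 3 × Fin 3 → Subgroup G := fun p => Cj (Fx L (Y L (-1) a b * Y L (-1) c d)) (v ^ p.1.1 * w ^ p.2.1)
    have mF : ∀ q, q ∈ ⨅ p, F p ↔
        ∀ i j : ℕ, (v ^ i * w ^ j)⁻¹ * q * (v ^ i * w ^ j) ∈ Fx L (Y L (-1) a b * Y L (-1) c d) := fun q => by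
      rw [mem_iInf]
      refine ⟨fun k i j => ?_, fun k p => k p.1 p.2⟩
      rw [← pow_mod_orderOf v, ← pow_mod_orderOf w, f.ov, f.ow]
      exact k (⟨i % 3, Nat.mod_lt _ three_pos⟩, ⟨j % 3, Nat.mod_lt _ three_pos⟩)
    have h1 : Nat.card ↥((⨅ p, F p) ⊓ Q) ≤ 2 := by
      refine nine h n f inf_le_right (fun q hq => ⟨(mF _).2 fun i j => ?_, nv v f.vA q hq.2⟩)
        (fun q hq => ⟨(mF _).2 fun i j => ?_, nv w f.wA q hq.2⟩) fun q hq => ?_
      · simpa only [pow_succ', mul_inv_rev, mul_assoc] using (mF q).1 hq.1 (i + 1) j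
      · have := (mF q).1 hq.1 i (j + 1)
        rw [pow_succ', ← mul_assoc (v ^ i), ((show Commute v w from f.vw).pow_left i).eq] at this
        simpa only [mul_inv_rev, mul_assoc] using this
      · simpa only [pow_zero, mul_one, inv_one, one_mul] using (mF q).1 hq.1 0 0
    have h2 : (⨅ p, F p).relIndex Q ≤ 2 ^ 9 := (relIndex_iInf_le F).trans (by
      refine (Finset.prod_le_pow_card _ _ 2 fun p _ => idx h f (mul_mem (pow_mem f.vA _) (pow_mem f.wA _)) le_rfl).trans ?_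
      rw [Finset.card_univ, Fintype.card_prod, Fintype.card_fin])
    rw [card_eq_mul (⨅ p, F p) Q]
    exact (Nat.mul_le_mul h1 h2).trans (by norm_num)
  · have fx : ∀ x, x ∈ ({v, w} : Set G) → ∀ q ∈ centralizer ({v, w} : Set G), x⁻¹ * q * x = q := fun x hx q hq => by
      rw [mul_assoc, ← mem_centralizer_iff.1 hq x hx, inv_mul_cancel_left]
    rw [card_eq_mul (Cj (Fx L (Y L (-1) a b * Y L (-1) c d)) 1) (Q ⊓ centralizer {v, w})]
    refine (Nat.mul_le_mul (nine h n f (inf_le_right.trans inf_le_left) (fun q hq => ?_) (fun q hq => ?_) fun q hq => ?_)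
      (idx h f (one_mem A) inf_le_left)).trans (by norm_num)
    · rwa [fx v (by simp) q hq.2.2]
    · rwa [fx w (by simp) q hq.2.2]
    · simpa only [inv_one, one_mul, mul_one] using mem_Cj.1 hq.1

end Cfsg.Agent.N2.Co2L
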