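import Cfsg.Agent.N2.Co2L.Defs

/-!
# N2 (S3519), the 2-local case of Co1 and Co2: the boxes `Rad` and `Cnt` (helper76)
-/

set_option autoImplicit false

namespace Cfsg.Agent.N2.Co2L

open Cfsg Subgroup

namespace Rad

variable {G : Type} [Group G]

/-- fibres which inject into a coset -/
theorem card_le {X Y : Type} [Finite G] [Finite Y] (A : Subgroup G) (f : X → Y) (γ : X → G)
    (h1 : ∀ x x', f x = f x' → (γ x)⁻¹ * γ x' ∈ A) (h2 : ∀ x x', f x = f x' → γ x = γ x' → x = x') :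
    Nat.card X ≤ Nat.card Y * Nat.card A := by
  rw [← Nat.card_prod]
  refine Nat.card_le_card_of_injective
    (fun x => (f x, (⟨(Quotient.out (QuotientGroup.mk (γ x) : G ⧸ A))⁻¹ * γ x,
      QuotientGroup.eq.1 (QuotientGroup.out_eq' _)⟩ : A))) fun x x' k => ?_
  have k1 : f x = f x' := congrArg Prod.fst k
  have k2 := congrArg (fun p : Y × A => (p.2 : G)) k
  have k3 : (QuotientGroup.mk (γ x) : G ⧸ A) = QuotientGroup.mk (γ x') := QuotientGroup.eq.2 (h1 x x' k1)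
  dsimp only at k2
  rw [k3] at k2
  exact h2 x x' k1 (mul_left_cancel k2)

variable {L : Lx G}

/-- the sextet group is equivariant -/
theorem W_conj (o : Ok L) {s t u : G} (hu : u ∈ L.W s t) (g : G) : g * u * g⁻¹ ∈ L.W (g * s * g⁻¹) (g * t * g⁻¹) := by
  induction hu using closure_induction with
  | mem x hx =>
    refine subset_closure ?_
    rcases hx with (rfl | rfl | rfl) | hx
    · exact Or.inl (Or.inl (o.conj_m g))
    · exact Or.inl (Or.inr (Or.inl rfl))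
    · exact Or.inl (Or.inr (Or.inr rfl))
    · exact Or.inr ⟨o.pp_conj hx.1 g, o.pp_conj hx.2 g⟩
  | one => rw [mul_one, mul_inv_cancel]; exact one_mem _
  | mul x y _ _ ix iy => rw [← conj_mul]; exact mul_mem ix iy
  | inv x _ ix => rw [← conj_inv]; exact inv_mem ix

/-- three mutually perpendicular involutions have product `m` -/
theorem trio (o : Ok L) {s t y : G} (h1 : L.Pp s t) (h2 : L.Pp s y) (h3 : L.Pp t y) : y = L.m * (s * t) := by
  have e1 := o.pp_mul h1.symm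
  have e2 := o.pp_mul h2.symm
  have e3 := o.pp_mul h3.symm
  rw [mul_sub, mul_one, sub_eq_iff_eq_add, ← sub_eq_iff_eq_add'] at e1 e2 e3
  have e4 : L.ρ (s * t * y) = L.ρ s + L.ρ t + L.ρ y - L.ρ 1 - L.ρ 1 := by
    rw [map_mul, map_mul, map_one, ← e1, sub_mul, sub_mul, one_mul, ← e2, ← e3]
    abel
  have e5 := o.trace (s * t * y)
  rw [e4, map_sub, map_sub, map_add, map_add, o.trace, o.trace, o.trace, o.trace, o.tr_one, h1.1.2, h1.2.1.2, h2.2.1.2] at e5
  have e6 : L.tr (s * t * y) = -24 := by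
    have : ((L.tr (s * t * y) : ℤ) : ℂ) = ((-24 : ℤ) : ℂ) := by rw [← e5]; norm_num
    exact_mod_cast this
  have c1 : Commute s t := h1.2.2.1
  have c2 : Commute s y := h2.2.2.1
  have c3 : Commute t y := h3.2.2.1
  have e7 : s * t * (s * t) = 1 := by rw [← c1.mul_mul_mul_comm, h1.1.1, h1.2.1.1, mul_one]
  have e8 : s * t * y * (s * t * y) = 1 := by rw [← (c2.mul_left c3).mul_mul_mul_comm, e7, h2.2.1.1, mul_one]
  have e9 : s * t * y = L.m := by
    rcases o.inv _ e8 with k | k | k | k | k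
    · rw [k, o.tr_one] at e6; omega
    · exact k
    all_goals omega
  rw [← o.m_comm, ← e9, ← mul_assoc, e7, one_mul]

/-- the third member of a trio -/
theorem pp_third (o : Ok L) {s t : G} (h : L.Pp s t) : L.Pp s (L.m * (s * t)) := by
  have c1 : Commute s t := h.2.2.1
  have c2 : ∀ g, Commute g L.m := o.m_comm
  refine ⟨h.1, ⟨?_, ?_⟩, ((c2 s).mul_right ((Commute.refl s).mul_right c1)).eq, ?_⟩
  · rw [← (c2 _).symm.mul_mul_mul_comm, ← c1.mul_mul_mul_comm, o.m_sq, h.1.1, h.2.1.1, mul_one, mul_one]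
  · rw [o.tr_m_mul, h.2.2.2, neg_neg]
  · rw [← mul_assoc, (c2 s).eq, mul_assoc, ← mul_assoc s, h.1.1, one_mul, o.tr_m_mul, h.2.1.2]

/-- at most 512 perpendicular partners -/
theorem card_pp [Finite G] (o : Ok L) {s : G} (hs : L.I8 s) : Nat.card {y // L.Pp s y} ≤ 512 := by
  have k : Nat.card ({y // L.Pp s y} ⊕ {y // L.Pp s y}) ≤ Nat.card (L.O s) := by
    refine Nat.card_le_card_of_injective (Sum.elim (fun y => ⟨y.1, o.pp_mem y.2⟩)
      fun y => ⟨L.m * y.1, mul_mem (o.m_mem_O s) (o.pp_mem y.2)⟩) ?_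
    have ne : ∀ y y' : {y // L.Pp s y}, y.1 ≠ L.m * y'.1 := fun y y' k => by
      have := y.2.2.1.2
      rw [k, o.tr_m_mul, y'.2.2.1.2] at this
      omega
    rintro (y | y) (y' | y') k <;> have k' := congrArg Subtype.val k
    · exact congrArg _ (Subtype.ext k')
    · exact absurd k' (ne _ _)
    · exact absurd k'.symm (ne _ _)
    · exact congrArg _ (Subtype.ext (mul_left_cancel k'))
  rw [Nat.card_sum, o.card s hs] at k
  omega

variable {H A Q : Subgroup G} {D0 D : Set G}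

/-- an element which maps `D` into `U` lies in `A` -/
theorem mem_A (h : St L H A Q D0 D) {g : G} (hg : g ∈ H) (hn : ∀ u ∈ D, g * u * g⁻¹ ∈ L.U D) : g ∈ A := by
  refine h.norm_U hg fun u hu => ?_
  induction hu using closure_induction with
  | mem x hx => exact hx.elim (fun k => by rw [k, h.ok.conj_m]; exact m_mem_U D) (hn x)
  | one => rw [mul_one, mul_inv_cancel]; exact one_mem _
  | mul x y _ _ ix iy => rw [← conj_mul]; exact mul_mem ix iy
  | inv x _ ix => rw [← conj_inv]; exact inv_mem ix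

/-- the involutions of trace 8 in `U` are not mutually perpendicular -/
theorem not_all [Finite G] (h : St L H A Q D0 D) (hp : ∀ x ∈ L.U D, ∀ y ∈ L.U D, L.I8 x → L.I8 y → x ≠ y → L.Pp x y) :
    False := by
  have o := h.ok
  have c2 : ∀ g, Commute g L.m := o.m_comm
  obtain ⟨s, hs⟩ := h.us.ne
  have s0 := h.us.sub hs
  have s8 := h.cx.d8 s s0
  obtain ⟨a, ha, hne⟩ : ∃ a ∈ A, a * s ≠ s * a := by
    by_contra k
    push Not at k
    exact h.cx.not_cent o (h.cx.mem_H s0) s8 k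
  obtain ⟨t, ht, hst⟩ : ∃ t ∈ D, s ≠ t :=
    ⟨a * s * a⁻¹, h.us.cj a ha s hs, fun k => hne (by rw [eq_mul_inv_iff_mul_eq] at k; exact k.symm)⟩
  have t8 := h.cx.d8 t (h.us.sub ht)
  have pst := hp s (mem_U hs) t (mem_U ht) s8 t8 hst
  have hD : ∀ g ∈ H, g * s = s * g → g * t * g⁻¹ ∈ L.U D → g ∈ A := fun g hg g1 g2 => by
    have g3 : g * s * g⁻¹ ∈ L.U D := by rw [g1, mul_inv_cancel_right]; exact mem_U hs
    refine mem_A h hg fun u hu => ?_
    have u8 := h.cx.d8 u (h.us.sub hu)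
    by_cases k1 : s = u
    · exact k1 ▸ g3
    by_cases k2 : t = u
    · exact k2 ▸ g2
    rw [trio o pst (hp s (mem_U hs) u (mem_U hu) s8 u8 k1) (hp t (mem_U ht) u (mem_U hu) t8 u8 k2), ← conj_mul, ← conj_mul,
      o.conj_m]
    exact mul_mem (m_mem_U D) (mul_mem g3 g2)
  obtain ⟨r, hr, hrt⟩ : ∃ r ∈ L.O s, t * r ≠ r * t := by
    by_contra k
    push Not at k
    rcases o.cent s s8 t k with k | k | k | k
    · exact (o.i8_ne t8).1 k
    · exact (o.i8_ne t8).2 k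
    · exact hst k.symm
    · have := t8.2
      rw [k, o.tr_m_mul, s8.2] at this
      omega
  have rA : r ∈ A := by
    refine hD r (h.cx.dH s s0 hr) hr.1 ?_
    have c3 : Commute r (L.m * s) := (c2 r).mul_right hr.1
    rw [(o.comm s s8 r hr t (o.pp_mem pst)).resolve_left fun k => hrt k.symm, mul_assoc t, c3.eq, ← mul_assoc,
      mul_inv_cancel_right]
    exact mul_mem (mem_U ht) (mul_mem (m_mem_U D) (mem_U hs))
  obtain ⟨C, hC⟩ : ∃ C : Subgroup G, ∀ g, g ∈ C ↔ (g ∈ H ∧ g * s = s * g) ∧ g * t = t * g :=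
    ⟨(H ⊓ centralizer {s}) ⊓ centralizer {t}, fun g => by
      rw [mem_inf, mem_inf, mem_centralizer_singleton_iff, mem_centralizer_singleton_iff]⟩
  have CA : C ≤ A := fun g hg => by
    obtain ⟨⟨g1, g2⟩, g3⟩ := (hC g).1 hg
    exact hD g g1 g2 (by rw [g3, mul_inv_cancel_right]; exact mem_U ht)
  have k1 : 2 * Nat.card C ≤ Nat.card A := by
    obtain ⟨n, hn⟩ := card_dvd_of_le CA
    have p1 : 0 < Nat.card A := Nat.card_pos
    have n1 : n ≠ 1 := fun k => by
      rw [k, mul_one] at hn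
      have := eq_of_le_of_card_ge CA hn.le
      exact hrt ((hC r).1 (this ▸ rA)).2.symm
    have n0 : n ≠ 0 := fun k => by rw [k, mul_zero] at hn; omega
    rw [hn, mul_comm]
    exact Nat.mul_le_mul_left _ (by omega)
  have k2 := card_le (X := ↥(H ⊓ centralizer {s})) (Y := {y // L.Pp s y}) C
    (fun g => ⟨g * t * (g : G)⁻¹, by
      have := o.pp_conj pst g
      rwa [mem_centralizer_singleton_iff.1 g.2.2, mul_inv_cancel_right] at this⟩) (fun g => g)
    (fun g g' k => by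
      have k' : (g : G) * t * (g : G)⁻¹ = g' * t * (g' : G)⁻¹ := congrArg Subtype.val k
      have m := (g⁻¹ * g').2
      refine (hC _).2 ⟨⟨m.1, mem_centralizer_singleton_iff.1 m.2⟩, ?_⟩
      calc (g : G)⁻¹ * g' * t = (g : G)⁻¹ * (g' * t * (g' : G)⁻¹) * g' := by group
        _ = t * ((g : G)⁻¹ * g') := by rw [← k']; group)
    (fun _ _ _ k => Subtype.ext k)
  have k3 := card_pp o s8
  have k4 := h.cx.big2 s s0
  have k5 := Nat.mul_le_mul_right (Nat.card C) k3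
  omega

end Rad

open Rad

/-- the radical is empty -/
theorem boxRad' : BoxRad := by
  intro G _ _ L H A Q D0 D h z hz z8
  have o := h.ok
  by_contra k
  push Not at k
  obtain ⟨a, ha, hne⟩ : ∃ a ∈ A, a * z ≠ z * a := by
    by_contra k
    push Not at k
    exact h.cx.not_cent o (h.U_le_H hz) z8 k
  obtain ⟨w, hw, w8, hzw, kw⟩ : ∃ w ∈ L.U D, L.I8 w ∧ w ≠ z ∧ ∀ y ∈ L.U D, L.I8 y → y ≠ w → L.Pp w y := by
    refine ⟨a * z * a⁻¹, h.U_conj ha hz, o.i8_conj z8 a, fun e => hne (by rwa [mul_inv_eq_iff_eq_mul] at e),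
      fun y hy y8 hn => ?_⟩
    have := o.pp_conj (k _ (h.U_conj (inv_mem ha) hy) (o.i8_conj y8 a⁻¹) fun e => hn (by rw [← e]; group)) a
    rwa [show a * (a⁻¹ * y * a⁻¹⁻¹) * a⁻¹ = y by group] at this
  have p := k w hw w8 hzw
  refine not_all h fun x hx y hy x8 y8 hn => ?_
  by_cases x1 : x = z
  · exact x1 ▸ k y hy y8 fun e => hn (x1.trans e.symm)
  by_cases x2 : x = w
  · exact x2 ▸ kw y hy y8 fun e => hn (x2.trans e.symm)
  by_cases y1 : y = z
  · exact y1 ▸ (k x hx x8 x1).symm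
  by_cases y2 : y = w
  · exact y2 ▸ (kw x hx x8 x2).symm
  exact absurd ((trio o p (k x hx x8 x1) (kw x hx x8 x2)).trans (trio o p (k y hy y8 y1) (kw y hy y8 y2)).symm) hn

theorem boxRad (_hD : BoxDiag) : BoxRad := boxRad'

/-- counting the conjugates of `U` -/
theorem boxCnt : BoxCnt := by
  intro G _ _ L H A Q D0 D h hW
  have o := h.ok
  rw [← Nat.card_prod]
  refine card_le (X := L.Prs (D0 ∩ L.U D) × H) (Y := L.Prs D0) A
    (fun x => ⟨(x.2 * x.1.1.1 * (x.2 : G)⁻¹, x.2 * x.1.1.2 * (x.2 : G)⁻¹), h.cx.dc _ x.1.2.1.1 _ x.2.2,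
      h.cx.dc _ x.1.2.2.1.1 _ x.2.2, o.al_conj x.1.2.2.2 _⟩) (fun x => x.2) ?_ ?_
  · rintro ⟨⟨⟨s, t⟩, h1, h2, h3⟩, g, hg⟩ ⟨⟨⟨s', t'⟩, h1', h2', h3'⟩, g', hg'⟩ k
    have k1 : g * s * g⁻¹ = g' * s' * g'⁻¹ := congrArg (fun p : L.Prs D0 => p.1.1) k
    have k2 : g * t * g⁻¹ = g' * t' * g'⁻¹ := congrArg (fun p : L.Prs D0 => p.1.2) k
    refine h.norm_U (mul_mem (inv_mem hg) hg') fun u hu => ?_
    rw [hW s' h1'.2 t' h2'.2 h1'.1 h3'] at hu
    have := W_conj o hu (g⁻¹ * g')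
    rw [show g⁻¹ * g' * s' * (g⁻¹ * g')⁻¹ = g⁻¹ * (g' * s' * g'⁻¹) * g by group,
      show g⁻¹ * g' * t' * (g⁻¹ * g')⁻¹ = g⁻¹ * (g' * t' * g'⁻¹) * g by group, ← k1, ← k2,
      show g⁻¹ * (g * s * g⁻¹) * g = s by group, show g⁻¹ * (g * t * g⁻¹) * g = t by group] at this
    exact (hW s h1.2 t h2.2 h1.1 h3).ge this
  · rintro ⟨⟨⟨s, t⟩, h1⟩, g, hg⟩ ⟨⟨⟨s', t'⟩, h1'⟩, g', hg'⟩ k e
    obtain rfl : g = g' := e
    have k1 : g * s * g⁻¹ = g * s' * g⁻¹ := congrArg (fun p : L.Prs D0 => p.1.1) k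
    have k2 : g * t * g⁻¹ = g * t' * g⁻¹ := congrArg (fun p : L.Prs D0 => p.1.2) k
    obtain rfl := mul_left_cancel (mul_right_cancel k1)
    obtain rfl := mul_left_cancel (mul_right_cancel k2)
    rfl

end Cfsg.Agent.N2.Co2L
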