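import Cfsg.Agent.N2.Sp1.Fin

/-!
# N2 (S3519): upper bounds for structure constants of involution types (helper48)
-/

set_option autoImplicit false
set_option linter.unusedSectionVars false

namespace Cfsg.Agent.N2.Co2L.SC

open Cfsg Cfsg.Agent.FP3 Cfsg.Agent.N2.Sp Cfsg.Agent.N2.Sp1
open Cfsg.Agent.TAB Cfsg.Agent.TAB.Eng Cfsg.Agent.TAB.Use Cfsg.Agent.TH.Spor Cfsg.Agent.TwoF.SpO
open Subgroup

variable {K : Type} [Group K] [Finite K] {D : Dat} {T : TD K D} {R : Rows}

/-- the structure constant of the types is at most `c` -/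
noncomputable def okSC (D : Dat) (W W' : List (List ℤ)) (a b s c : ℕ) : Bool :=
  frcLZ (SpK.cz D W W' [] (1, [(1, s)])) fun z => frcLZ (accP z (W ++ W') (List.replicate D.n 0)) fun V =>
    allL (fun u => decide (0 ≤ nth V u)) (List.range D.n) &&
      decide (sumP a b z (W ++ W') * (D.cnt a : ℕ) < nth V s * (c + 1 : ℕ))

/-- the check on the rows of the table -/
noncomputable def okP (D : Dat) (R : Rows) (a b s c : ℕ) : Bool :=
  Glue.frcM (irows R) fun W => Glue.frcM (SpK.prows R) fun W' => okSC D W W' a b s c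

theorem sc_le (hm : T.Mass) (hR : Tab T R) (hU : Unif T) (hT : SpK.okT D R = true) {a b s c : ℕ} (ha : D.ord a = 2)
    (hb : D.ord b = 2) (h : okP D R a b s c = true) {y : K} (hy : T.ty y = b) :
    Nat.card {x : K // T.ty x = a ∧ T.ty (x * y) = s} ≤ c := by
  classical
  have := Fintype.ofFinite K
  rcases isEmpty_or_nonempty {x : K // T.ty x = a ∧ T.ty (x * y) = s} with he | ⟨⟨x, hx, hs⟩⟩
  · rw [Nat.card_of_isEmpty]
    exact Nat.zero_le _
  subst hx hy
  rw [okP, Glue.frcM_eq, Glue.frcM_eq, okSC, frcLZ_eq, frcLZ_eq, Bool.and_eq_true, decide_eq_true_eq] at h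
  have H := SpK.rw_of hm hR hT
  generalize SpK.cz D (irows R) (SpK.prows R) [] (1, [(1, s)]) = z at h
  have h3 := SpK.sum_accP' x y z _ (List.replicate D.n 0)
    (List.forall_mem_append.2 ⟨H.a y, H.b y (one_inv hm hU (T.ord y ▸ hb))⟩) List.length_replicate
  have h5 : ∑ a, nth (List.replicate D.n 0) (T.ty (a * x * a⁻¹ * y)) = 0 :=
    Finset.sum_eq_zero fun a _ => by
      rw [nth_eq, List.getD_eq_getElem _ _ (by rw [List.length_replicate]; exact T.lt _), List.getElem_replicate]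
  generalize accP z (irows R ++ SpK.prows R) (List.replicate D.n 0) = V at h h3
  generalize sumP (T.ty x) (T.ty y) z (irows R ++ SpK.prows R) = σ at h h3
  have h0 : ∀ g, 0 ≤ nth V (T.ty g) := fun g => of_decide_eq_true (allL_spec h.1 _ (List.mem_range.2 (T.lt g)))
  rw [h5, zero_add, hm.1, Characters.ClassMul.sum_conj_eq_smul (fun g => nth V (T.ty (g * y))) x, nsmul_eq_mul] at h3
  have h6 : ∑ u with T.ty u = T.ty x ∧ T.ty (u * y) = s, nth V (T.ty (u * y)) ≤ ∑ u with IsConj x u, nth V (T.ty (u * y)) :=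
    Finset.sum_le_sum_of_subset_of_nonneg (fun u hu => Finset.mem_filter.2 ⟨Finset.mem_univ _,
      (one_inv hm hU (T.ord x ▸ ha)).conj hm rfl (Finset.mem_filter.1 hu).2.1⟩) fun a _ _ => h0 _
  rw [Finset.sum_congr rfl (g := fun _ => nth V s) fun u hu => by rw [(Finset.mem_filter.1 hu).2.2], Finset.sum_const,
    nsmul_eq_mul, ← Fintype.card_subtype, ← Nat.card_eq_fintype_card] at h6
  have h8 : ((D.N : ℕ) : ℤ) ≤ _ := Int.ofNat_le.2 (le_cnt hm x)
  have h9 : (0 : ℤ) < D.N := Int.natCast_pos.2 (hm.1 ▸ Nat.card_pos)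
  have h10 : (0 : ℤ) < Nat.card (centralizer ({x} : Set K)) := Int.natCast_pos.2 Nat.card_pos
  have h11 := h0 (x * y)
  rw [hs] at h11
  have h12 := h.2
  generalize Nat.card {u : K // T.ty u = T.ty x ∧ T.ty (u * y) = s} = n at h6 ⊢
  generalize ∑ u with IsConj x u, nth V (T.ty (u * y)) = τ at h3 h6
  have h13 : 0 ≤ τ := (mul_nonneg (Int.natCast_nonneg n) h11).trans h6
  have h14 : 0 ≤ σ := nonneg_of_mul_nonneg_right (h3 ▸ mul_nonneg h10.le h13) h9
  by_contra h15
  have h16 : ((c + 1 : ℕ) : ℤ) ≤ n := Int.ofNat_le.2 (by omega)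
  have h17 := mul_le_mul_of_nonneg_left h16 h11
  have h18 := mul_le_mul_of_nonneg_right h8 h14
  push_cast at h18
  have h19 : τ ≤ D.cnt (T.ty x) * σ := le_of_mul_le_mul_left (by linarith) h10
  linarith

/-- **the number of the pairs with a product of a given type** -/
theorem pairs_le (hm : T.Mass) (hR : Tab T R) (hU : Unif T) (hT : SpK.okT D R = true) {a b s c : ℕ} (ha : D.ord a = 2)
    (hb : D.ord b = 2) (hb' : b < D.n) (h : okP D R a b s c = true) :
    Nat.card {p : K × K // T.ty p.1 = a ∧ T.ty p.2 = b ∧ T.ty (p.1 * p.2) = s} ≤ D.cnt b * c := by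
  have := Fintype.ofFinite {y : K // T.ty y = b}
  have h1 : Nat.card {p : K × K // T.ty p.1 = a ∧ T.ty p.2 = b ∧ T.ty (p.1 * p.2) = s} ≤
      Nat.card (Σ y : {y : K // T.ty y = b}, {x : K // T.ty x = a ∧ T.ty (x * y) = s}) :=
    Nat.card_le_card_of_injective (fun p => ⟨⟨p.1.2, p.2.2.1⟩, p.1.1, p.2.1, p.2.2.2⟩) fun _ _ e =>
      Subtype.ext (Prod.ext (congrArg (fun z => z.2.1) e :) (congrArg (fun z => z.1.1) e :))
  rw [Nat.card_sigma] at h1
  refine h1.trans ((Finset.sum_le_card_nsmul _ _ c fun y _ => sc_le hm hR hU hT ha hb h y.2).trans_eq ?_)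
  rw [Finset.card_univ, ← Nat.card_eq_fintype_card, hm.2 b hb', smul_eq_mul]

end Cfsg.Agent.N2.Co2L.SC
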