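import Cfsg.Agent.N2.Co2L.Defs

/-!
# N2 (S3519), the 2-local case of Co1 and Co2: six tetrads (helper97)
-/

set_option autoImplicit false
set_option linter.unusedSimpArgs false
set_option linter.unusedVariables false

namespace Cfsg.Agent.N2.Co2L

open Cfsg Subgroup

namespace Six

section abs

variable {K : Type} [CommGroup K]

/-- the sum of the traces over the products -/
def sm (τ : K → ℤ) : List K → K → ℤ
  | [], g => τ g
  | x :: l, g => sm τ l g + sm τ l (g * x)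

/-- an elementary abelian group with a character of degree 24 -/
structure Cd (m : K) (τ : K → ℤ) : Prop where
  sq : ∀ a : K, a * a = 1
  one : τ 1 = 24
  neg : ∀ a, τ (m * a) = -τ a
  val : ∀ a, a = 1 ∨ a = m ∨ τ a = 8 ∨ τ a = 0 ∨ τ a = -8
  pos : ∀ l, 0 ≤ sm τ l 1

/-- an octad which is perpendicular to two octads -/
def Pq (τ : K → ℤ) (s t z : K) : Prop := τ z = 8 ∧ τ (s * z) = -8 ∧ τ (t * z) = -8

variable {m : K} {τ : K → ℤ} (h : Cd m τ) {s t z u y : K}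

include h

theorem Cd.can (a b : K) : a * (a * b) = b := by rw [← mul_assoc, h.sq, one_mul]

theorem Cd.tm : τ m = -24 := by rw [← mul_one m, h.neg, h.one]

theorem Cd.eq (e : s * t = 1) : s = t := by rw [← h.can s t, e, mul_one]

/-- disjoint octads -/
theorem Cd.q (h1 : τ s = 8) (h2 : τ z = 8) (h3 : τ (s * z) = -8) (y : K) :
    τ (s * (z * y)) = τ (s * y) + τ (z * y) - τ y := by
  have k1 := h.pos [m * s, m * z, y]
  have k2 := h.pos [m * s, m * z, m * y]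
  simp only [sm, mul_assoc, mul_comm, mul_left_comm, one_mul, mul_one, h.can, h.neg, h.one] at k1 k2 ⊢
  omega

theorem Cd.p1 (hs : τ s = 8) (ht : τ t = 8) (hst : τ (s * t) = 8) (k : Pq τ s t z) : τ (s * t * z) = -8 := by
  have k1 := h.q hs k.1 k.2.1 t
  have k2 := k.2.2
  simp only [mul_assoc, mul_comm, mul_left_comm] at k1 k2 ⊢
  omega

theorem Cd.c222 (hs : τ s = 8) (ht : τ t = 8) (hst : τ (s * t) = 8) (k : Pq τ s t z) (hy : τ y = 8) (h1 : τ (s * y) = 8)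
    (h2 : τ (t * y) = 8) (h3 : τ (s * t * y) = 8) : τ (z * y) ≤ 0 := by
  have k0 := h.p1 hs ht hst k
  have k1 := h.q hs k.1 k.2.1 y
  have k2 := h.q ht k.1 k.2.2 y
  have k3 := h.q hst k.1 k0 y
  have k4 := h.pos [s, t, z, m * y]
  obtain ⟨k5, k6, k7⟩ := k
  simp only [sm, mul_assoc, mul_comm, mul_left_comm, one_mul, mul_one, h.can, h.neg, h.one] at *
  omega

theorem Cd.pq (hs : τ s = 8) (ht : τ t = 8) (k : Pq τ s t z) (k' : Pq τ s t u) (hzu : τ (z * u) = 8) : Pq τ s t (z * u) :=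
  ⟨hzu, by rw [mul_comm, h.p1 k.1 k'.1 hzu ⟨hs, mul_comm s z ▸ k.2.1, mul_comm s u ▸ k'.2.1⟩],
    by rw [mul_comm, h.p1 k.1 k'.1 hzu ⟨ht, mul_comm t z ▸ k.2.2, mul_comm t u ▸ k'.2.2⟩]⟩

/-- the six tetrads cover the points -/
theorem Cd.key (hs : τ s = 8) (ht : τ t = 8) (hst : τ (s * t) = 8) (k : Pq τ s t z) (k' : Pq τ s t u) (hzu : τ (z * u) = 8)
    (y : K) : τ (s * y) + τ (t * y) + τ (s * t * y) + τ (z * y) + τ (u * y) + τ (z * u * y) = 2 * τ y := by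
  have k'' := h.pq hs ht k k' hzu
  have a1 := h.p1 hs ht hst k
  have a2 := h.p1 hs ht hst k'
  have a3 := h.p1 hs ht hst k''
  have b1 := h.q hs k.1 k.2.1 y
  have b2 := h.q ht k.1 k.2.2 y
  have b3 := h.q hst k.1 a1 y
  have b4 := h.q hs k'.1 k'.2.1 y
  have b5 := h.q ht k'.1 k'.2.2 y
  have b6 := h.q hst k'.1 a2 y
  have b7 := h.q hs hzu k''.2.1 y
  have b8 := h.q ht hzu k''.2.2 y
  have b9 := h.q hst hzu a3 y
  have c1 := h.pos [s, t, z, u, y]
  have c2 := h.pos [s, t, z, u, m * y]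
  obtain ⟨k1, k2, k3⟩ := k
  obtain ⟨k4, k5, k6⟩ := k'
  obtain ⟨-, k7, k8⟩ := k''
  simp only [sm, mul_assoc, mul_comm, mul_left_comm, one_mul, mul_one, h.can, h.neg, h.one] at *
  omega

theorem Cd.mem (hs : τ s = 8) (ht : τ t = 8) (hst : τ (s * t) = 8) (k : Pq τ s t z) (k' : Pq τ s t u) (hzu : τ (z * u) = 8)
    (hy : Pq τ s t y) : z = y ∨ u = y ∨ z * u = y := by
  have k1 := h.key hs ht hst k k' hzu y
  have k2 := h.p1 hs ht hst hy
  have k3 : ∀ x, x = y ∨ τ (x * y) ≤ 8 := fun x => by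
    have := h.tm
    rcases h.val (x * y) with e | e | e | e | e
    exacts [.inl (h.eq e), .inr (by rw [e]; omega), .inr e.le, .inr (by omega), .inr (by omega)]
  obtain ⟨k4, k5, k6⟩ := hy
  have k7 := k3 z
  have k8 := k3 u
  have k9 := k3 (z * u)
  by_contra e
  simp only [not_or] at e
  simp only [e, false_or] at k7 k8 k9
  omega

variable (hp : ∀ a, τ a ≠ 0)

include hp

theorem Cd.v8 (hs : τ s = 8) (hy : τ y = 8) : s = y ∨ τ (s * y) = 8 ∨ τ (s * y) = -8 := by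
  rcases h.val (s * y) with e | e | e | e | e
  · exact .inl (h.eq e)
  · rw [← h.can s y, e, mul_comm, h.neg] at hy
    omega
  exacts [.inr (.inl e), absurd e (hp _), .inr (.inr e)]

/-- the positions of an octad -/
theorem Cd.red (hs : τ s = 8) (ht : τ t = 8) (hst : τ (s * t) = 8) (hy : τ y = 8) : (s = y ∨ t = y ∨ s * t = y) ∨
    (τ (s * y) = 8 ∧ τ (t * y) = 8 ∧ τ (s * t * y) = 8) ∨ Pq τ s t y ∨
      ∃ x, (x = s ∨ x = t ∨ x = s * t) ∧ τ (x * y) = -8 ∧ Pq τ s t (m * (x * y)) := by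
  have a1 := fun k => h.p1 hs ht hst (z := y) k
  have a2 := fun k => h.p1 hs hst (by rwa [h.can]) (z := y) k
  have a3 := fun k => h.p1 ht hst (by rwa [mul_left_comm, h.sq, mul_one]) (z := y) k
  simp only [Pq, mul_assoc, mul_left_comm, h.can, hy, true_and, and_imp] at a1 a2 a3
  refine or_iff_not_imp_left.2 fun e => ?_
  rw [not_or, not_or] at e
  rcases (h.v8 hp hs hy).resolve_left e.1 with e1 | e1 <;> rcases (h.v8 hp ht hy).resolve_left e.2.1 with e2 | e2 <;>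
    rcases (h.v8 hp hst hy).resolve_left e.2.2 with e3 | e3
  · exact .inl ⟨e1, e2, e3⟩
  · refine .inr (.inr ⟨_, .inr (.inr rfl), e3, ?_⟩)
    simp only [Pq, mul_assoc, mul_left_comm, h.can, h.neg] at e3 ⊢
    omega
  · refine .inr (.inr ⟨_, .inr (.inl rfl), e2, ?_⟩)
    simp only [Pq, mul_assoc, mul_left_comm, h.can, h.neg] at e3 ⊢
    omega
  · rw [mul_assoc] at e3
    omega
  · refine .inr (.inr ⟨_, .inl rfl, e1, ?_⟩)
    simp only [Pq, mul_assoc, mul_left_comm, h.can, h.neg] at e3 ⊢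
    omega
  · rw [mul_assoc] at e3
    omega
  · rw [mul_assoc] at e3
    omega
  · exact .inr (.inl ⟨hy, e1, e2⟩)

/-- the second pair -/
theorem Cd.pair (hs : τ s = 8) (ht : τ t = 8) (hst : τ (s * t) = 8) (hy : τ y = 8) (h1 : τ (s * y) = -8)
    (hr : ∀ z, τ z = 8 → ∃ g, τ g = 8 ∧ τ (z * g) = 8) : ∃ z u, Pq τ s t z ∧ Pq τ s t u ∧ τ (z * u) = 8 := by
  obtain ⟨z, k⟩ : ∃ z, Pq τ s t z := by
    rcases h.red hp hs ht hst hy with (rfl | rfl | rfl) | e | e | ⟨x, -, -, e⟩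
    · rw [h.sq, h.one] at h1
      omega
    · omega
    · rw [h.can] at h1
      omega
    · omega
    exacts [⟨_, e⟩, ⟨_, e⟩]
  obtain ⟨g, h2, h3⟩ := hr z k.1
  have h4 := h.p1 hs ht hst k
  have h5 : ∀ x, x = s ∨ x = t ∨ x = s * t → τ x = 8 ∧ τ (x * z) = -8 := by
    rintro x (rfl | rfl | rfl)
    exacts [⟨hs, k.2.1⟩, ⟨ht, k.2.2⟩, ⟨hst, h4⟩]
  rcases h.red hp hs ht hst h2 with e | e | e | ⟨x, e1, e2, e⟩
  · have := (h5 g (e.imp Eq.symm (Or.imp Eq.symm Eq.symm))).2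
    rw [mul_comm] at this
    omega
  · have := h.c222 hs ht hst k h2 e.1 e.2.1 e.2.2
    omega
  · exact ⟨z, g, k, e, h3⟩
  · refine ⟨z, _, k, e, ?_⟩
    rw [mul_left_comm, h.neg, mul_left_comm, h.q (h5 x e1).1 k.1 (h5 x e1).2]
    omega

/-- all octads -/
theorem Cd.all (hs : τ s = 8) (ht : τ t = 8) (hst : τ (s * t) = 8) (k : Pq τ s t z) (k' : Pq τ s t u) (hzu : τ (z * u) = 8)
    (hy : τ y = 8) : ¬ (τ (s * y) = 8 ∧ τ (t * y) = 8 ∧ τ (s * t * y) = 8) := fun e => by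
  have k1 := h.key hs ht hst k k' hzu y
  have k2 := h.c222 hs ht hst k hy e.1 e.2.1 e.2.2
  have k3 := h.c222 hs ht hst k' hy e.1 e.2.1 e.2.2
  have k4 := h.c222 hs ht hst (h.pq hs ht k k' hzu) hy e.1 e.2.1 e.2.2
  have k5 : ∀ x, τ x = 8 → τ (x * y) ≤ 0 → τ (x * y) = -8 := fun x a b => by
    rcases h.v8 hp a hy with rfl | c | c
    · rw [h.sq, h.one] at b
      omega
    all_goals omega
  have k6 := k5 _ k.1 k2
  have k7 := k5 _ k'.1 k3
  have k8 := k5 _ hzu k4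
  omega

omit hp

/-- indices -/
abbrev V : Type := Bool × Bool × Bool × Bool × Bool

/-- sums of indices -/
def xr (a b : V) : V := (a.1 ^^ b.1, a.2.1 ^^ b.2.1, a.2.2.1 ^^ b.2.2.1, a.2.2.2.1 ^^ b.2.2.2.1, a.2.2.2.2 ^^ b.2.2.2.2)

/-- the traces -/
def tb (a : V) : ℤ := cond a.1 (-1) 1 * cond (a.2.1 || a.2.2.1) (cond (a.2.2.2.1 || a.2.2.2.2) (-8) 8)
  (cond (a.2.2.2.1 || a.2.2.2.2) 8 24)

omit h in
theorem tb_eq : ∀ a b, tb (xr a b) = 24 → a = b := by decide +kernel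

omit h in
theorem tb_card : 30 ≤ Fintype.card {p : V × V // tb p.1 = 8 ∧ tb p.2 = 8 ∧ tb (xr p.1 p.2) = 8} := by decide +kernel

theorem Cd.cnd (x : K) (a b : Bool) : cond (a ^^ b) x 1 = cond a x 1 * cond b x 1 := by
  cases a <;> cases b <;> simp [h.sq]

/-- the pairs -/
theorem Cd.count [Finite K] (hs : τ s = 8) (ht : τ t = 8) (hst : τ (s * t) = 8) (k : Pq τ s t z) (k' : Pq τ s t u)
    (hzu : τ (z * u) = 8) : 30 ≤ Nat.card {p : K × K // τ p.1 = 8 ∧ τ p.2 = 8 ∧ τ (p.1 * p.2) = 8} := by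
  let w : V → K := fun a => cond a.1 m 1 * (cond a.2.1 s 1 * cond a.2.2.1 t 1 * (cond a.2.2.2.1 z 1 * cond a.2.2.2.2 u 1))
  have h1 : ∀ a b, w a * w b = w (xr a b) := fun a b => by
    simp only [w, xr, h.cnd]
    ac_rfl
  have h2 : ∀ a, τ (w a) = tb a := by
    have k'' := h.pq hs ht k k' hzu
    have a1 := h.p1 hs ht hst k
    have a2 := h.p1 hs ht hst k'
    have a3 := h.p1 hs ht hst k''
    rintro ⟨_ | _, _ | _, _ | _, _ | _, _ | _⟩ <;>
      simp only [w, cond_true, cond_false, one_mul, mul_one, h.neg, h.one, h.tm, hs, ht, hst, hzu, a1, a2, a3, k.1, k.2.1,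
        k.2.2, k'.1, k'.2.1, k'.2.2, k''.2.1, k''.2.2] <;> rfl
  have h3 : Function.Injective w := fun a b e => tb_eq a b (by rw [← h2, ← h1, e, h.sq, h.one])
  refine tb_card.trans ?_
  rw [← Nat.card_eq_fintype_card]
  exact Nat.card_le_card_of_injective (fun p => ⟨(w p.1.1, w p.1.2), by rw [h1, h2, h2, h2]; exact p.2⟩)
    fun _ _ e => Subtype.ext (Prod.ext (h3 (congrArg (·.1.1) e)) (h3 (congrArg (·.1.2) e)))

end abs

variable {G : Type} [Group G] {L : Lx G}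

/-- the commutative group -/
abbrev cg {E : Subgroup G} (h : ∀ a ∈ E, a * a = 1) : CommGroup E :=
  { (inferInstance : Group E) with
    mul_comm := fun a b => Subtype.ext (by
      have h1 := h _ (mul_mem a.2 b.2)
      calc (a : G) * b = a * (a * b * (a * b)) * b := by rw [h1, mul_one]
        _ = a * a * (b * a) * (b * b) := by group
        _ = b * a := by rw [h a a.2, h b b.2, one_mul, mul_one]) }

theorem pos {K : Type} [CommGroup K] (h : ∀ a : K, a * a = 1) (ρ : K →* Module.End ℂ Vs) {τ : K → ℤ}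
    (hτ : ∀ a, LinearMap.trace ℂ Vs (ρ a) = τ a) (l : List K) : ∃ e : Module.End ℂ Vs, IsIdempotentElem e ∧
      (∀ g, Commute (ρ g) e) ∧ ∀ g, 2 ^ l.length * LinearMap.trace ℂ Vs (ρ g * e) = sm τ l g := by
  induction l with
  | nil => exact ⟨1, .one, fun _ => .one_right _, fun g => by simp [sm, hτ]⟩
  | cons x l ih =>
    obtain ⟨e, h1, h2, h3⟩ := ih
    have h4 : IsIdempotentElem ((1 / 2 : ℂ) • (1 + ρ x)) := by
      show _ * _ = _
      rw [smul_mul_smul_comm, add_mul, one_mul, mul_add, mul_one, ← map_mul, h, map_one]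
      module
    refine ⟨_, .mul_of_commute (((Commute.one_left e).add_left (h2 x)).smul_left _) h4 h1, fun g => .mul_right
      (((Commute.one_right _).add_right ((Commute.all g x).map ρ)).smul_right _) (h2 g), fun g => ?_⟩
    rw [smul_mul_assoc, mul_smul_comm, add_mul, one_mul, mul_add, ← mul_assoc, ← map_mul, map_smul, map_add, sm,
      Int.cast_add, ← h3, ← h3, List.length_cons, pow_succ, smul_eq_mul]
    ring

theorem cd (o : Ok L) {E : Subgroup G} (hm : L.m ∈ E) (h : ∀ a ∈ E, a * a = 1) :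
    @Cd E (cg h) ⟨L.m, hm⟩ fun a => L.tr a := by
  let _ := cg h
  refine ⟨fun a => Subtype.ext (h a a.2), o.tr_one, fun a => o.tr_m_mul a,
    fun a => (o.inv a (h a a.2)).imp Subtype.ext (Or.imp_left Subtype.ext), fun l => ?_⟩
  obtain ⟨e, h1, -, h2⟩ := pos (fun a => Subtype.ext (h a a.2)) (L.ρ.comp E.subtype) (fun a => o.trace a) l
  obtain ⟨n, hn⟩ := idem_nat h1
  have h3 := h2 1
  rw [map_one, one_mul, hn] at h3
  have h4 : ((2 ^ l.length * n : ℕ) : ℤ) = sm (fun a : E => L.tr a) l 1 := by exact_mod_cast h3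
  exact h4 ▸ Int.natCast_nonneg _

end Six

open Six in
/-- **[Six]** -/
theorem boxSix (hD : BoxDiag) : BoxSix := by
  intro G _ _ L o E hm h hp hr s hs t ht hst ⟨r, hr1, hr2⟩
  let _ := cg h
  have c := cd o hm h
  have hc : ∀ a ∈ E, ∀ b ∈ E, a * b = b * a := fun a ha b hb => congrArg Subtype.val (mul_comm (⟨a, ha⟩ : E) ⟨b, hb⟩)
  have hp' : ∀ a : E, L.tr a ≠ 0 := fun a => hp a a.2
  obtain ⟨z, u, k, k', hzu⟩ := c.pair hp' (s := ⟨s, hs⟩) (t := ⟨t, ht⟩) (y := ⟨r, hr1⟩) hst.1.2 hst.2.1.2 hst.2.2.2 hr2.2.1.2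
    hr2.2.2.2 fun z hz => by
      obtain ⟨g, h1, h2, h3, h4⟩ := hr z z.2 ⟨h z z.2, hz⟩
      exact ⟨⟨g, h1⟩, h2.2, ((c.v8 hp' hz (y := ⟨g, h1⟩) h2.2).resolve_left fun e => h3 (congrArg Subtype.val e).symm).resolve_right
        fun e => h4 ⟨⟨h z z.2, hz⟩, h2, hc _ z.2 _ h1, e⟩⟩
  have hq : ∀ x : E, Pq (fun a : E => L.tr a) ⟨s, hs⟩ ⟨t, ht⟩ x → L.Pp s x ∧ L.Pp t x := fun x e =>
    ⟨⟨hst.1, ⟨h x x.2, e.1⟩, hc _ hs _ x.2, e.2.1⟩, hst.2.1, ⟨h x x.2, e.1⟩, hc _ ht _ x.2, e.2.2⟩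
  have w1 : L.m ∈ L.W s t := subset_closure (.inl (.inl rfl))
  have w2 : s ∈ L.W s t := subset_closure (.inl (.inr (.inl rfl)))
  have w3 : t ∈ L.W s t := subset_closure (.inl (.inr (.inr rfl)))
  have w4 : ∀ y : E, L.tr y = 8 → (y : G) ∈ L.W s t := fun y hy => by
    rcases c.red hp' (s := ⟨s, hs⟩) (t := ⟨t, ht⟩) hst.1.2 hst.2.1.2 hst.2.2.2 hy with (rfl | rfl | rfl) | e | e | ⟨x, e1, -, e⟩
    exacts [w2, w3, mul_mem w2 w3, absurd e (c.all hp' hst.1.2 hst.2.1.2 hst.2.2.2 k k' hzu hy),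
      subset_closure (.inr (hq y e)), (mul_mem_cancel_left (by rcases e1 with rfl | rfl | rfl; exacts [w2, w3, mul_mem w2 w3])).1
        ((mul_mem_cancel_left w1).1 (subset_closure (.inr (hq _ e))))]
  refine ⟨le_antisymm (fun y hy => ?_) ((closure_le _).2 ?_), (c.count hst.1.2 hst.2.1.2 hst.2.2.2 k k' hzu).trans
    (Nat.card_le_card_of_injective (fun p => ⟨(p.1.1, p.1.2), p.1.1.2, p.1.2.2, ⟨h _ p.1.1.2, p.2.1⟩, ⟨h _ p.1.2.2, p.2.2.1⟩,
      hc _ p.1.1.2 _ p.1.2.2, p.2.2.2⟩) fun _ _ e => Subtype.ext (Prod.ext (Subtype.ext (congrArg (·.1.1) e))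
        (Subtype.ext (congrArg (·.1.2) e))))⟩
  · rcases o.inv y (h y hy) with rfl | rfl | e | e | e
    exacts [one_mem _, w1, w4 ⟨y, hy⟩ e, absurd e (hp y hy),
      (mul_mem_cancel_left w1).1 (w4 ⟨_, mul_mem hm hy⟩ (by rw [o.tr_m_mul, e, neg_neg]))]
  rintro y ((rfl | rfl | rfl) | ⟨h1, h2⟩)
  · exact hm
  · exact hs
  · exact ht
  have h3 : ∀ x, L.Pp s x ∧ L.Pp t x → y * x = x * y := fun x e => by
    refine (o.comm s hst.1 y (o.pp_mem h1) x (o.pp_mem e.1)).elim id fun a =>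
      (o.comm t hst.2.1 y (o.pp_mem h2) x (o.pp_mem e.2)).elim id fun b => ?_
    have h4 := hst.2.2.2
    rw [mul_left_cancel (mul_left_cancel (a.symm.trans b)), hst.2.1.1, o.tr_one] at h4
    omega
  let X : Set G := {x | x = y ∨ x ∈ E ∧ y * x = x * y}
  have h4 := isMulCommutative_closure (k := X) (by
    rintro a (rfl | ⟨a1, a2⟩) b (rfl | ⟨b1, b2⟩)
    exacts [rfl, b2, a2.symm, hc a a1 b b1])
  have h5 : ∀ a ∈ closure X, a * a = 1 := fun a ha => by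
    induction ha using closure_induction with
    | mem x hx => exact hx.elim (fun e => e ▸ h1.2.1.1) fun e => h x e.1
    | one => exact mul_one 1
    | mul a b ha hb ia ib =>
      rw [mul_assoc, ← mul_assoc b, ← show a * b = b * a from congrArg Subtype.val (h4.1.1 ⟨a, ha⟩ ⟨b, hb⟩), mul_assoc, ib,
        mul_one, ia]
    | inv a _ ia => rw [← mul_inv_rev, ia, inv_one]
  have h6 : ∀ {x}, x ∈ E → y * x = x * y → x ∈ closure X := fun a b => subset_closure (.inr ⟨a, b⟩)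
  let _ := cg h5
  rcases (cd o (h6 hm (o.m_comm y)) h5).mem (s := ⟨s, h6 hs h1.2.2.1.symm⟩) (t := ⟨t, h6 ht h2.2.2.1.symm⟩)
    (z := ⟨z, h6 z.2 (h3 z (hq z k))⟩) (u := ⟨u, h6 u.2 (h3 u (hq u k'))⟩) (y := ⟨y, subset_closure (.inl rfl)⟩)
    hst.1.2 hst.2.1.2 hst.2.2.2 k k' hzu ⟨h1.2.1.2, h1.2.2.2, h2.2.2.2⟩ with e | e | e
  exacts [(Subtype.mk.inj e) ▸ z.2, (Subtype.mk.inj e) ▸ u.2, (Subtype.mk.inj e) ▸ mul_mem z.2 u.2]

end Cfsg.Agent.N2.Co2L
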