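import Cfsg.Agent.N2.Co2L.Two2
import Cfsg.Agent.N2.Co2L.N33
import Cfsg.Agent.N2.Co2L.Cov1

/-!
# N2 (S3519): a bad subgroup of `Co1` is not 2-local (helper26)
-/

set_option autoImplicit false

namespace Cfsg.Agent.N2.Co2L

open Cfsg Cfsg.Agent.FP3 Cfsg.Agent.N2.Sp Cfsg.Agent.TAB.Eng Cfsg.Agent.TAB.Use Cfsg.Agent.TH.Spor

theorem two_Co1 {K : Type} [Group K] [Finite K] [IsSimpleGroup K] (hK : Spor.IsoCo1 K) {T : TD K Sp.Co1.D}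
    (H : Hy T Sp.Co1.R Sp.Co1.nu) (hu : Unif T) {A : Subgroup K} {Γ : Subgroup (MulAut K)} (h : MI A Γ) (hb : ¬ Good A) :
    pCore 2 A = ⊥ :=
  two_Co1_of main boxG0 boxOk (boxCov1 boxDict1) boxN33 boxMix1 K hK T H hu A Γ h hb

end Cfsg.Agent.N2.Co2L
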