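import Cfsg.Agent.N2.Co2L.Asm
import Cfsg.Agent.N2.Co2L.Diag
import Cfsg.Agent.N2.Co2L.Np
import Cfsg.Agent.N2.Co2L.GR
import Cfsg.Agent.N2.Co2L.Rad
import Cfsg.Agent.N2.Co2L.Six
import Cfsg.Agent.N2.Co2L.C5
import Cfsg.Agent.N2.Co2L.Ff
import Cfsg.Agent.N2.Co2L.Q
import Cfsg.Agent.N2.Co2L.Hb
import Cfsg.Agent.N2.Co2L.Ok
import Cfsg.Agent.N2.Co2L.Cov2
import Cfsg.Agent.N2.Co2L.Mix

/-!
# N2 (S3519): a bad subgroup of `Co2` is not 2-local (helper26)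
-/

set_option autoImplicit false

namespace Cfsg.Agent.N2.Co2L

open Cfsg Cfsg.Agent.FP3 Cfsg.Agent.N2.Sp Cfsg.Agent.TAB.Eng Cfsg.Agent.TAB.Use Cfsg.Agent.TH.Spor

theorem main : BoxMain :=
  boxMain boxR (boxRad boxDiag) (boxSix boxDiag) boxCnt boxNp (boxC5 boxDiag boxFpf boxR) boxFf (boxE6 boxThree)
    (boxQ boxDiag) boxHb

theorem two_Co2 {K : Type} [Group K] [Finite K] [IsSimpleGroup K] (hK : Spor.IsoCo2 K) {T : TD K Sp.Co2.D}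
    (H : Hy T Sp.Co2.R Sp.Co2.nu) (hu : Unif T) {A : Subgroup K} {Γ : Subgroup (MulAut K)} (h : MI A Γ) (hb : ¬ Good A) :
    pCore 2 A = ⊥ :=
  two_Co2_of main boxG0 boxOk (boxCov2 boxDict2) boxMix2 K hK T H hu A Γ h hb

end Cfsg.Agent.N2.Co2L
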